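import Cfsg.Agent.LargeExtra.EightSmith.Code

/-!
# Finite checks on the module of `S₃ × S₆`
-/

set_option autoImplicit false
set_option linter.style.haveILetI false
set_option linter.unusedSectionVars false
set_option maxRecDepth 40000
set_option maxHeartbeats 4000000
set_option synthInstance.maxSize 4096
set_option synthInstance.maxHeartbeats 400000

open Equiv

namespace Cfsg.Lib.LargeExtra.EightSmith

/-- An involution commuting with `w` involves no power of `w`. -/
theorem cent_involution : ∀ m : Fin 3, ∀ σ : Perm (Fin 6), σ * σ = 1 →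
    act false m σ (act false m σ 1) = 1 → m = 0 := by decide +kernel

/-- A centralizing element fixing `1` involves no power of `w`. -/
theorem cent_fix_one : ∀ m : Fin 3, ∀ σ : Perm (Fin 6), act false m σ 1 = 1 → m = 0 := by decide +kernel

/-- Elements of order three fixing `1` fix in `xOne` modulo `1` only the line of `1`. -/
theorem three_fix : ∀ σ : Perm (Fin 6), σ * σ * σ = 1 → act false 0 σ 1 = 1 → σ ≠ 1 →
    ∀ x ∈ xOne, (act false 0 σ x = x ∨ act false 0 σ x = xadd x 1) → x ∈ [(0 : Fin 256), 1, 16, 17] := by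
  decide +kernel

theorem rankOne_orbit : ∀ m : Fin 3, ∀ σ : Perm (Fin 6), rankOne (act false m σ 1) := by decide +kernel

theorem rot3_ok : Perm.sign rot3 = 1 ∧ rot3 ^ 3 = 1 ∧ act false 0 rot3 1 = 1 ∧
    act false 0 rot3 6 ≠ 6 ∧ act false 0 rot3 6 ≠ 7 ∧ act false 0 rot3 16 = 16 := by decide +kernel

theorem centL_four : ∀ π ∈ centL, π ≠ swap 0 1 → ∀ π' ∈ centL, π' = rot3 * π * rot3⁻¹ →
    π * π' ∈ [swap (2 : Fin 6) 3 * swap 4 5, swap 2 4 * swap 3 5, swap 2 5 * swap 3 4] := by decide +kernel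

theorem four_rot : ∀ π ∈ [swap (2 : Fin 6) 3 * swap 4 5, swap 2 4 * swap 3 5, swap 2 5 * swap 3 4],
    rot3 * π * rot3⁻¹ ∈ [swap (2 : Fin 6) 3 * swap 4 5, swap 2 4 * swap 3 5, swap 2 5 * swap 3 4] ∧
      rot3 * π * rot3⁻¹ ≠ π ∧ rot3 * (rot3 * π * rot3⁻¹) * rot3⁻¹ ≠ π := by decide +kernel

theorem yL_rankOne : ∀ y ∈ yL, rankOne y → ∃ m : Fin 3, ∃ p ∈ pairsL, act false m 1 p = y := by decide +kernel

theorem yL_count : (yL.filter fun y => decide (rankOne y)).length = 9 := by decide +kernel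

theorem rotP_ok : Perm.sign rotP = 1 ∧ act false 0 rotP 1 = 6 ∧ act false 0 rotP 6 = 7 ∧
    act false 0 rotP 7 = 1 := by decide +kernel

theorem fix_pairs : ∀ π ∈ centL, act false 0 π 6 = 6 →
    π = swap 2 3 * swap 4 5 ∨ π = swap 0 1 ∨ π = swap 0 1 * (swap 2 3 * swap 4 5) := by decide +kernel

theorem fix_space : ∀ π ∈ [swap (2 : Fin 6) 3 * swap 4 5, swap 0 1 * swap 4 5, swap 0 1 * swap 2 3],
    ∀ x : Fin 256, act false 0 π x = x ↔ x ∈ yL := by decide +kernel

theorem xOne_shifts : ∀ σ ∈ invL, ∀ x ∈ xOne, ∃ y ∈ perpAllOne,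
    xadd (act true 0 σ y) y = x ∨ xadd (xadd (act true 0 σ y) y) 16 = x := by decide +kernel

theorem centL_shift : ∀ π ∈ [swap (2 : Fin 6) 3 * swap 4 5, swap 2 4 * swap 3 5, swap 2 5 * swap 3 4],
    ∃ y ∈ perpAllOne, xadd (act false 0 π y) y = 16 := by decide +kernel

end Cfsg.Lib.LargeExtra.EightSmith
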