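import Cfsg.Agent.LargeExtra.EightSmith.Natural

/-!
# Coordinates from a fixed line of a four group
-/

set_option autoImplicit false
set_option linter.style.haveILetI false
set_option linter.unusedSectionVars false
set_option maxRecDepth 40000
set_option synthInstance.maxSize 4096
set_option synthInstance.maxHeartbeats 400000

open Module Equiv

namespace Cfsg.Lib.LargeExtra.EightSmith

variable {V : Type*} [AddCommGroup V] [Module (ZMod 2) V] [Finite V]
variable {q : QuadraticForm (ZMod 2) V}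

open Rep (a₁ a₂ b₂ a_ok)

local notation "𝐁" => QuadraticMap.polarBilin q

/-- Coordinates on `V` carrying `w` and the alternating group to the standard module. -/
structure Coords (R : Rep q) where
  Ψ : Fin 256 → V
  bij : Function.Bijective Ψ
  add : ∀ x y, Ψ (xadd x y) = Ψ x + Ψ y
  form : ∀ x, q (Ψ x) = (qc x : ZMod 2)
  hw : ∀ x, R.w (Ψ x) = Ψ (act false 1 1 x)
  equi : ∀ σ, Perm.sign σ = 1 → ∀ x, R.P σ (Ψ x) = Ψ (act false 0 σ x)
  code : ∀ (g : V ≃ₗ[ZMod 2] V) (σ : Perm (Fin 6)),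
    (∀ π, Perm.sign π = 1 → ∀ x, g (R.P π x) = R.P (σ * π * σ⁻¹) (g x)) →
    ((∀ x, g (R.w x) = R.w (g x)) → ∃ m, ∀ x, g (Ψ x) = Ψ (act false m σ x)) ∧
    ((∀ x, g (R.w x) = R.w (R.w (g x))) → ∃ m, ∀ x, g (Ψ x) = Ψ (act true m σ x))

/-- The stabilizer of a pair in the alternating group. -/
def stabL : List (Perm (Fin 6)) :=
  [1, a₁, a₂, a₁ * a₂].flatMap fun k =>
    [k, k * rot3, k * (rot3 * rot3), k * b₂, k * rot3 * b₂, k * (rot3 * rot3) * b₂]

theorem stabL_complete : ∀ σ : Perm (Fin 6), Perm.sign σ = 1 →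
    ((σ 0 = 0 ∧ σ 1 = 1) ∨ (σ 0 = 1 ∧ σ 1 = 0)) → σ ∈ stabL := by
  decide +kernel

theorem exists_alt_first : ∀ i : Fin 6, ∃ σ ∈ [(1 : Perm (Fin 6)), swap 0 1 * swap 4 5, swap 0 2 * swap 4 5,
    swap 0 3 * swap 4 5, swap 0 4 * swap 2 3, swap 0 5 * swap 2 3], Perm.sign σ = 1 ∧ σ 0 = i := by
  decide +kernel

theorem exists_alt_second : ∀ j : Fin 6, j ≠ 0 → ∃ σ ∈ [(1 : Perm (Fin 6)), swap 1 2 * swap 4 5, swap 1 3 * swap 4 5,
    swap 1 4 * swap 2 3, swap 1 5 * swap 2 3], Perm.sign σ = 1 ∧ σ 0 = 0 ∧ σ 1 = j := by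
  decide +kernel

theorem exists_alt {i j : Fin 6} (h : i ≠ j) : ∃ σ : Perm (Fin 6), Perm.sign σ = 1 ∧ σ 0 = i ∧ σ 1 = j := by
  obtain ⟨a, -, ha, ha0⟩ := exists_alt_first i
  have hj : a⁻¹ j ≠ 0 := fun e => h (by rw [← ha0, ← e]; exact a.apply_symm_apply j)
  obtain ⟨b, -, hb, hb0, hb1⟩ := exists_alt_second (a⁻¹ j) hj
  exact ⟨a * b, by rw [map_mul, ha, hb, mul_one], by rw [Perm.mul_apply, hb0, ha0],
    by rw [Perm.mul_apply, hb1]; exact a.apply_symm_apply j⟩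

theorem nodup_six {i j k l m n : Fin 6} (h : [i, j, k, l, m, n].Nodup) :
    Function.Injective ![i, j, k, l, m, n] := by
  intro a b e
  have := List.nodup_iff_injective_get.mp h (a₁ := ⟨a, a.2⟩) (a₂ := ⟨b, b.2⟩) (by
    fin_cases a <;> fin_cases b <;> simpa using e)
  exact Fin.ext (congrArg (fun z : Fin _ => (z : ℕ)) this)

/-- A bit of a number as a scalar. -/
def bitZ (a k : ℕ) : ZMod 2 := ((a / 2 ^ k % 2 : ℕ) : ZMod 2)

theorem bitZ_xor : ∀ a b : Fin 16, ∀ k : Fin 4,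
    bitZ (Nat.xor a b) k = bitZ a k + bitZ b k := by decide +kernel

theorem xor_lt : ∀ a b : Fin 16, Nat.xor a b < 16 := by decide +kernel

theorem xadd_parts : ∀ x y : Fin 256,
    (xadd x y).val % 16 = Nat.xor (x.val % 16) (y.val % 16) ∧
      (xadd x y).val / 16 = Nat.xor (x.val / 16) (y.val / 16) := by
  decide +kernel

theorem act_parts : ∀ a b : Fin 16,
    wpow 0 a b % 256 % 16 = a ∧ wpow 0 a b % 256 / 16 = b ∧
    wpow 1 a b % 256 % 16 = b ∧ wpow 1 a b % 256 / 16 = Nat.xor a b ∧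
    wpow 2 a b % 256 % 16 = Nat.xor a b ∧ wpow 2 a b % 256 / 16 = a := by
  decide +kernel

theorem wact_one : ∀ a : Fin 16, wact 1 a = a := by decide +kernel

theorem fN_expand : ∀ a b : Fin 16, ((fN a b : ℕ) : ZMod 2) =
    bitZ a 0 * (bitZ b 1 + bitZ b 2 + bitZ b 3) + bitZ a 1 * (bitZ b 0 + bitZ b 2 + bitZ b 3) +
      (bitZ a 2 * (bitZ b 0 + bitZ b 1 + bitZ b 3) + bitZ a 3 * (bitZ b 0 + bitZ b 1 + bitZ b 2)) := by
  decide +kernel

theorem four_fixed : ∀ a : Fin 16, wact a₁ a = a → wact a₂ a = a → a = 0 ∨ a = 1 := by decide +kernel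

theorem upt_lt : ∀ i : Fin 6, upt i < 16 := by decide +kernel

theorem xor_four_lt {a b : ℕ} (ha : a < 16) (hb : b < 16) : Nat.xor a b < 16 := xor_lt ⟨a, ha⟩ ⟨b, hb⟩

theorem wact_lt (σ : Perm (Fin 6)) (a : ℕ) : wact σ a < 16 := by
  unfold wact
  refine xor_four_lt (xor_four_lt ?_ ?_) (xor_four_lt ?_ ?_) <;>
    split <;> first | exact xor_four_lt (upt_lt _) (upt_lt _) | norm_num

namespace Rep

variable (R : Rep q) (h2 : finrank (ZMod 2) ↥(fixs (R.P a₁) ⊓ fixs (R.P a₂)) = 2)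

/-- The line fixed by the four group. -/
def line : Submodule (ZMod 2) V := fixs (R.P a₁) ⊓ fixs (R.P a₂)

include h2

theorem line_cases {v x : V} (hv : v ∈ R.line) (hv0 : v ≠ 0) (hx : x ∈ R.line) :
    x = 0 ∨ x = v ∨ x = R.w v ∨ x = R.w (R.w v) := by
  classical
  haveI := Fintype.ofFinite V
  have hwl : ∀ y ∈ R.line, R.w y ∈ R.line := fun y hy => ⟨R.fixs_w y hy.1, R.fixs_w y hy.2⟩
  have h1 : R.w v ≠ v := fun e => hv0 (R.fpfw v e)
  have h1' : R.w (R.w v) ≠ R.w v := fun e => h1 (R.w.injective e)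
  have h1'' : R.w (R.w v) ≠ v := fun e => h1 (by have := congrArg R.w e; rw [R.www] at this; exact this.symm)
  have hw0 : R.w v ≠ 0 := fun e => hv0 (R.w.map_eq_zero_iff.mp e)
  have hww0 : R.w (R.w v) ≠ 0 := fun e => hw0 (R.w.map_eq_zero_iff.mp e)
  let T : Finset V := {0, v, R.w v, R.w (R.w v)}
  have hT : T.card = 4 := by
    rw [Finset.card_eq_four]
    exact ⟨0, v, R.w v, R.w (R.w v), hv0.symm, hw0.symm, hww0.symm, h1.symm, h1''.symm, h1'.symm, rfl⟩
  have hsub : T ⊆ Finset.univ.filter fun y => y ∈ R.line := by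
    intro y hy
    simp only [T, Finset.mem_insert, Finset.mem_singleton] at hy
    refine Finset.mem_filter.mpr ⟨Finset.mem_univ _, ?_⟩
    rcases hy with rfl | rfl | rfl | rfl
    exacts [zero_mem _, hv, hwl _ hv, hwl _ (hwl _ hv)]
  have heq := Finset.eq_of_subset_of_card_le hsub (by
    rw [hT, ← Fintype.card_subtype, ← Nat.card_eq_fintype_card]
    have := Module.natCard_eq_pow_finrank (K := ZMod 2) (V := R.line)
    rw [show finrank (ZMod 2) R.line = 2 from h2, Nat.card_zmod] at this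
    exact this.le)
  have : x ∈ T := heq ▸ Finset.mem_filter.mpr ⟨Finset.mem_univ _, hx⟩
  simpa [T] using this

theorem exists_fixed : ∃ v ∈ R.line, v ≠ 0 ∧ ∀ σ ∈ stabL, R.P σ v = v := by
  obtain ⟨s1, s2, s3, q1, q2, q3, -, -, -, -, -, sr, -⟩ := a_ok
  have hne : R.line ≠ ⊥ := fun e => by
    have := h2
    rw [show fixs (R.P a₁) ⊓ fixs (R.P a₂) = ⊥ from e, finrank_bot] at this
    omega
  obtain ⟨v, hv, hv0⟩ := Submodule.exists_mem_ne_zero_of_ne_bot hne
  refine ⟨v, hv, hv0, ?_⟩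
  have hb : b₂ * a₁ * b₂⁻¹ = a₁ ∧ b₂ * a₂ * b₂⁻¹ = a₁ * a₂ ∧ b₂ * rot3 * b₂ = rot3 * rot3 := by decide +kernel
  have hmem : ∀ y, y ∈ R.line → R.P (a₁ * a₂) y = y := fun y hy => by
    rw [R.P_mul s1 s2, LinearEquiv.mul_apply, mem_fixs.mp hy.2, mem_fixs.mp hy.1]
  have hrot : R.P rot3 v ∈ R.line := by
    have e1 : R.P (rot3 * a₁ * rot3⁻¹) (R.P rot3 v) = R.P rot3 v := by rw [R.P_conj sr s1, mem_fixs.mp hv.1]
    have e2 : R.P (rot3 * a₂ * rot3⁻¹) (R.P rot3 v) = R.P rot3 v := by rw [R.P_conj sr s2, mem_fixs.mp hv.2]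
    have h : rot3 * a₁ * rot3⁻¹ = a₂ ∧ rot3 * a₂ * rot3⁻¹ = a₁ * a₂ ∨
        rot3 * a₁ * rot3⁻¹ = a₁ * a₂ ∧ rot3 * a₂ * rot3⁻¹ = a₁ := by decide +kernel
    rcases h with ⟨r1, r2⟩ | ⟨r1, r2⟩
    · rw [r1] at e1; rw [r2] at e2
      refine ⟨mem_fixs.mpr ?_, mem_fixs.mpr e1⟩
      rw [show a₁ = a₁ * a₂ * a₂ by rw [mul_assoc, q2, mul_one], R.P_mul (by simp [s1, s2]) s2,
        LinearEquiv.mul_apply, e1, e2]
    · rw [r1] at e1; rw [r2] at e2
      refine ⟨mem_fixs.mpr e2, mem_fixs.mpr ?_⟩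
      rw [show a₂ = a₁ * (a₁ * a₂) by rw [← mul_assoc, q1, one_mul], R.P_mul s1 (by simp [s1, s2]),
        LinearEquiv.mul_apply, e1, e2]
  have hbv : R.P b₂ v ∈ R.line := by
    have e1 : R.P (b₂ * a₁ * b₂⁻¹) (R.P b₂ v) = R.P b₂ v := by rw [R.P_conj s3 s1, mem_fixs.mp hv.1]
    have e2 : R.P (b₂ * a₂ * b₂⁻¹) (R.P b₂ v) = R.P b₂ v := by rw [R.P_conj s3 s2, mem_fixs.mp hv.2]
    rw [hb.1] at e1
    rw [hb.2.1] at e2
    refine ⟨mem_fixs.mpr e1, mem_fixs.mpr ?_⟩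
    rw [show a₂ = a₁ * (a₁ * a₂) by rw [← mul_assoc, q1, one_mul], R.P_mul s1 (by simp [s1, s2]),
      LinearEquiv.mul_apply, e2, e1]
  have hbb : ∀ y, R.P b₂ (R.P b₂ y) = y := fun y => by
    rw [← LinearEquiv.mul_apply, ← R.P_mul s3 s3, q3, R.P_one]; rfl
  have hww : R.w (R.w v) ≠ v := fun e => hv0 (R.fpfw v (by
    have := congrArg R.w e; rw [R.www] at this; exact this.symm))
  have hw1 : R.w v ≠ v := fun e => hv0 (R.fpfw v e)
  have hbfix : R.P b₂ v = v := by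
    rcases R.line_cases h2 hv hv0 hbv with e | e | e | e
    · exact absurd ((R.P b₂).map_eq_zero_iff.mp e) hv0
    · exact e
    · have := hbb v
      rw [e, R.P_w, e] at this
      exact absurd this hww
    · have := hbb v
      rw [e, R.P_w, R.P_w, e, R.www] at this
      exact absurd this hw1
  have hrfix : R.P rot3 v = v := by
    have hrr : R.P b₂ (R.P rot3 (R.P b₂ v)) = R.P rot3 (R.P rot3 v) := by
      rw [← LinearEquiv.mul_apply, ← LinearEquiv.mul_apply, mul_assoc, ← R.P_mul sr s3,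
        ← R.P_mul s3 (by simp [sr, s3]), ← mul_assoc, hb.2.2, R.P_mul sr sr]; rfl
    rw [hbfix] at hrr
    rcases R.line_cases h2 hv hv0 hrot with e | e | e | e
    · exact absurd ((R.P rot3).map_eq_zero_iff.mp e) hv0
    · exact e
    · rw [e, R.P_w, hbfix, R.P_w, e] at hrr
      exact absurd (R.w.injective hrr).symm hw1
    · rw [e, R.P_w, R.P_w, hbfix, R.P_w, R.P_w, e, R.www] at hrr
      exact absurd (R.w.injective hrr) hw1
  intro σ hσ
  simp only [stabL, List.mem_flatMap, List.mem_cons, List.not_mem_nil, or_false] at hσ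
  obtain ⟨k, hk, hσ⟩ := hσ
  have hks : Perm.sign k = 1 ∧ R.P k v = v := by
    rcases hk with rfl | rfl | rfl | rfl
    · exact ⟨map_one _, by rw [R.P_one]; rfl⟩
    · exact ⟨s1, mem_fixs.mp hv.1⟩
    · exact ⟨s2, mem_fixs.mp hv.2⟩
    · exact ⟨by simp [s1, s2], hmem v hv⟩
  obtain ⟨sk, fk⟩ := hks
  rcases hσ with rfl | rfl | rfl | rfl | rfl | rfl <;>
    simp [R.P_mul, sk, sr, s3, fk, hbfix, hrfix]

/-- The vector of a pair. -/
noncomputable def vp (v : V) (i j : Fin 6) : V :=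
  if h : i ≠ j then R.P (exists_alt h).choose v else 0

omit h2 in
theorem vp_eq {v : V} (hv : ∀ σ ∈ stabL, R.P σ v = v) {σ : Perm (Fin 6)} (hσ : Perm.sign σ = 1)
    {i j : Fin 6} (h : (σ 0 = i ∧ σ 1 = j) ∨ (σ 0 = j ∧ σ 1 = i)) : R.vp v i j = R.P σ v := by
  have hij : i ≠ j := by
    rintro rfl
    rcases h with ⟨e1, e2⟩ | ⟨e1, e2⟩ <;> exact absurd (σ.injective (e1.trans e2.symm)) (by decide)
  rw [vp, dif_pos hij]
  obtain ⟨hπ, h0, h1⟩ := (exists_alt hij).choose_spec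
  set π := (exists_alt hij).choose
  have hs : Perm.sign (σ⁻¹ * π) = 1 := by rw [map_mul, map_inv, hσ, hπ, inv_one, one_mul]
  have hmem : σ⁻¹ * π ∈ stabL := by
    refine stabL_complete _ hs ?_
    rcases h with ⟨e1, e2⟩ | ⟨e1, e2⟩
    · left
      constructor <;> (rw [Perm.mul_apply]; first | rw [h0, ← e1] | rw [h1, ← e2]) <;> exact σ.symm_apply_apply _
    · right
      constructor <;> (rw [Perm.mul_apply]; first | rw [h0, ← e2] | rw [h1, ← e1]) <;> exact σ.symm_apply_apply _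
  conv_rhs => rw [← hv _ hmem]
  rw [← LinearEquiv.mul_apply, ← R.P_mul hσ hs, mul_inv_cancel_left]

omit h2 in
theorem vp_map {v : V} (hv : ∀ σ ∈ stabL, R.P σ v = v) {π : Perm (Fin 6)} (hπ : Perm.sign π = 1)
    {i j : Fin 6} (hij : i ≠ j) : R.P π (R.vp v i j) = R.vp v (π i) (π j) := by
  obtain ⟨σ, hσ, h0, h1⟩ := exists_alt hij
  rw [R.vp_eq hv hσ (Or.inl ⟨h0, h1⟩), R.vp_eq hv (σ := π * σ) (by rw [map_mul, hπ, hσ, mul_one])
    (Or.inl ⟨by rw [Perm.mul_apply, h0], by rw [Perm.mul_apply, h1]⟩), R.P_mul hπ hσ]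
  rfl

omit h2 in
theorem vp_comm {v : V} (hv : ∀ σ ∈ stabL, R.P σ v = v) (i j : Fin 6) : R.vp v i j = R.vp v j i := by
  by_cases hij : i = j
  · rw [hij]
  obtain ⟨σ, hσ, h0, h1⟩ := exists_alt hij
  rw [R.vp_eq hv hσ (Or.inl ⟨h0, h1⟩), R.vp_eq hv hσ (Or.inr ⟨h0, h1⟩)]

omit h2 in
theorem vp_base {v : V} (hv : ∀ σ ∈ stabL, R.P σ v = v) : R.vp v 0 1 = v := by
  rw [R.vp_eq hv (σ := 1) (map_one _) (i := 0) (j := 1) (Or.inl ⟨rfl, rfl⟩), R.P_one]; rfl

omit h2 in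
theorem vp_ne {v : V} (hv : ∀ σ ∈ stabL, R.P σ v = v) (hv0 : v ≠ 0) {i j : Fin 6} (hij : i ≠ j) :
    R.vp v i j ≠ 0 := by
  obtain ⟨σ, hσ, h0, h1⟩ := exists_alt hij
  rw [R.vp_eq hv hσ (Or.inl ⟨h0, h1⟩)]
  exact fun e => hv0 ((R.P σ).map_eq_zero_iff.mp e)

theorem line_zero {v : V} (hvl : v ∈ R.line) (hv0 : v ≠ 0) (hv : ∀ σ ∈ stabL, R.P σ v = v) :
    R.vp v 0 1 + R.vp v 2 3 + R.vp v 4 5 = 0 := by
  obtain ⟨s1, s2, -, -, -, -, -, -, -, -, -, -, sp⟩ := a_ok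
  set x := R.vp v 2 3 + R.vp v 4 5 with hx
  have hxl : x ∈ R.line := by
    constructor <;> refine mem_fixs.mpr ?_
    · rw [hx, map_add, R.vp_map hv s1 (by decide), R.vp_map hv s1 (by decide),
        show a₁ 2 = 3 by decide, show a₁ 3 = 2 by decide, show a₁ 4 = 5 by decide, show a₁ 5 = 4 by decide,
        R.vp_comm hv 3 2, R.vp_comm hv 5 4]
    · rw [hx, map_add, R.vp_map hv s2 (by decide), R.vp_map hv s2 (by decide),
        show a₂ 2 = 4 by decide, show a₂ 3 = 5 by decide, show a₂ 4 = 2 by decide, show a₂ 5 = 3 by decide,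
        add_comm]
  have hbase := R.vp_base hv
  have hcases := R.line_cases h2 hvl hv0 hxl
  rw [hbase, add_assoc, ← hx]
  by_cases h0 : x = 0
  · exfalso
    have e : R.vp v 2 3 = R.vp v 4 5 := add_eq_zero_iff'.mp h0
    have e' : R.vp v 4 5 = R.vp v 0 1 := by
      have := congrArg (R.P rotP) e
      rwa [R.vp_map hv sp (by decide), R.vp_map hv sp (by decide), show rotP 2 = 4 by decide,
        show rotP 3 = 5 by decide, show rotP 4 = 0 by decide, show rotP 5 = 1 by decide] at this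
    have hσ : Perm.sign (swap (4 : Fin 6) 5 * swap 5 0) = 1 := by decide +kernel
    have e'' : R.vp v 2 3 = R.vp v 5 0 := by
      have := congrArg (R.P (swap (4 : Fin 6) 5 * swap 5 0)) e
      rwa [R.vp_map hv hσ (by decide), R.vp_map hv hσ (by decide),
        show (swap (4 : Fin 6) 5 * swap 5 0 : Perm (Fin 6)) 2 = 2 by decide, show (swap (4 : Fin 6) 5 * swap 5 0 : Perm (Fin 6)) 3 = 3 by decide,
        show (swap (4 : Fin 6) 5 * swap 5 0 : Perm (Fin 6)) 4 = 5 by decide, show (swap (4 : Fin 6) 5 * swap 5 0 : Perm (Fin 6)) 5 = 0 by decide]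
        at this
    -- a five-cycle fixing `v`
    have hc : Perm.sign (swap (1 : Fin 6) 0 * swap 0 5 * swap 5 2 * swap 2 3) = 1 ∧
        (swap (1 : Fin 6) 0 * swap 0 5 * swap 5 2 * swap 2 3) ^ 5 = 1 ∧
        swap (1 : Fin 6) 0 * swap 0 5 * swap 5 2 * swap 2 3 ≠ 1 := by decide +kernel
    refine hv0 (R.P_five hc.1 hc.2.1 hc.2.2 ?_)
    conv_lhs => rw [← hbase]
    rw [R.vp_map hv hc.1 (by decide), show (swap (1 : Fin 6) 0 * swap 0 5 * swap 5 2 * swap 2 3 : Perm (Fin 6)) 0 = 5 by decide,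
      show (swap (1 : Fin 6) 0 * swap 0 5 * swap 5 2 * swap 2 3 : Perm (Fin 6)) 1 = 0 by decide, ← e'', e, e', hbase]
  have key : ∀ g : V ≃ₗ[ZMod 2] V, (∀ y, g (R.P rotP y) = R.P rotP (g y)) → x = g v →
      g (v + x) = 0 := fun g hg he => by
    have hr : ∀ i j, i ≠ j → R.P rotP (R.vp v i j) = R.vp v (rotP i) (rotP j) := fun i j h => R.vp_map hv sp h
    have hrv : R.P rotP v = R.vp v 2 3 := by
      conv_lhs => rw [← hbase]
      exact hr 0 1 (by decide)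
    have h23 : R.P rotP (R.vp v 2 3) = R.vp v 4 5 := hr 2 3 (by decide)
    have h45 : R.P rotP (R.vp v 4 5) = v := (hr 4 5 (by decide)).trans hbase
    have e1 : R.vp v 4 5 + v = g (R.vp v 2 3) := by
      have := congrArg (R.P rotP) he
      rwa [hx, map_add, h23, h45, ← hg, hrv] at this
    have e2 : v + R.vp v 2 3 = g (R.vp v 4 5) := by
      have := congrArg (R.P rotP) e1
      rwa [map_add, h45, hrv, ← hg, h23] at this
    rw [map_add, ← he, hx, map_add, ← e1, ← e2]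
    have : ∀ a b : V, a + b + (b + v + (v + a)) = 0 := fun a b => by
      rw [show a + b + (b + v + (v + a)) = (a + a) + (b + b) + (v + v) by abel]
      simp [add_self']
    exact this _ _
  rcases hcases with e | e | e | e
  · exact absurd e h0
  · rw [e, add_self']
  · have := key R.w (fun y => (R.P_w rotP y).symm) e
    exact R.w.map_eq_zero_iff.mp this
  · have := key (R.w * R.w) (fun y => by
      show R.w (R.w (R.P rotP y)) = R.P rotP (R.w (R.w y)); rw [R.P_w, R.P_w]) e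
    exact (R.w * R.w).map_eq_zero_iff.mp this

theorem line_general {v : V} (hvl : v ∈ R.line) (hv0 : v ≠ 0) (hv : ∀ σ ∈ stabL, R.P σ v = v)
    {i j k l m n : Fin 6} (hnd : [i, j, k, l, m, n].Nodup) :
    R.vp v i j + R.vp v k l + R.vp v m n = 0 := by
  let σ : Perm (Fin 6) := Equiv.ofBijective _ (Finite.injective_iff_bijective.mp (nodup_six hnd))
  have hz := R.line_zero h2 hvl hv0 hv
  rcases Int.units_eq_one_or (Perm.sign σ) with h | h
  · have := congrArg (R.P σ) hz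
    rw [map_zero, map_add, map_add, R.vp_map hv h (by decide), R.vp_map hv h (by decide),
      R.vp_map hv h (by decide)] at this
    exact this
  · have hs : Perm.sign (σ * swap 4 5) = 1 := by
      rw [map_mul, h, Perm.sign_swap (by decide)]; rfl
    have := congrArg (R.P (σ * swap 4 5)) hz
    rw [map_zero, map_add, map_add, R.vp_map hv hs (by decide), R.vp_map hv hs (by decide),
      R.vp_map hv hs (by decide)] at this
    simp only [Perm.mul_apply, swap_apply_left, swap_apply_right,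
      swap_apply_of_ne_of_ne (show (0 : Fin 6) ≠ 4 by decide) (show (0 : Fin 6) ≠ 5 by decide),
      swap_apply_of_ne_of_ne (show (1 : Fin 6) ≠ 4 by decide) (show (1 : Fin 6) ≠ 5 by decide),
      swap_apply_of_ne_of_ne (show (2 : Fin 6) ≠ 4 by decide) (show (2 : Fin 6) ≠ 5 by decide),
      swap_apply_of_ne_of_ne (show (3 : Fin 6) ≠ 4 by decide) (show (3 : Fin 6) ≠ 5 by decide)] at this
    rw [R.vp_comm hv (σ 5) (σ 4)] at this
    exact this

theorem triangle_adj {v : V} (hvl : v ∈ R.line) (hv0 : v ≠ 0) (hv : ∀ σ ∈ stabL, R.P σ v = v)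
    {a b c d : Fin 6} (hab : a ≠ b) (hac : a ≠ c) (had : a ≠ d) (hbc : b ≠ c) (hbd : b ≠ d) (hcd : c ≠ d) :
    R.vp v a b + R.vp v b c + R.vp v a c = R.vp v a b + R.vp v b d + R.vp v a d := by
  have hex : ∀ a b c d : Fin 6, a ≠ b → a ≠ c → a ≠ d → b ≠ c → b ≠ d → c ≠ d →
      ∃ m n, [a, b, c, d, m, n].Nodup := by decide +kernel
  obtain ⟨m, n, hnd⟩ := hex a b c d hab hac had hbc hbd hcd
  have h1 : [a, c, b, d, m, n].Nodup := (List.Perm.nodup_iff ((List.Perm.swap _ _ _).cons _)).mp hnd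
  have h3 : [a, d, b, c, m, n].Nodup := by
    simp only [List.nodup_cons, List.mem_cons, List.not_mem_nil, or_false, not_or] at hnd ⊢
    obtain ⟨⟨x1, x2, x3, x4, x5⟩, ⟨y1, y2, y3, y4⟩, ⟨z1, z2, z3⟩, ⟨u1, u2⟩, r⟩ := hnd
    exact ⟨⟨x3, x1, x2, x4, x5⟩, ⟨Ne.symm y2, Ne.symm z1, u1, u2⟩, ⟨y1, y3, y4⟩, ⟨z2, z3⟩, r⟩
  have e1 := add_eq_zero_iff'.mp (R.line_general h2 hvl hv0 hv h1)
  have e2 := add_eq_zero_iff'.mp (R.line_general h2 hvl hv0 hv h3)
  have e3 : R.vp v a c + R.vp v b d = R.vp v a d + R.vp v b c := e1.trans e2.symm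
  calc R.vp v a b + R.vp v b c + R.vp v a c
      = R.vp v a b + R.vp v b c + ((R.vp v a c + R.vp v b d) + R.vp v b d) := by
        rw [add_assoc (R.vp v a c), add_self', add_zero]
    _ = R.vp v a b + R.vp v b c + ((R.vp v a d + R.vp v b c) + R.vp v b d) := by rw [e3]
    _ = R.vp v a b + R.vp v b d + R.vp v a d + (R.vp v b c + R.vp v b c) := by abel
    _ = _ := by rw [add_self', add_zero]

theorem triangle {v : V} (hvl : v ∈ R.line) (hv0 : v ≠ 0) (hv : ∀ σ ∈ stabL, R.P σ v = v)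
    {a b : Fin 6} (ha : a ≠ 0) (hb : b ≠ 0) (hab : a ≠ b) : R.vp v a b = R.vp v 0 a + R.vp v 0 b := by
  set N := fun p q r : Fin 6 => R.vp v p q + R.vp v q r + R.vp v p r with hN
  have h012 : N 0 1 2 = 0 := by
    have hc : Perm.sign cyc5 = 1 ∧ cyc5 ^ 5 = 1 ∧ cyc5 ≠ 1 := by decide +kernel
    refine R.P_five hc.1 hc.2.1 hc.2.2 ?_
    have e : N 1 2 3 = N 1 2 0 := R.triangle_adj h2 hvl hv0 hv (by decide) (by decide) (by decide) (by decide)
      (by decide) (by decide)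
    have e' : N 1 2 0 = N 0 1 2 := by
      simp only [hN]; rw [R.vp_comm hv 1 0, R.vp_comm hv 2 0]; abel
    rw [← e', ← e]
    conv_lhs => rw [e, e']
    simp only [hN, map_add]
    rw [R.vp_map hv hc.1 (by decide), R.vp_map hv hc.1 (by decide), R.vp_map hv hc.1 (by decide)]
    rfl
  have h01 : ∀ r, r ≠ 0 → r ≠ 1 → N 0 1 r = 0 := fun r h0 h1 => by
    by_cases hr : r = 2
    · rw [hr]; exact h012
    rw [← h012]
    exact R.triangle_adj h2 hvl hv0 hv (by decide) (Ne.symm h0) (by decide) (Ne.symm h1) (by decide) hr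
  have hflip : ∀ p q r : Fin 6, N p q r = N p r q := fun p q r => by
    simp only [hN]; rw [R.vp_comm hv r q]; abel
  have h0 : N 0 a b = 0 := by
    by_cases ha1 : a = 1
    · rw [ha1]; exact h01 b hb (fun e => hab (ha1.trans e.symm))
    by_cases hb1 : b = 1
    · rw [hflip, hb1]; exact h01 a ha ha1
    have : N 0 a b = N 0 a 1 := R.triangle_adj h2 hvl hv0 hv (Ne.symm ha) (Ne.symm hb) (by decide) hab ha1 hb1
    rw [this, hflip]; exact h01 a ha ha1
  have h0' : R.vp v 0 a + R.vp v a b + R.vp v 0 b = 0 := h0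
  refine add_eq_zero_iff'.mp ?_
  rw [← h0']; abel

/-- The embedding of the natural module. -/
noncomputable def phi (v : V) (a : ℕ) : V :=
  bitZ a 0 • R.vp v 0 1 + bitZ a 1 • R.vp v 0 2 + (bitZ a 2 • R.vp v 0 3 + bitZ a 3 • R.vp v 0 4)

omit h2 in
theorem phi_xor (v : V) {a b : ℕ} (ha : a < 16) (hb : b < 16) :
    R.phi v (Nat.xor a b) = R.phi v a + R.phi v b := by
  have h := bitZ_xor ⟨a, ha⟩ ⟨b, hb⟩
  have e0 := h 0
  have e1 := h 1
  have e2 := h 2
  have e3 := h 3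
  simp only [Fin.val_zero, Fin.val_one, Fin.val_two] at e0 e1 e2
  simp only [show ((3 : Fin 4) : ℕ) = 3 from rfl] at e3
  unfold phi
  rw [e0, e1, e2, e3, add_smul, add_smul, add_smul, add_smul]
  abel

omit h2 in
theorem phi_zero (v : V) : R.phi v 0 = 0 := by
  have h : ∀ k : Fin 4, bitZ 0 k = 0 := by decide +kernel
  unfold phi
  rw [show bitZ 0 0 = 0 from h 0, show bitZ 0 1 = 0 from h 1, show bitZ 0 2 = 0 from h 2, show bitZ 0 3 = 0 from h 3]
  simp

theorem phi_upt {v : V} (hvl : v ∈ R.line) (hv0 : v ≠ 0) (hv : ∀ σ ∈ stabL, R.P σ v = v) (i : Fin 6) :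
    R.phi v (upt i) = if i = 0 then 0 else R.vp v 0 i := by
  have h1 : ∀ k : Fin 4, bitZ 1 k = (if k = 0 then 1 else 0) ∧ bitZ 2 k = (if k = 1 then 1 else 0) ∧
      bitZ 4 k = (if k = 2 then 1 else 0) ∧ bitZ 8 k = (if k = 3 then 1 else 0) ∧ bitZ 15 k = 1 := by
    decide +kernel
  obtain ⟨a0, b0, c0, d0, f0⟩ := h1 0
  obtain ⟨a1, b1, c1, d1, f1⟩ := h1 1
  obtain ⟨a2, b2, c2, d2, f2⟩ := h1 2
  obtain ⟨a3, b3, c3, d3, f3⟩ := h1 3
  simp only [Fin.val_zero, Fin.val_one, Fin.val_two, show ((3 : Fin 4) : ℕ) = 3 from rfl] at *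
  fin_cases i
  · simp [upt, R.phi_zero]
  · simp [upt, phi, a0, a1, a2, a3]
  · simp [upt, phi, b0, b1, b2, b3]
  · simp [upt, phi, c0, c1, c2, c3]
  · simp [upt, phi, d0, d1, d2, d3]
  · show R.phi v 15 = R.vp v 0 5
    simp only [phi, f0, f1, f2, f3, one_smul]
    have hline := R.line_zero h2 hvl hv0 hv
    rw [R.triangle h2 hvl hv0 hv (a := 2) (b := 3) (by decide) (by decide) (by decide),
      R.triangle h2 hvl hv0 hv (a := 4) (b := 5) (by decide) (by decide) (by decide)] at hline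
    refine add_eq_zero_iff'.mp ?_
    rw [← hline]; abel

theorem phi_pair {v : V} (hvl : v ∈ R.line) (hv0 : v ≠ 0) (hv : ∀ σ ∈ stabL, R.P σ v = v) {i j : Fin 6}
    (hij : i ≠ j) : R.phi v (Nat.xor (upt i) (upt j)) = R.vp v i j := by
  rw [R.phi_xor v (upt_lt i) (upt_lt j), R.phi_upt h2 hvl hv0 hv, R.phi_upt h2 hvl hv0 hv]
  by_cases hi : i = 0
  · subst hi
    rw [if_pos rfl, if_neg (Ne.symm hij), zero_add]
  by_cases hj : j = 0
  · subst hj
    rw [if_pos rfl, if_neg hij, add_zero, R.vp_comm hv]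
  rw [if_neg hi, if_neg hj, R.triangle h2 hvl hv0 hv hi hj hij]

omit h2 in
theorem phi_linear (v : V) (g : V →ₗ[ZMod 2] V) (a : ℕ) : g (R.phi v a) =
    bitZ a 0 • g (R.vp v 0 1) + bitZ a 1 • g (R.vp v 0 2) +
      (bitZ a 2 • g (R.vp v 0 3) + bitZ a 3 • g (R.vp v 0 4)) := by
  simp [phi]

omit h2 in
theorem phi_ite (v : V) {a : ℕ} (k : ℕ) {c : ℕ} :
    R.phi v (if a / 2 ^ k % 2 = 1 then c else 0) = bitZ a k • R.phi v c := by
  unfold bitZ
  rcases Nat.mod_two_eq_zero_or_one (a / 2 ^ k) with h | h <;> rw [h] <;> simp [R.phi_zero]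

theorem phi_wact {v : V} (hvl : v ∈ R.line) (hv0 : v ≠ 0) (hv : ∀ σ ∈ stabL, R.P σ v = v) (σ : Perm (Fin 6))
    (a : ℕ) : R.phi v (wact σ a) = bitZ a 0 • R.vp v (σ 0) (σ 1) + bitZ a 1 • R.vp v (σ 0) (σ 2) +
      (bitZ a 2 • R.vp v (σ 0) (σ 3) + bitZ a 3 • R.vp v (σ 0) (σ 4)) := by
  have hl : ∀ i, Nat.xor (upt (σ 0)) (upt i) < 16 := fun i => xor_four_lt (upt_lt _) (upt_lt _)
  have hl' : ∀ (c : Prop) [Decidable c] (i : Fin 6), (if c then Nat.xor (upt (σ 0)) (upt i) else 0) < 16 :=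
    fun c _ i => by split; exacts [hl i, by norm_num]
  have key : ∀ (k : ℕ) (i : Fin 6), i ≠ 0 →
      R.phi v (if a / 2 ^ k % 2 = 1 then Nat.xor (upt (σ 0)) (upt (σ i)) else 0) =
        bitZ a k • R.vp v (σ 0) (σ i) := fun k i hi => by
    rw [R.phi_ite, R.phi_pair h2 hvl hv0 hv (fun e => hi (σ.injective e).symm)]
  have k0 := key 0 1 (by decide)
  have k1 := key 1 2 (by decide)
  have k2 := key 2 3 (by decide)
  have k3 := key 3 4 (by decide)
  simp only [pow_zero, pow_one, Nat.div_one, show (2 : ℕ) ^ 2 = 4 from rfl, show (2 : ℕ) ^ 3 = 8 from rfl]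
    at k0 k1 k2 k3
  unfold wact
  rw [R.phi_xor v (xor_four_lt (hl' _ _) (hl' _ _)) (xor_four_lt (hl' _ _) (hl' _ _)),
    R.phi_xor v (hl' _ _) (hl' _ _), R.phi_xor v (hl' _ _) (hl' _ _), k0, k1, k2, k3]

theorem phi_equi {v : V} (hvl : v ∈ R.line) (hv0 : v ≠ 0) (hv : ∀ σ ∈ stabL, R.P σ v = v) {σ : Perm (Fin 6)}
    (hσ : Perm.sign σ = 1) (a : ℕ) : R.P σ (R.phi v a) = R.phi v (wact σ a) := by
  rw [R.phi_wact h2 hvl hv0 hv, show R.P σ (R.phi v a) = (R.P σ).toLinearMap (R.phi v a) from rfl,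
    R.phi_linear v]
  simp only [LinearEquiv.coe_coe]
  rw [R.vp_map hv hσ (by decide), R.vp_map hv hσ (by decide), R.vp_map hv hσ (by decide), R.vp_map hv hσ (by decide)]

theorem phi_injective {v : V} (hvl : v ∈ R.line) (hv0 : v ≠ 0) (hv : ∀ σ ∈ stabL, R.P σ v = v) :
    ∀ a b : Fin 16, R.phi v a = R.phi v b → a = b := by
  classical
  let φ : Fin 16 → V := fun a => R.phi v a
  let U : Submodule (ZMod 2) V := Submodule.span (ZMod 2) (Set.range φ)
  have hadd : ∀ a b : Fin 16, ∃ c : Fin 16, φ a + φ b = φ c := fun a b =>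
    ⟨⟨Nat.xor a b, xor_lt a b⟩, (R.phi_xor v a.2 b.2).symm⟩
  have hU : ∀ x ∈ U, ∃ c, φ c = x := fun x hx => by
    induction hx using Submodule.span_induction with
    | mem x hx => exact hx
    | zero => exact ⟨0, R.phi_zero v⟩
    | add x y _ _ ihx ihy =>
      obtain ⟨a, rfl⟩ := ihx
      obtain ⟨b, rfl⟩ := ihy
      obtain ⟨c, hc⟩ := hadd a b
      exact ⟨c, hc.symm⟩
    | smul t x _ ih =>
      rcases zmod2_cases t with rfl | rfl
      · exact ⟨0, by rw [zero_smul]; exact R.phi_zero v⟩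
      · rw [one_smul]; exact ih
  have hc : Perm.sign cyc5 = 1 ∧ cyc5 ^ 5 = 1 ∧ cyc5 ≠ 1 := by decide +kernel
  have hinv : ∀ x ∈ U, R.P cyc5 x ∈ U := fun x hx => by
    obtain ⟨a, rfl⟩ := hU x hx
    show R.P cyc5 (R.phi v a) ∈ U
    rw [R.phi_equi h2 hvl hv0 hv hc.1]
    exact Submodule.subset_span ⟨⟨_, wact_lt cyc5 a⟩, rfl⟩
  have hpow : ∀ n : ℕ, R.P (cyc5 ^ n) = R.P cyc5 ^ n := fun n => by
    induction n with
    | zero => rw [pow_zero, pow_zero, R.P_one]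
    | succ n ih => rw [pow_succ, pow_succ, R.P_mul (by rw [map_pow, hc.1, one_pow]) hc.1, ih]
  have hg5 : R.P cyc5 ^ 5 = 1 := by rw [← hpow, hc.2.1, R.P_one]
  have hv1 : φ 1 = R.vp v 0 1 := by
    have := R.phi_upt h2 hvl hv0 hv 1
    rwa [if_neg (by decide)] at this
  have hpos : 1 ≤ finrank (ZMod 2) U := Submodule.one_le_finrank_iff.mpr fun e => by
    have h := (Submodule.eq_bot_iff _).mp e _ (Submodule.subset_span ⟨1, rfl⟩)
    rw [hv1, R.vp_base hv] at h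
    exact hv0 h
  have hsur : Function.Surjective fun a : Fin 16 => (⟨φ a, Submodule.subset_span ⟨a, rfl⟩⟩ : U) := fun y => by
    obtain ⟨c, hc⟩ := hU y y.2
    exact ⟨c, Subtype.ext hc⟩
  have hle := Nat.card_le_card_of_surjective _ hsur
  rw [Module.natCard_eq_pow_finrank (K := ZMod 2) (V := U), Nat.card_zmod, Nat.card_fin] at hle
  have h4 : finrank (ZMod 2) U = 4 := by
    have hle4 : finrank (ZMod 2) U ≤ 4 :=
      (Nat.pow_le_pow_iff_right one_lt_two).mp (le_trans hle (by norm_num))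
    rcases five_dim hg5 hinv (fun x _ => R.P_five hc.1 hc.2.1 hc.2.2) (by omega) with h | h | h <;> omega
  have hbij := (Nat.bijective_iff_surjective_and_card _).mpr ⟨hsur, by
    rw [Module.natCard_eq_pow_finrank (K := ZMod 2) (V := U), Nat.card_zmod, Nat.card_fin, h4]; norm_num⟩
  exact fun a b e => hbij.1 (Subtype.ext e)

omit h2 in
/-- The coordinate map. -/
noncomputable def psi (v : V) (x : Fin 256) : V := R.phi v (x.val % 16) + R.w (R.phi v (x.val / 16))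

omit h2 in
theorem psi_add (v : V) (x y : Fin 256) : R.psi v (xadd x y) = R.psi v x + R.psi v y := by
  obtain ⟨e1, e2⟩ := xadd_parts x y
  unfold psi
  rw [e1, e2, R.phi_xor v (Nat.mod_lt _ (by norm_num)) (Nat.mod_lt _ (by norm_num)),
    R.phi_xor v (Nat.div_lt_of_lt_mul x.2) (Nat.div_lt_of_lt_mul y.2), map_add]
  abel

omit h2 in
theorem psi_act (v : V) (e : Bool) (m : Fin 3) (σ : Perm (Fin 6)) (x : Fin 256) :
    R.psi v (act e m σ x) = (R.w ^ (m : ℕ))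
      (R.phi v (wact σ (x.val % 16)) + (if e then R.w (R.w (R.phi v (wact σ (x.val / 16))))
        else R.w (R.phi v (wact σ (x.val / 16))))) := by
  set a := wact σ (x.val % 16) with ha
  set b := wact σ (x.val / 16) with hb
  have hla : a < 16 := wact_lt _ _
  have hlb : b < 16 := wact_lt _ _
  have hww : ∀ y, R.w (R.w y) = y + R.w y := fun y => by
    have := R.wsum y
    exact (add_eq_zero_iff'.mp this).symm
  set A := (if e then Nat.xor a b else a) with hA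
  have hlA : A < 16 := by rw [hA]; split; exacts [xor_four_lt hla hlb, hla]
  have hval : R.psi v (act e m σ x) =
      R.phi v (wpow m A b % 256 % 16) + R.w (R.phi v (wpow m A b % 256 / 16)) := rfl
  obtain ⟨p1, p2, p3, p4, p5, p6⟩ := act_parts ⟨A, hlA⟩ ⟨b, hlb⟩
  simp only at p1 p2 p3 p4 p5 p6
  have hbase : R.phi v A + R.w (R.phi v b) =
      R.phi v a + (if e then R.w (R.w (R.phi v b)) else R.w (R.phi v b)) := by
    rw [hA]
    cases e
    · simp
    · simp only [if_true]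
      rw [R.phi_xor v hla hlb, hww]; abel
  rw [hval, ← hbase]
  fin_cases m
  · simp only [Fin.zero_eta, Fin.val_zero, pow_zero] at *
    rw [p1, p2]; rfl
  · simp only [Fin.mk_one, Fin.val_one, pow_one] at *
    rw [p3, p4, R.phi_xor v hlA hlb, map_add, map_add, hww]; abel
  · show _ = (R.w ^ 2) (R.phi v A + R.w (R.phi v b))
    rw [show wpow (⟨2, by norm_num⟩ : Fin 3) A b = wpow 2 A b from rfl, p5, p6, R.phi_xor v hlA hlb, pow_two]
    show _ = R.w (R.w (R.phi v A + R.w (R.phi v b)))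
    rw [map_add, map_add, R.www, hww]; abel

theorem psi_bijective {v : V} (hvl : v ∈ R.line) (hv0 : v ≠ 0) (hv : ∀ σ ∈ stabL, R.P σ v = v) :
    Function.Bijective (R.psi v) := by
  have hinj := R.phi_injective h2 hvl hv0 hv
  have hx : ∀ x : Fin 256, R.psi v x = 0 → x = 0 := by
    intro x hx
    set a : Fin 16 := ⟨x.val % 16, Nat.mod_lt _ (by norm_num)⟩
    set b : Fin 16 := ⟨x.val / 16, Nat.div_lt_of_lt_mul x.2⟩
    have h : R.phi v a = R.w (R.phi v b) := add_eq_zero_iff'.mp hx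
    by_cases hb : b = 0
    · rw [hb, show ((0 : Fin 16) : ℕ) = 0 from rfl, R.phi_zero, map_zero] at h
      have ha : a = 0 := hinj a 0 (by rw [h]; exact (R.phi_zero v).symm)
      have h1 : x.val % 16 = 0 := congrArg Fin.val ha
      have h2' : x.val / 16 = 0 := congrArg Fin.val hb
      exact Fin.ext (show x.val = 0 by omega)
    · exfalso
      -- move the pair to `01`
      have hpairs : ∀ c : Fin 16, c ≠ 0 → ∃ i j : Fin 6, i ≠ j ∧ Nat.xor (upt i) (upt j) = c := by decide +kernel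
      obtain ⟨i, j, hij, hc⟩ := hpairs b hb
      obtain ⟨σ, hσ, h0, h1⟩ := exists_alt hij
      have hbv : R.phi v b = R.P σ v := by
        rw [← hc, R.phi_pair h2 hvl hv0 hv hij, R.vp_eq hv hσ (Or.inl ⟨h0, h1⟩)]
      have hs : Perm.sign σ⁻¹ = 1 := by rw [map_inv, hσ, inv_one]
      have h' : R.phi v (wact σ⁻¹ a) = R.w v := by
        rw [← R.phi_equi h2 hvl hv0 hv hs, h, R.P_w, hbv, ← LinearEquiv.mul_apply (R.P σ⁻¹), ← R.P_mul hs hσ,
          inv_mul_cancel, R.P_one]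
        rfl
      obtain ⟨s1, s2, -⟩ := a_ok
      have hfix : ∀ s, Perm.sign s = 1 → R.P s v = v →
          wact s (wact σ⁻¹ a) = wact σ⁻¹ a := fun s hs hsv => congrArg Fin.val
        (hinj ⟨_, wact_lt _ _⟩ ⟨_, wact_lt _ _⟩ (by
          show R.phi v (wact s (wact σ⁻¹ a)) = R.phi v (wact σ⁻¹ a)
          rw [← R.phi_equi h2 hvl hv0 hv hs, h', R.P_w, hsv]))
      rcases four_fixed ⟨_, wact_lt σ⁻¹ a⟩ (hfix a₁ s1 (mem_fixs.mp hvl.1)) (hfix a₂ s2 (mem_fixs.mp hvl.2))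
        with e | e
      · rw [show wact σ⁻¹ a = 0 from congrArg Fin.val e, R.phi_zero] at h'
        exact hv0 (R.w.map_eq_zero_iff.mp h'.symm)
      · have hv1 : R.phi v 1 = v := by
          have := R.phi_upt h2 hvl hv0 hv 1
          rw [if_neg (by decide), R.vp_base hv] at this
          exact this
        rw [show wact σ⁻¹ a = 1 from congrArg Fin.val e, hv1] at h'
        exact hv0 (R.fpfw v h'.symm)
  have hi : Function.Injective (R.psi v) := fun x y e => by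
    have h := hx (xadd x y) (by rw [R.psi_add, e, add_self'])
    have key : ∀ x y : Fin 256, xadd x y = 0 → x = y := by decide +kernel
    exact key x y h
  refine (Nat.bijective_iff_injective_and_card _).mpr ⟨hi, ?_⟩
  rw [Module.natCard_eq_pow_finrank (K := ZMod 2) (V := V), R.dim, Nat.card_zmod, Nat.card_fin]
  norm_num

theorem phi_one {v : V} (hvl : v ∈ R.line) (hv0 : v ≠ 0) (hv : ∀ σ ∈ stabL, R.P σ v = v) :
    R.phi v 1 = v := by
  have := R.phi_upt h2 hvl hv0 hv 1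
  rwa [if_neg (by decide), R.vp_base hv] at this

theorem q_vp {v : V} (hvl : v ∈ R.line) (hv0 : v ≠ 0) (hv : ∀ σ ∈ stabL, R.P σ v = v) {i j : Fin 6}
    (hij : i ≠ j) : q (R.vp v i j) = 0 ∧ ∀ k l, k ≠ l → 𝐁 (R.vp v i j) (R.vp v k l) = 0 := by
  have hall : ∀ {k l : Fin 6}, k ≠ l → q (R.vp v k l) = q v := fun {k l} h => by
    obtain ⟨σ, hσ, h0, h1⟩ := exists_alt h
    rw [R.vp_eq hv hσ (Or.inl ⟨h0, h1⟩), R.P_iso hσ]
  have hb := R.vp_base hv
  have hB : ∀ {a c : Fin 6}, a ≠ c → ∀ {b d : Fin 6}, b ≠ d → R.vp v 0 1 + R.vp v a c = R.vp v b d →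
      𝐁 (R.vp v 0 1) (R.vp v a c) = q v := fun {a c} h {b d} h' e => by
    have h3 := q_add (q := q) (R.vp v 0 1) (R.vp v a c)
    rw [e, hall h', hall h, hb] at h3
    rw [hb]
    have key : ∀ x y : ZMod 2, x = x + x + y → y = x := by decide
    exact key _ _ h3
  have e23 : R.vp v 0 1 + R.vp v 2 3 = R.vp v 4 5 := add_eq_zero_iff'.mp (R.line_zero h2 hvl hv0 hv)
  have t12 := R.triangle h2 hvl hv0 hv (a := 1) (b := 2) (by decide) (by decide) (by decide)
  have t13 := R.triangle h2 hvl hv0 hv (a := 1) (b := 3) (by decide) (by decide) (by decide)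
  have t23 := R.triangle h2 hvl hv0 hv (a := 2) (b := 3) (by decide) (by decide) (by decide)
  have b23 := hB (a := 2) (c := 3) (by decide) (b := 4) (d := 5) (by decide) e23
  have b02 := hB (a := 0) (c := 2) (by decide) (b := 1) (d := 2) (by decide) t12.symm
  have b03 := hB (a := 0) (c := 3) (by decide) (b := 1) (d := 3) (by decide) t13.symm
  rw [t23, map_add, b02, b03] at b23
  have hq0 : q v = 0 := by rw [← b23]; exact CharTwo.add_self_eq_zero _
  have hsing : ∀ {k l : Fin 6}, k ≠ l → q (R.vp v k l) = 0 := fun {k l} h => (hall h).trans hq0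
  refine ⟨hsing hij, fun k l hkl => ?_⟩
  have hsum : ∀ a : ℕ, a < 16 → q (R.phi v a) = 0 := fun a ha => by
    have hpairs : ∀ c : Fin 16, c = 0 ∨ ∃ i j : Fin 6, i ≠ j ∧ Nat.xor (upt i) (upt j) = c := by decide +kernel
    rcases hpairs ⟨a, ha⟩ with e | ⟨i, j, hij, e⟩
    · rw [show a = 0 from congrArg Fin.val e, R.phi_zero, QuadraticMap.map_zero]
    · rw [← show Nat.xor (upt i) (upt j) = a from e, R.phi_pair h2 hvl hv0 hv hij, hsing hij]
  have h := hsum _ (xor_four_lt (xor_four_lt (upt_lt i) (upt_lt j)) (xor_four_lt (upt_lt k) (upt_lt l)))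
  rw [R.phi_xor v (xor_four_lt (upt_lt i) (upt_lt j)) (xor_four_lt (upt_lt k) (upt_lt l)),
    R.phi_pair h2 hvl hv0 hv hij, R.phi_pair h2 hvl hv0 hv hkl, q_add, hsing hij, hsing hkl, zero_add, zero_add] at h
  exact h

omit h2 in
theorem B_phi (v : V) (x : V) (a : ℕ) : 𝐁 x (R.phi v a) =
    bitZ a 0 * 𝐁 x (R.vp v 0 1) + bitZ a 1 * 𝐁 x (R.vp v 0 2) +
      (bitZ a 2 * 𝐁 x (R.vp v 0 3) + bitZ a 3 * 𝐁 x (R.vp v 0 4)) := by
  simp only [phi, map_add, map_smul, smul_eq_mul]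

theorem B_phi_zero {v : V} (hvl : v ∈ R.line) (hv0 : v ≠ 0) (hv : ∀ σ ∈ stabL, R.P σ v = v)
    {i j : Fin 6} (hij : i ≠ j) (a : ℕ) : 𝐁 (R.vp v i j) (R.phi v a) = 0 := by
  rw [R.B_phi]
  obtain ⟨-, h⟩ := R.q_vp h2 hvl hv0 hv hij
  rw [h 0 1 (by decide), h 0 2 (by decide), h 0 3 (by decide), h 0 4 (by decide)]
  simp

theorem q_phi {v : V} (hvl : v ∈ R.line) (hv0 : v ≠ 0) (hv : ∀ σ ∈ stabL, R.P σ v = v) (a : Fin 16) :
    q (R.phi v a) = 0 := by
  have hpairs : ∀ c : Fin 16, c = 0 ∨ ∃ i j : Fin 6, i ≠ j ∧ Nat.xor (upt i) (upt j) = c := by decide +kernel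
  rcases hpairs a with rfl | ⟨i, j, hij, e⟩
  · rw [show ((0 : Fin 16) : ℕ) = 0 from rfl, R.phi_zero, QuadraticMap.map_zero]
  · rw [← e, R.phi_pair h2 hvl hv0 hv hij, (R.q_vp h2 hvl hv0 hv hij).1]

/-- The values of the alternating form on the basis. -/
theorem F_base {v : V} (hvl : v ∈ R.line) (hv0 : v ≠ 0) (hv : ∀ σ ∈ stabL, R.P σ v = v) {j : Fin 6}
    (hj : j ≠ 0) : 𝐁 (R.vp v 0 1) (R.w (R.vp v 0 j)) = if j = 1 then 0 else 1 := by
  have hb := R.vp_base hv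
  have hq : q v = 0 := by have := (R.q_vp h2 hvl hv0 hv (i := 0) (j := 1) (by decide)).1; rwa [hb] at this
  have hvv : 𝐁 v (R.w v) = 0 := by
    have h := q_add (q := q) v (R.w v)
    rw [show v + R.w v = R.w (R.w v) from add_eq_zero_iff'.mp (R.wsum v), R.isow, R.isow, hq, zero_add, zero_add] at h
    exact h.symm
  obtain ⟨s1, s2, s3, -⟩ := a_ok
  have hmove : ∀ σ, Perm.sign σ = 1 → R.P σ v = v → σ 0 = 0 → ∀ k, k ≠ 0 →
      𝐁 v (R.w (R.vp v 0 (σ k))) = 𝐁 v (R.w (R.vp v 0 k)) := fun σ hσ hσv h0 k hk => by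
    have h := (R.P_iso hσ).B v (R.w (R.vp v 0 k))
    rw [hσv, R.P_w, R.vp_map hv hσ (Ne.symm hk), h0] at h
    exact h
  have f1 := mem_fixs.mp hvl.1
  have f2 := mem_fixs.mp hvl.2
  have e32 : 𝐁 v (R.w (R.vp v 0 3)) = 𝐁 v (R.w (R.vp v 0 2)) := hmove a₁ s1 f1 (by decide) 2 (by decide)
  have e42 : 𝐁 v (R.w (R.vp v 0 4)) = 𝐁 v (R.w (R.vp v 0 2)) := hmove a₂ s2 f2 (by decide) 2 (by decide)
  have e54 : 𝐁 v (R.w (R.vp v 0 5)) = 𝐁 v (R.w (R.vp v 0 4)) := hmove a₁ s1 f1 (by decide) 4 (by decide)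
  have hone : 𝐁 v (R.w (R.vp v 0 2)) = 1 := by
    refine (zmod2_cases _).resolve_left fun h0 => hv0 (R.S.eq_zero fun y => ?_)
    obtain ⟨x, rfl⟩ := (R.psi_bijective h2 hvl hv0 hv).2 y
    have hB0 : ∀ a, 𝐁 v (R.phi v a) = 0 := fun a => by
      have h := R.B_phi_zero h2 hvl hv0 hv (i := 0) (j := 1) (by decide) a
      rwa [hb] at h
    rw [B_comm, psi, map_add, hB0, zero_add]
    simp only [phi, map_add, map_smul, hb]
    rw [hvv, e32, e42, h0]
    simp
  rw [hb]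
  fin_cases j
  · exact absurd rfl hj
  · simpa [hb] using hvv
  · exact hone
  · exact e32.trans hone
  · exact e42.trans hone
  · exact (e54.trans e42).trans hone

theorem F_basis {v : V} (hvl : v ∈ R.line) (hv0 : v ≠ 0) (hv : ∀ σ ∈ stabL, R.P σ v = v) {i j : Fin 6}
    (hi : i ≠ 0) (hj : j ≠ 0) : 𝐁 (R.vp v 0 i) (R.w (R.vp v 0 j)) = if i = j then 0 else 1 := by
  obtain ⟨σ, hσ, h0, h1⟩ := exists_alt (Ne.symm hi)
  set k := σ⁻¹ j
  have hjk : σ k = j := σ.apply_symm_apply j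
  have hk : k ≠ 0 := fun e => hj (by rw [← hjk, e, h0])
  have h := (R.P_iso hσ).B (R.vp v 0 1) (R.w (R.vp v 0 k))
  rw [R.P_w, R.vp_map hv hσ (by decide), R.vp_map hv hσ (Ne.symm hk), h0, h1, hjk, R.F_base h2 hvl hv0 hv hk] at h
  rw [h]
  by_cases e : k = 1
  · rw [if_pos e, if_pos (by rw [← hjk, e, h1])]
  · rw [if_neg e, if_neg fun e' => e (σ.injective (by rw [hjk, h1, e']))]

theorem q_psi {v : V} (hvl : v ∈ R.line) (hv0 : v ≠ 0) (hv : ∀ σ ∈ stabL, R.P σ v = v) (x : Fin 256) :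
    q (R.psi v x) = (qc x : ZMod 2) := by
  set a : Fin 16 := ⟨x.val % 16, Nat.mod_lt _ (by norm_num)⟩ with ha
  set b : Fin 16 := ⟨x.val / 16, Nat.div_lt_of_lt_mul x.2⟩ with hb
  rw [show R.psi v x = R.phi v a + R.w (R.phi v b) from rfl, q_add, R.isow, R.q_phi h2 hvl hv0 hv,
    R.q_phi h2 hvl hv0 hv, zero_add, zero_add, show (qc x : ZMod 2) = ((fN a b : ℕ) : ZMod 2) from rfl,
    fN_expand a b]
  have hwl : R.w (R.phi v b) = bitZ b 0 • R.w (R.vp v 0 1) + bitZ b 1 • R.w (R.vp v 0 2) +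
      (bitZ b 2 • R.w (R.vp v 0 3) + bitZ b 3 • R.w (R.vp v 0 4)) := by simp [phi]
  rw [hwl]
  simp only [phi, map_add, map_smul, LinearMap.add_apply, LinearMap.smul_apply, smul_eq_mul]
  have h := fun {i j : Fin 6} (hi : i ≠ 0) (hj : j ≠ 0) => R.F_basis h2 hvl hv0 hv hi hj
  rw [h (i := 1) (j := 1) (by decide) (by decide), h (i := 1) (j := 2) (by decide) (by decide),
    h (i := 1) (j := 3) (by decide) (by decide), h (i := 1) (j := 4) (by decide) (by decide),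
    h (i := 2) (j := 1) (by decide) (by decide), h (i := 2) (j := 2) (by decide) (by decide),
    h (i := 2) (j := 3) (by decide) (by decide), h (i := 2) (j := 4) (by decide) (by decide),
    h (i := 3) (j := 1) (by decide) (by decide), h (i := 3) (j := 2) (by decide) (by decide),
    h (i := 3) (j := 3) (by decide) (by decide), h (i := 3) (j := 4) (by decide) (by decide),
    h (i := 4) (j := 1) (by decide) (by decide), h (i := 4) (j := 2) (by decide) (by decide),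
    h (i := 4) (j := 3) (by decide) (by decide), h (i := 4) (j := 4) (by decide) (by decide)]
  simp only [Fin.reduceEq, if_true, if_false]
  ring

/-- The image of the base vector under a map normalising the action. -/
theorem base_image {v : V} (hvl : v ∈ R.line) (hv0 : v ≠ 0) (hv : ∀ σ ∈ stabL, R.P σ v = v)
    {g : V ≃ₗ[ZMod 2] V} {σ : Perm (Fin 6)}
    (hg : ∀ π, Perm.sign π = 1 → ∀ x, g (R.P π x) = R.P (σ * π * σ⁻¹) (g x)) :
    ∃ m : Fin 3, g v = (R.w ^ (m : ℕ)) (R.vp v (σ 0) (σ 1)) := by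
  obtain ⟨x, hx⟩ := (R.psi_bijective h2 hvl hv0 hv).2 (g v)
  obtain ⟨s1, s2, -⟩ := a_ok
  have hσ01 : σ 0 ≠ σ 1 := fun e => absurd (σ.injective e) (by decide)
  set a : Fin 16 := ⟨x.val % 16, Nat.mod_lt _ (by norm_num)⟩ with ha
  set b : Fin 16 := ⟨x.val / 16, Nat.div_lt_of_lt_mul x.2⟩ with hb
  have hinj := R.phi_injective h2 hvl hv0 hv
  have hfix : ∀ π, Perm.sign π = 1 → R.P π v = v →
      wact (σ * π * σ⁻¹) a = a ∧ wact (σ * π * σ⁻¹) b = b := fun π hπ hπv => by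
    have hs : Perm.sign (σ * π * σ⁻¹) = 1 := by
      rw [map_mul, map_mul, hπ, map_inv, mul_one, mul_inv_cancel]
    have h1 : R.P (σ * π * σ⁻¹) (g v) = g v := by rw [← hg π hπ, hπv]
    have hl : ∀ c : ℕ, wact (σ * π * σ⁻¹) c < 16 := wact_lt _
    obtain ⟨y, hy⟩ : ∃ y : Fin 256, y.val % 16 = wact (σ * π * σ⁻¹) a ∧ y.val / 16 = wact (σ * π * σ⁻¹) b :=
      ⟨⟨wact (σ * π * σ⁻¹) a + 16 * wact (σ * π * σ⁻¹) b, by have := hl a; have := hl b; omega⟩,
        by have := hl a; simp; omega, by have := hl a; simp; omega⟩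
    have h3 : R.psi v y = R.psi v x := by
      rw [hx, ← h1, ← hx]
      show R.phi v (y.val % 16) + R.w (R.phi v (y.val / 16)) = _
      rw [hy.1, hy.2, psi, map_add, R.P_w, R.phi_equi h2 hvl hv0 hv hs, R.phi_equi h2 hvl hv0 hv hs]
    have h4 := (R.psi_bijective h2 hvl hv0 hv).1 h3
    rw [h4] at hy
    exact ⟨hy.1.symm, hy.2.symm⟩
  have hfixed : ∀ c : Fin 16, wact (σ * a₁ * σ⁻¹) c = c → wact (σ * a₂ * σ⁻¹) c = c →
      c.val = 0 ∨ R.phi v c = R.vp v (σ 0) (σ 1) := by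
    intro c c1 c2
    by_cases hc : c = 0
    · exact Or.inl (congrArg Fin.val hc)
    have hpairs : ∀ c : Fin 16, c ≠ 0 → ∃ i j : Fin 6, i ≠ j ∧ Nat.xor (upt i) (upt j) = c := by decide +kernel
    obtain ⟨i, j, hij, e⟩ := hpairs c hc
    refine Or.inr ?_
    rw [← e, R.phi_pair h2 hvl hv0 hv hij]
    -- the pair is fixed
    have hpf : ∀ π, Perm.sign π = 1 → wact π c = c →
        (π i = i ∧ π j = j) ∨ (π i = j ∧ π j = i) := fun π hπ hπc => by
      have hne : π i ≠ π j := fun h => hij (π.injective h)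
      have hphi : R.phi v (Nat.xor (upt (π i)) (upt (π j))) = R.phi v c := by
        rw [R.phi_pair h2 hvl hv0 hv hne, ← R.vp_map hv hπ hij, ← R.phi_pair h2 hvl hv0 hv hij, e,
          R.phi_equi h2 hvl hv0 hv hπ, hπc]
      have heq : Nat.xor (upt (π i)) (upt (π j)) = Nat.xor (upt i) (upt j) := by
        rw [e]; exact congrArg Fin.val (hinj ⟨_, xor_four_lt (upt_lt _) (upt_lt _)⟩ c hphi)
      have key : ∀ a b c d : Fin 6, a ≠ b → c ≠ d → Nat.xor (upt a) (upt b) = Nat.xor (upt c) (upt d) →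
          (a = c ∧ b = d) ∨ (a = d ∧ b = c) := by decide +kernel
      exact key _ _ _ _ hne hij heq
    have t1 := hpf _ (by rw [map_mul, map_mul, s1, map_inv, mul_one, mul_inv_cancel]) c1
    have t2 := hpf _ (by rw [map_mul, map_mul, s2, map_inv, mul_one, mul_inv_cancel]) c2
    have hconv : ∀ (π : Perm (Fin 6)) (p r : Fin 6), (σ * π * σ⁻¹) p = r → π (σ⁻¹ p) = σ⁻¹ r := fun π p r h => by
      rw [← h, Perm.mul_apply, Perm.mul_apply]
      exact (σ.symm_apply_apply _).symm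
    have key : ∀ p r : Fin 6, p ≠ r → ((a₁ p = p ∧ a₁ r = r) ∨ (a₁ p = r ∧ a₁ r = p)) →
        ((a₂ p = p ∧ a₂ r = r) ∨ (a₂ p = r ∧ a₂ r = p)) → (p = 0 ∧ r = 1) ∨ (p = 1 ∧ r = 0) := by decide +kernel
    rcases key (σ⁻¹ i) (σ⁻¹ j) (fun h => hij ((σ⁻¹).injective h))
      (t1.imp (fun h => ⟨hconv _ _ _ h.1, hconv _ _ _ h.2⟩) fun h => ⟨hconv _ _ _ h.1, hconv _ _ _ h.2⟩)
      (t2.imp (fun h => ⟨hconv _ _ _ h.1, hconv _ _ _ h.2⟩) fun h => ⟨hconv _ _ _ h.1, hconv _ _ _ h.2⟩) with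
      ⟨e1, e2⟩ | ⟨e1, e2⟩
    · rw [← e1, ← e2]; simp
    · rw [← e1, ← e2, R.vp_comm hv]; simp
  obtain ⟨a1f, b1f⟩ := hfix a₁ s1 (mem_fixs.mp hvl.1)
  obtain ⟨a2f, b2f⟩ := hfix a₂ s2 (mem_fixs.mp hvl.2)
  have hgv : g v ≠ 0 := fun e => hv0 (g.map_eq_zero_iff.mp e)
  rw [← hx] at hgv ⊢
  have hp : R.psi v x = R.phi v a + R.w (R.phi v b) := rfl
  rw [hp] at hgv ⊢
  rcases hfixed a a1f a2f with e | e <;> rcases hfixed b b1f b2f with e' | e'
  · exact absurd (by rw [e, e', R.phi_zero, map_zero, add_zero]) hgv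
  · exact ⟨1, by rw [e, R.phi_zero, zero_add, e']; simp⟩
  · exact ⟨0, by rw [e', R.phi_zero, map_zero, add_zero, e]; simp⟩
  · refine ⟨2, ?_⟩
    rw [e, e', show ((2 : Fin 3) : ℕ) = 2 from rfl, pow_two, LinearEquiv.mul_apply]
    exact add_eq_zero_iff'.mp (R.wsum _)

theorem map_phi {v : V} (hvl : v ∈ R.line) (hv0 : v ≠ 0) (hv : ∀ σ ∈ stabL, R.P σ v = v)
    {g : V ≃ₗ[ZMod 2] V} {σ : Perm (Fin 6)}
    (hg : ∀ π, Perm.sign π = 1 → ∀ x, g (R.P π x) = R.P (σ * π * σ⁻¹) (g x)) :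
    ∃ m : Fin 3, ∀ a, g (R.phi v a) = (R.w ^ (m : ℕ)) (R.phi v (wact σ a)) := by
  obtain ⟨m, hm⟩ := R.base_image h2 hvl hv0 hv hg
  refine ⟨m, fun a => ?_⟩
  have hwc : ∀ π y, R.P π ((R.w ^ (m : ℕ)) y) = (R.w ^ (m : ℕ)) (R.P π y) := fun π y => by
    generalize (m : ℕ) = n
    induction n with
    | zero => rfl
    | succ n ih => rw [pow_succ', LinearEquiv.mul_apply, R.P_w, ih]; rfl
  have hpair : ∀ i j, i ≠ j → g (R.vp v i j) = (R.w ^ (m : ℕ)) (R.vp v (σ i) (σ j)) := fun i j hij => by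
    obtain ⟨π, hπ, h0, h1⟩ := exists_alt hij
    have hs : Perm.sign (σ * π * σ⁻¹) = 1 := by
      rw [map_mul, map_mul, hπ, map_inv, mul_one, mul_inv_cancel]
    rw [R.vp_eq hv hπ (Or.inl ⟨h0, h1⟩), hg π hπ, hm, hwc,
      R.vp_map hv hs (fun e => absurd (σ.injective e) (by decide))]
    simp [h0, h1]
  rw [R.phi_wact h2 hvl hv0 hv, show g (R.phi v a) = g.toLinearMap (R.phi v a) from rfl, R.phi_linear v]
  simp only [LinearEquiv.coe_coe, map_add, map_smul]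
  rw [hpair 0 1 (by decide), hpair 0 2 (by decide), hpair 0 3 (by decide), hpair 0 4 (by decide)]

/-- The coordinates. -/
theorem exists_coords : Nonempty (Coords R) := by
  obtain ⟨v, hvl, hv0, hv⟩ := R.exists_fixed h2
  have hw1 : ∀ a, a < 16 → wact 1 a = a := fun a ha => wact_one ⟨a, ha⟩
  refine ⟨{
    Ψ := R.psi v
    bij := R.psi_bijective h2 hvl hv0 hv
    add := R.psi_add v
    form := R.q_psi h2 hvl hv0 hv
    hw := fun x => by
      rw [R.psi_act, hw1 _ (Nat.mod_lt _ (by norm_num)), hw1 _ (Nat.div_lt_of_lt_mul x.2), Fin.val_one, pow_one]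
      rfl
    equi := fun σ hσ x => by
      rw [R.psi_act, psi, map_add, R.P_w, R.phi_equi h2 hvl hv0 hv hσ, R.phi_equi h2 hvl hv0 hv hσ]
      rfl
    code := fun g σ hg => ⟨fun hc => ?_, fun hc => ?_⟩ }⟩
  all_goals
    obtain ⟨m, hm⟩ := R.map_phi h2 hvl hv0 hv hg
    refine ⟨m, fun x => ?_⟩
    rw [R.psi_act, psi, map_add, hc, hm, hm, map_add]
  · simp only [Bool.false_eq_true, if_false]
    have : ∀ (n : ℕ) y, R.w ((R.w ^ n) y) = (R.w ^ n) (R.w y) := fun n y => by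
      rw [← LinearEquiv.mul_apply, ← pow_succ', pow_succ]; rfl
    rw [this]
  · simp only [if_true]
    have : ∀ (n : ℕ) y, R.w ((R.w ^ n) y) = (R.w ^ n) (R.w y) := fun n y => by
      rw [← LinearEquiv.mul_apply, ← pow_succ', pow_succ]; rfl
    rw [this, this]

end Rep

end Cfsg.Lib.LargeExtra.EightSmith
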