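import Cfsg.Agent.LargeExtra.EightSmith.Setting
import Cfsg.Agent.LargeExtra.EightSmith.Coordinates
import Cfsg.Agent.LargeExtra.EightSmith.CodeCent

/-!
# The two possible actions of the quotient
-/

set_option autoImplicit false
set_option linter.style.haveILetI false
set_option linter.unusedSectionVars false
set_option maxRecDepth 40000

open Module Equiv

namespace Cfsg.Lib.LargeExtra.EightSmith

universe u v w

theorem wpow_step : ∀ m : Fin 3, ∀ a b : Fin 16,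
    wpow 1 (wpow m a b % 256 % 16) (wpow m a b % 256 / 16) % 256 = wpow (m + 1) a b % 256 := by
  decide +kernel

theorem act_step (m : Fin 3) (σ : Perm (Fin 6)) (x : Fin 256) :
    act false 1 1 (act false m σ x) = act false (m + 1) σ x := by
  have h1 : ∀ a, a < 16 → wact 1 a = a := fun a ha => wact_one ⟨a, ha⟩
  set y := act false m σ x with hy
  have hlo : wact 1 (y.val % 16) = y.val % 16 := h1 _ (Nat.mod_lt _ (by norm_num))
  have hhi : wact 1 (y.val / 16) = y.val / 16 := h1 _ (Nat.div_lt_of_lt_mul y.2)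
  refine Fin.ext ?_
  show wpow 1 (wact 1 (y.val % 16)) (wact 1 (y.val / 16)) % 256 = _
  rw [hlo, hhi]
  exact wpow_step m ⟨_, wact_lt σ _⟩ ⟨_, wact_lt σ _⟩

namespace Ctx

variable {G : Type u} {H : Type v} {V : Type w} [Group G] [Finite G] [Group H] [AddCommGroup V]
  [Module (ZMod 2) V] [Finite V] {q : QuadraticForm (ZMod 2) V}

/-- The case of an element `w` without fixed points, with coordinates. -/
structure A (C : Ctx G H q) where
  R : Rep q
  hA : ∀ s, R.A s = C.ρ (C.T.alt s)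
  hw : R.w = C.ρ C.T.w
  K : Coords R

variable {C : Ctx G H q}

namespace A

variable (A : C.A)

theorem conj_P (h : H) {π : Perm (Fin 6)} (hπ : Perm.sign π = 1) (x : V) :
    C.ρ h (A.R.P π x) = A.R.P ((C.T.f h).2 * π * (C.T.f h).2⁻¹) (C.ρ h x) := by
  have hs : Perm.sign ((C.T.f h).2 * π * (C.T.f h).2⁻¹) = 1 := by
    rw [map_mul, map_mul, hπ, map_inv, mul_one, mul_inv_cancel]
  have key := C.T.conj_alt h ⟨π, hπ⟩ ⟨_, hs⟩ rfl
  rw [show π = ((⟨π, hπ⟩ : alternatingGroup (Fin 6)) : Perm (Fin 6)) from rfl, ← A.R.P_alt, A.hA,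
    show (C.T.f h).2 * ↑(⟨π, hπ⟩ : alternatingGroup (Fin 6)) * (C.T.f h).2⁻¹ =
      ((⟨_, hs⟩ : alternatingGroup (Fin 6)) : Perm (Fin 6)) from rfl, ← A.R.P_alt, A.hA,
    ← LinearEquiv.mul_apply, ← LinearEquiv.mul_apply, ← map_mul, ← map_mul, ← key, inv_mul_cancel_right]

theorem code_cent {h : H} (hc : Commute h C.T.w) :
    ∃ m, ∀ x, C.ρ h (A.K.Ψ x) = A.K.Ψ (act false m (C.T.f h).2 x) :=
  (A.K.code (C.ρ h) _ fun π hπ x => A.conj_P h hπ x).1 fun x => by
    rw [A.hw, ← LinearEquiv.mul_apply, ← LinearEquiv.mul_apply, ← map_mul, ← map_mul, hc.eq]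

theorem code_inv {h : H} (hc : ¬ Commute h C.T.w) :
    ∃ m, ∀ x, C.ρ h (A.K.Ψ x) = A.K.Ψ (act true m (C.T.f h).2 x) :=
  (A.K.code (C.ρ h) _ fun π hπ x => A.conj_P h hπ x).2 fun x => by
    have e := C.T.inverts_of_not_commute hc
    rw [mul_inv_eq_iff_eq_mul, show C.T.w⁻¹ = C.T.w * C.T.w from inv_eq_of_mul_eq_one_right (by
      rw [← C.T.w_pow]; simp [pow_succ, mul_assoc])] at e
    rw [A.hw, ← LinearEquiv.mul_apply, ← LinearEquiv.mul_apply, ← map_mul, e, map_mul, map_mul,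
      LinearEquiv.mul_apply]

theorem code_invol {h : H} (h2 : h * h = 1) (hc : Commute h C.T.w) :
    ∀ x, C.ρ h (A.K.Ψ x) = A.K.Ψ (act false 0 (C.T.f h).2 x) := by
  obtain ⟨m, hm⟩ := A.code_cent hc
  have hσ : (C.T.f h).2 * (C.T.f h).2 = 1 := by
    have := congrArg (fun y => (C.T.f y).2) h2
    simpa using this
  have h1 : act false m (C.T.f h).2 (act false m (C.T.f h).2 1) = 1 := A.K.bij.1 (by
    rw [← hm, ← hm, ← LinearEquiv.mul_apply, ← map_mul, h2, map_one]; rfl)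
  rwa [cent_involution m _ hσ h1] at hm

theorem exists_cent (m : Fin 3) {σ : Perm (Fin 6)} (hσ : Perm.sign σ = 1) :
    ∃ h, Commute h C.T.w ∧ (C.T.f h).2 = σ ∧ ∀ x, C.ρ h (A.K.Ψ x) = A.K.Ψ (act false m σ x) := by
  have step : ∀ n : Fin 3, (∃ h, Commute h C.T.w ∧ (C.T.f h).2 = σ ∧
      ∀ x, C.ρ h (A.K.Ψ x) = A.K.Ψ (act false n σ x)) → ∃ h, Commute h C.T.w ∧ (C.T.f h).2 = σ ∧
      ∀ x, C.ρ h (A.K.Ψ x) = A.K.Ψ (act false (n + 1) σ x) := by
    rintro n ⟨h, hc, hf, hx⟩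
    refine ⟨C.T.w * h, (Commute.refl _).mul_left hc, by rw [map_mul, Prod.snd_mul, C.T.f_w, hf, one_mul], fun x => ?_⟩
    rw [map_mul, LinearEquiv.mul_apply, hx, ← A.hw, A.K.hw, act_step]
  have h0 : ∃ h, Commute h C.T.w ∧ (C.T.f h).2 = σ ∧ ∀ x, C.ρ h (A.K.Ψ x) = A.K.Ψ (act false 0 σ x) :=
    ⟨C.T.alt ⟨σ, hσ⟩, C.T.commute_alt _, by rw [C.T.f_alt], fun x => by
      rw [← A.hA, A.R.P_alt]; exact A.K.equi σ hσ x⟩
  have h1 : ∃ h, Commute h C.T.w ∧ (C.T.f h).2 = σ ∧ ∀ x, C.ρ h (A.K.Ψ x) = A.K.Ψ (act false 1 σ x) := step 0 h0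
  have h2 : ∃ h, Commute h C.T.w ∧ (C.T.f h).2 = σ ∧ ∀ x, C.ρ h (A.K.Ψ x) = A.K.Ψ (act false 2 σ x) := step 1 h1
  fin_cases m
  exacts [h0, h1, h2]

include A in
theorem fix_card {h : H} (h2 : h * h = 1) (hc : Commute h C.T.w) :
    (Finset.univ.filter fun x : Fin 256 => act false 0 (C.T.f h).2 x = x).card = 2 ^ finrank (ZMod 2) (fixs (C.ρ h)) := by
  classical
  have hx := A.code_invol h2 hc
  rw [← Fintype.card_subtype, ← Nat.card_eq_fintype_card]
  have hcard := Module.natCard_eq_pow_finrank (K := ZMod 2) (V := fixs (C.ρ h))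
  rw [Nat.card_zmod] at hcard
  rw [← hcard]
  refine Nat.card_congr ((Equiv.ofBijective A.K.Ψ A.K.bij).subtypeEquiv fun x => ?_)
  rw [mem_fixs, Equiv.ofBijective_apply, hx]
  exact A.K.bij.1.eq_iff.symm

end A

variable (C)

/-- Either `w` fixes a six-dimensional subspace or, after a change of the embedding in `S₃ × S₆`,
coordinates exist. -/
theorem dichotomy :
    (finrank (ZMod 2) (fixs (C.ρ C.T.w)) = 6 ∧ finrank (ZMod 2) (img (C.ρ C.T.w)) = 2 ∧
      ∀ x ∈ img (C.ρ C.T.w), q x = 0 → x = 0) ∨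
    ∃ C' : Ctx G H q, C'.z = C.z ∧ Nonempty C'.A := by
  have hφinj : Function.Injective (C.ρ.comp C.T.alt) := C.ρ_inj.comp C.T.alt_injective
  have hw1 : C.ρ C.T.w ≠ 1 := fun e => C.T.w_ne (C.ρ_inj (e.trans (map_one C.ρ).symm))
  have hw3 : C.ρ C.T.w ^ 3 = 1 := by rw [← map_pow, C.T.w_pow, map_one]
  have hK : 120 < Nat.card (alternatingGroup (Fin 6)) := by
    rw [nat_card_alternatingGroup, Nat.card_eq_fintype_card, Fintype.card_fin]
    decide
  haveI : IsSimpleGroup (alternatingGroup (Fin 6)) := alternatingGroup.isSimpleGroup (by rw [Nat.card_fin]; decide)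
  have dec := fun (c : alternatingGroup (Fin 6)) (hc : orderOf c = 5) =>
    decomposition C.S C.dim (C.ρ.comp C.T.alt) (fun k => C.ρ_iso _) hφinj hK (C.ρ_iso _) hw3 hw1
      (fun k => (C.T.commute_alt k).map C.ρ) hc
  haveI : Fact (Nat.Prime 5) := ⟨Nat.prime_five⟩
  obtain ⟨c, hc⟩ : ∃ c : alternatingGroup (Fin 6), orderOf c = 5 := exists_prime_orderOf_dvd_card' 5 (by
    rw [nat_card_alternatingGroup, Nat.card_eq_fintype_card, Fintype.card_fin]
    decide)
  rcases dec c hc with ⟨hw, -⟩ | h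
  swap
  · exact Or.inl h
  refine Or.inr ?_
  let R : Rep q :=
    { S := C.S
      dim := C.dim
      A := C.ρ.comp C.T.alt
      w := C.ρ C.T.w
      iso := fun k => C.ρ_iso _
      inj := hφinj
      isow := C.ρ_iso _
      w3 := hw3
      comm := fun k => (C.T.commute_alt k).map C.ρ
      fpfw := hw
      fpf5 := fun s hs => by
        rcases dec s hs with h | ⟨h6, -⟩
        · exact h.2
        · rw [(Submodule.eq_bot_iff _).mpr fun x hx => hw x (mem_fixs.mp hx), finrank_bot] at h6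
          omega }
  rcases R.exists_line with h | h
  · obtain ⟨K⟩ := R.exists_coords h
    exact ⟨C, rfl, ⟨⟨R, fun s => rfl, rfl, K⟩⟩⟩
  · let C' : Ctx G H q := { C with T := C.T.twist }
    let R' : Rep q :=
      { R with
        A := C.ρ.comp C.T.twist.alt
        iso := fun k => C.ρ_iso _
        inj := C.ρ_inj.comp C.T.twist.alt_injective
        comm := fun k => (C.T.twist_w ▸ C.T.twist.commute_alt k : Commute (C.T.twist.alt k) C.T.w).map C.ρ
        fpf5 := fun s hs => by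
          obtain ⟨σ, hσ, he⟩ := exists_theta (Perm.mem_alternatingGroup.mp s.2)
          rw [show (C.ρ.comp C.T.twist.alt) s = C.ρ (C.T.twist.alt s) from rfl, C.T.twist_alt ⟨σ, hσ⟩ s he.symm]
          refine R.fpf5 ⟨σ, hσ⟩ ?_
          rw [← orderOf_injective C.T.alt C.T.alt_injective, ← C.T.twist_alt ⟨σ, hσ⟩ s he.symm,
            orderOf_injective _ C.T.twist.alt_injective, hs] }
    have hPP : ∀ σ, Perm.sign σ = 1 → ∀ π, theta σ = π → R'.P π = R.P σ := fun σ hσ π e => by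
      subst e
      rw [Rep.P, Rep.P, dif_pos hσ, dif_pos (sign_theta hσ)]
      show C.ρ (C.T.twist.alt _) = C.ρ (C.T.alt _)
      rw [C.T.twist_alt ⟨σ, hσ⟩ _ rfl]
    obtain ⟨s1, s2, s3, -⟩ := Rep.a_ok
    have h2 : finrank (ZMod 2) ↥(fixs (R'.P Rep.a₁) ⊓ fixs (R'.P Rep.a₂)) = 2 := by
      rw [hPP _ s1 Rep.a₁ theta_2345, hPP _ s3 Rep.a₂ theta_0123]; exact h
    obtain ⟨K⟩ := R'.exists_coords h2
    exact ⟨C', rfl, ⟨⟨R', fun s => rfl, by
      show C.ρ C.T.w = C.ρ C.T.twist.w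
      rw [C.T.twist_w], K⟩⟩⟩

end Ctx

end Cfsg.Lib.LargeExtra.EightSmith
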