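import Cfsg.Agent.LargeExtra.EightSmith.Code

/-!
# Finite checks on the module of `S₃ × S₆`
-/

set_option autoImplicit false
set_option linter.style.haveILetI false
set_option linter.unusedSectionVars false
set_option maxRecDepth 40000
set_option maxHeartbeats 4000000
set_option synthInstance.maxSize 4096
set_option synthInstance.maxHeartbeats 400000

open Equiv

namespace Cfsg.Lib.LargeExtra.EightSmith

theorem involutionsL_complete : ∀ σ : Perm (Fin 6), σ * σ = 1 → σ ≠ 1 → σ ∈ involutionsL := by decide +kernel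

/-- The involutions commuting with a double transposition. -/
def centDblL : List (Perm (Fin 6)) :=
  [swap 0 1, swap 2 3, swap 0 1 * swap 2 3, swap 0 2 * swap 1 3, swap 0 3 * swap 1 2, swap 4 5,
    swap 0 1 * swap 4 5, swap 2 3 * swap 4 5, swap 0 1 * swap 2 3 * swap 4 5, swap 0 2 * swap 1 3 * swap 4 5,
    swap 0 3 * swap 1 2 * swap 4 5]

theorem centDblL_complete : ∀ σ ∈ involutionsL, σ * (swap 0 1 * swap 2 3) = swap 0 1 * swap 2 3 * σ →
    σ ∈ centDblL := by decide +kernel

theorem elementary_eight : ∀ a ∈ centDblL, a ∉ swapsL →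
    ∀ b ∈ centDblL, a * b = b * a → b ≠ a → b ∉ swapsL → a * b ∉ swapsL →
    ∀ c ∈ centDblL, a * c = c * a → b * c = c * b → c ≠ a → c ≠ b → c ≠ a * b →
      c ∈ swapsL ∨ a * c ∈ swapsL ∨ b * c ∈ swapsL ∨ a * b * c ∈ swapsL := by decide +kernel

/-- Transpositions fix more than sixteen vectors. -/
theorem swap_fix : ∀ i j : Fin 6, i ≠ j →
    (Finset.univ.filter fun x : Fin 256 => act false 0 (swap i j) x = x).card = 64 := by decide +kernel

end Cfsg.Lib.LargeExtra.EightSmith
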