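import Cfsg.Agent.LargeExtra.EightSmith.Form

/-!
# The alternating form on the commutator space of an involution
-/

set_option autoImplicit false
set_option linter.style.haveILetI false
set_option linter.unusedSectionVars false

open Module

namespace Cfsg.Lib.LargeExtra.EightSmith

variable {V : Type*} [AddCommGroup V] [Module (ZMod 2) V] [Finite V] {q : QuadraticForm (ZMod 2) V}

local notation "𝐁" => QuadraticMap.polarBilin q

theorem B_shift_comm {g : V ≃ₗ[ZMod 2] V} (h2 : g * g = 1) (hg : Iso q g) (v u : V) :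
    𝐁 v (g u + u) = 𝐁 u (g v + v) := by
  rw [map_add, map_add, B_comm v u, ← hg.B v (g u), inv_apply h2, B_comm (g v) u]

/-- A totally singular commutator space is not three-dimensional. -/
theorem QS.img_ne_three (S : QS q) {g : V ≃ₗ[ZMod 2] V} (h2 : g * g = 1) (hg : Iso q g)
    (hts : ∀ x ∈ img g, q x = 0) : finrank (ZMod 2) (img g) ≠ 3 := by
  intro h3
  let e := Module.finBasisOfFinrankEq (ZMod 2) (img g) h3
  have hv : ∀ i, ∃ v, g v + v = (e i : V) := fun i => mem_img.mp (e i).2
  choose v hv using hv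
  have hself : ∀ i, 𝐁 (v i) (e i : V) = 0 := fun i => by
    rw [← hv i, ← q_shift h2 hg]; exact hts _ (shift_mem g _)
  have hsym : ∀ i j, 𝐁 (v i) (e j : V) = 𝐁 (v j) (e i : V) := fun i j => by
    rw [← hv i, ← hv j]; exact B_shift_comm h2 hg _ _
  have hperp : ∀ u : V, u ∈ img g → (∀ j, 𝐁 (v j) u = 0) → u = 0 := fun u hu hall => S.eq_zero fun y => by
    have hys : shift g y ∈ img g := shift_mem g y
    have hrepr := congrArg Subtype.val (e.sum_repr ⟨shift g y, hys⟩)
    simp only [Fin.sum_univ_three, Submodule.coe_add, Submodule.coe_smul] at hrepr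
    set c := e.repr ⟨shift g y, hys⟩
    have hf : y + (c 0 • v 0 + c 1 • v 1 + c 2 • v 2) ∈ fixs g := by
      rw [fixs, LinearMap.mem_ker, map_add, map_add, map_add, map_smul, map_smul, map_smul, shift_apply g (v 0),
        shift_apply g (v 1), shift_apply g (v 2), hv, hv, hv, hrepr, add_self']
    have h := S.mem_perp.mp ((S.perp_img hg).symm ▸ hf : y + _ ∈ S.perp (img g)) u hu
    rw [B_comm, map_add, map_add, map_add, map_smul, map_smul, map_smul] at h
    simpa [hall] using h
  set a := 𝐁 (v 1) (e 2 : V) with ha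
  set b := 𝐁 (v 0) (e 2 : V) with hb
  set c := 𝐁 (v 0) (e 1 : V) with hc
  set u : V := a • (e 0 : V) + b • (e 1 : V) + c • (e 2 : V) with hu
  have hmem : u ∈ img g :=
    add_mem (add_mem (Submodule.smul_mem _ _ (e 0).2) (Submodule.smul_mem _ _ (e 1).2)) (Submodule.smul_mem _ _ (e 2).2)
  have hu0 : u = 0 := by
    refine hperp u hmem fun j => ?_
    have k : ∀ a b c : ZMod 2, a * 0 + b * c + c * b = 0 ∧ a * c + b * 0 + c * a = 0 ∧
        a * b + b * a + c * 0 = 0 := by decide
    fin_cases j <;> simp only [Fin.zero_eta, Fin.mk_one, Fin.reduceFinMk, hu, map_add, map_smul, smul_eq_mul]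
    · rw [hself, ← hb, ← hc]; exact (k a b c).1
    · rw [hsym 1 0, ← hc, hself, ← ha]; exact (k a b c).2.1
    · rw [hsym 2 0, ← hb, hsym 2 1, ← ha, hself]; exact (k a b c).2.2
  have hli := Fintype.linearIndependent_iff.mp e.linearIndependent ![a, b, c]
    (Subtype.ext (by simpa [Fin.sum_univ_three, hu] using hu0))
  have h0 : (e 0 : V) = 0 := hperp _ (e 0).2 fun j => by
    have ha0 := hli 0
    have hb0 := hli 1
    have hc0 := hli 2
    fin_cases j
    · exact hself 0
    · exact (hsym 1 0).trans hc0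
    · exact (hsym 2 0).trans hb0
  exact e.ne_zero 0 (Subtype.ext h0)

end Cfsg.Lib.LargeExtra.EightSmith
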