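import Cfsg.Agent.LargeExtra.EightSmith.CaseA
import Cfsg.Agent.LargeExtra.EightSmith.CodeEight
import Cfsg.Agent.LargeExtra.EightSmith.Shift

/-!
# The case of an extraspecial subgroup containing no further conjugate of the involution
-/

set_option autoImplicit false
set_option linter.style.haveILetI false
set_option linter.unusedSectionVars false
set_option maxRecDepth 40000

open Module Subgroup
open scoped commutatorElement

namespace Cfsg.Lib.LargeExtra.EightSmith

universe u v w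

namespace Ctx

variable {G : Type u} {H : Type v} {V : Type w} [Group G] [Finite G] [Group H] [AddCommGroup V]
  [Module (ZMod 2) V] [Finite V] {q : QuadraticForm (ZMod 2) V} (C : Ctx G H q)

local notation "𝐁" => QuadraticMap.polarBilin q

/-- Being conjugate to `z`. -/
def Cj (x : G) : Prop := ∃ k, k * C.z * k⁻¹ = x

theorem Cj.conj {x : G} (h : C.Cj x) (k : G) : C.Cj (k * x * k⁻¹) := by
  obtain ⟨l, rfl⟩ := h
  exact ⟨k * l, by group⟩

theorem Cj.sq {x : G} (h : C.Cj x) : x * x = 1 := by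
  obtain ⟨l, rfl⟩ := h
  rw [show l * C.z * l⁻¹ * (l * C.z * l⁻¹) = l * (C.z * C.z) * l⁻¹ by group, C.x2.zz, mul_one, mul_inv_cancel]

/-- The element `t y t⁻¹ y⁻¹`. -/
def cm' (t y : G) : G := t * y * t⁻¹ * y⁻¹

variable {t : G} (ht : Commute t C.z) (hjt : C.Cj t)
include ht

theorem cm_mem {y : G} (hy : y ∈ C.Q) : cm' t y ∈ C.Q := mul_mem (C.conj_mem ht hy) (inv_mem hy)

theorem π_cm {y : G} (hy : y ∈ C.Q) : C.π (cm' t y) = C.ρ (C.μ t) (C.π y) + C.π y := by
  rw [cm', C.π_mul _ (C.conj_mem ht hy) _ (inv_mem hy), C.π_inv hy, C.ρ_π t ht y hy]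

theorem conj_fix_cases {x : G} (hx : x ∈ C.Q) (hf : C.π x ∈ fixs (C.ρ (C.μ t))) :
    t * x * t⁻¹ = x ∨ t * x * t⁻¹ = C.z * x := by
  rw [mem_fixs, C.ρ_π t ht x hx] at hf
  exact (C.eq_iff hx (C.conj_mem ht hx)).mp hf.symm

omit ht in
theorem π_fix {x : G} (ht : Commute t C.z) (hx : x ∈ C.Q) (hc : Commute x t) : C.π x ∈ fixs (C.ρ (C.μ t)) := by
  rw [mem_fixs, C.ρ_π t ht x hx, hc.symm.eq, mul_inv_cancel_right]

include hjt

theorem inv_t : t⁻¹ = t := inv_eq_of_mul_eq_one_right (Cj.sq C hjt)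

theorem cm_shift (y : G) : t * cm' t y = y * t * y⁻¹ := by
  rw [cm', C.inv_t ht hjt, show t * (t * y * t * y⁻¹) = t * t * (y * t * y⁻¹) by group, Cj.sq C hjt, one_mul]

theorem cm_inverted (y : G) : t * cm' t y * t⁻¹ = (cm' t y)⁻¹ := by
  rw [C.cm_shift ht hjt, cm']; group

theorem μt_sq : C.μ t * C.μ t = 1 := by rw [← C.μ_mul _ _ ht ht, Cj.sq C hjt, C.μ_one]

theorem g_sq : C.ρ (C.μ t) * C.ρ (C.μ t) = 1 := by rw [← map_mul, C.μt_sq ht hjt, map_one]

theorem cj_cm {y : G} (hy : y ∈ C.Q) : C.Cj (t * cm' t y) := by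
  rw [C.cm_shift ht hjt]; exact Cj.conj C hjt y

theorem cj_cm_z {y : G} (hy : y ∈ C.Q) (hz : C.Cj (C.z * t)) : C.Cj (t * (C.z * cm' t y)) := by
  rw [← mul_assoc, ht.eq, mul_assoc, C.cm_shift ht hjt,
    show C.z * (y * t * y⁻¹) = y * (C.z * t) * y⁻¹ by
      rw [← mul_assoc, ← mul_assoc, ← (C.x2.central y hy).eq]; group]
  exact Cj.conj C hz y

end Ctx

/-- The preimage in `Q` of a subspace. -/
def Ctx.pre {G : Type u} {H : Type v} {V : Type w} [Group G] [Finite G] [Group H] [AddCommGroup V]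
    [Module (ZMod 2) V] {q : QuadraticForm (ZMod 2) V} (C : Ctx G H q) (W : Submodule (ZMod 2) V) : Subgroup G where
  carrier := {x | x ∈ C.Q ∧ C.π x ∈ W}
  one_mem' := ⟨one_mem _, by
    have h := C.π_mul 1 (one_mem _) 1 (one_mem _)
    rw [one_mul, left_eq_add] at h
    rw [h]; exact zero_mem _⟩
  mul_mem' := fun {a b} ha hb => ⟨mul_mem ha.1 hb.1, by rw [C.π_mul _ ha.1 _ hb.1]; exact add_mem ha.2 hb.2⟩
  inv_mem' := fun {a} ha => ⟨inv_mem ha.1, by
    have h := C.π_mul _ (inv_mem ha.1) _ ha.1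
    have h1 := C.π_mul 1 (one_mem _) 1 (one_mem _)
    rw [one_mul, left_eq_add] at h1
    rw [inv_mul_cancel, h1] at h
    rw [eq_neg_of_add_eq_zero_left h.symm]; exact neg_mem ha.2⟩

namespace Ctx

variable {G : Type u} {H : Type v} {V : Type w} [Group G] [Finite G] [Group H] [AddCommGroup V]
  [Module (ZMod 2) V] [Finite V] {q : QuadraticForm (ZMod 2) V} (C : Ctx G H q)

local notation "𝐁" => QuadraticMap.polarBilin q

theorem mem_pre {W : Submodule (ZMod 2) V} {x : G} : x ∈ C.pre W ↔ x ∈ C.Q ∧ C.π x ∈ W := Iff.rfl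

theorem card_pre (W : Submodule (ZMod 2) V) : Nat.card (C.pre W) = 2 ^ (finrank (ZMod 2) W + 1) := by
  let f : C.pre W →* Multiplicative W := MonoidHom.mk' (fun x => Multiplicative.ofAdd ⟨C.π x, x.2.2⟩)
    fun a b => congrArg Multiplicative.ofAdd (Subtype.ext (C.π_mul _ a.2.1 _ b.2.1))
  have hsurj : Function.Surjective f := fun u => by
    obtain ⟨x, hx, e⟩ := C.π_surj (u.toAdd : W)
    exact ⟨⟨x, hx, e ▸ (u.toAdd : W).2⟩, congrArg Multiplicative.ofAdd (Subtype.ext e)⟩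
  have hk : Nat.card f.ker = 2 := by
    have hz : C.z ∈ C.pre W := ⟨C.x2.mem, C.π_z ▸ zero_mem _⟩
    refine (Nat.card_eq_two_iff' 1).mpr ⟨⟨⟨C.z, hz⟩, ?_⟩, fun e => C.x2.ne ?_, ?_⟩
    · exact ofAdd_eq_one.mpr (Subtype.ext C.π_z)
    · exact congrArg (fun e : f.ker => ((e : C.pre W) : G)) e
    · rintro ⟨⟨y, hy⟩, hy'⟩ hne
      have h0 : C.π y = 0 := congrArg Subtype.val (ofAdd_eq_one.mp hy')
      rcases C.eq_cases hy.1 h0 with rfl | rfl
      · exact absurd rfl hne
      · rfl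
  have h := Subgroup.card_eq_card_quotient_mul_card_subgroup f.ker
  rw [Nat.card_congr (QuotientGroup.quotientKerEquivOfSurjective f hsurj).toEquiv, hk,
    Nat.card_congr Multiplicative.toAdd, Module.natCard_eq_pow_finrank (K := ZMod 2) (V := W), Nat.card_zmod] at h
  rw [h, pow_succ]

/-- The image of the centralizer in `Q` of an element. -/
def cimg (t : G) : Submodule (ZMod 2) V where
  carrier := {u | ∃ x ∈ C.Q, Commute x t ∧ C.π x = u}
  zero_mem' := ⟨1, one_mem _, Commute.one_left _, C.π_one⟩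
  add_mem' := by
    rintro _ _ ⟨x, hx, hxt, rfl⟩ ⟨y, hy, hyt, rfl⟩
    exact ⟨x * y, mul_mem hx hy, hxt.mul_left hyt, C.π_mul _ hx _ hy⟩
  smul_mem' := by
    rintro a _ ⟨x, hx, hxt, rfl⟩
    rcases zmod2_cases a with rfl | rfl
    · exact ⟨1, one_mem _, Commute.one_left _, by rw [C.π_one, zero_smul]⟩
    · exact ⟨x, hx, hxt, (one_smul _ _).symm⟩

theorem mem_pre_cimg {t x : G} (ht : Commute t C.z) : x ∈ C.pre (C.cimg t) ↔ x ∈ C.Q ∧ Commute x t := by
  refine ⟨fun ⟨hx, y, hy, hyt, e⟩ => ⟨hx, ?_⟩, fun ⟨hx, hc⟩ => ⟨hx, x, hx, hc, rfl⟩⟩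
  rcases (C.eq_iff hy hx).mp e with rfl | rfl
  · exact hyt
  · exact ht.symm.mul_left hyt

variable (hcl : ∀ k : G, k * C.z * k⁻¹ ∈ C.Q → k * C.z * k⁻¹ = C.z)
include hcl

theorem cj_Q {x : G} (h : C.Cj x) (hx : x ∈ C.Q) : x = C.z := by
  obtain ⟨k, rfl⟩ := h
  exact hcl k hx

theorem center_bound {t g : G} (hg : g * C.z * g⁻¹ = t) (ht : Commute t C.z) (hne : t ≠ C.z) :
    finrank (ZMod 2) (C.cimg t) ≤ finrank (ZMod 2) ↥(C.cimg t ⊓ C.S.perp (C.cimg t)) + 2 := by
  set C₀ := C.pre (C.cimg t) with hC₀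
  have hmem : ∀ {x}, x ∈ C₀ → x ∈ C.Q ∧ Commute x t := fun h => (C.mem_pre_cimg ht).mp h
  have hgc : ∀ {x}, Commute x t → Commute (g⁻¹ * x * g) C.z := fun {x} h => by
    show g⁻¹ * x * g * C.z = C.z * (g⁻¹ * x * g)
    calc g⁻¹ * x * g * C.z = g⁻¹ * (x * (g * C.z * g⁻¹)) * g := by group
      _ = g⁻¹ * ((g * C.z * g⁻¹) * x) * g := by rw [hg, h.eq]
      _ = _ := by group
  let φ : C₀ →* H := MonoidHom.mk' (fun x => C.μ (g⁻¹ * (x : G) * g)) fun a b => by
    rw [← C.μ_mul _ _ (hgc (hmem a.2).2) (hgc (hmem b.2).2)]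
    congr 1
    rw [Subgroup.coe_mul]; group
  have hQ : IsPGroup 2 C₀ := C.x2.isP.to_le fun x hx => hx.1
  have hP : IsPGroup 2 φ.range := hQ.of_surjective φ.rangeRestrict φ.rangeRestrict_surjective
  haveI : Finite H := Finite.of_injective _ C.T.inj
  obtain ⟨Z, hZB, hZc, hZn⟩ := C.T.center_index φ.range hP
  set Z₀ := Z.comap φ
  have hcen : ∀ x ∈ Z₀, ∀ c : C₀, Commute (x : G) (c : G) := fun x hx c => by
    rcases C.x2.comm _ (hmem x.2).1 _ (hmem c.2).1 with e | e
    · exact commutatorElement_eq_one_iff_commute.mp e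
    exfalso
    have h1 : φ ⁅x, c⁆ = 1 := by
      rw [map_commutatorElement]
      exact commutatorElement_eq_one_iff_commute.mpr (hZc _ hx _ ⟨c, rfl⟩)
    have h1' : C.μ (g⁻¹ * C.z * g) = 1 := by
      rw [← e]; exact h1
    have h2 := (C.μ_ker _ (hgc ht.symm)).mp h1'
    have h3 : g⁻¹ * C.z * g = C.z := by
      have := hcl g⁻¹ (by rwa [inv_inv])
      rwa [inv_inv] at this
    exact hne (by rw [← hg]; calc g * C.z * g⁻¹ = g * (g⁻¹ * C.z * g) * g⁻¹ := by rw [h3]
      _ = C.z := by group)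
  have hle : Z₀.map C₀.subtype ≤ C.pre (C.cimg t ⊓ C.S.perp (C.cimg t)) := by
    rintro _ ⟨x, hx, rfl⟩
    refine ⟨(hmem x.2).1, x.2.2, C.S.mem_perp.mpr ?_⟩
    rintro _ ⟨y, hy, hyt, rfl⟩
    exact C.B_π hy (hmem x.2).1 (hcen x hx ⟨y, (C.mem_pre_cimg ht).mpr ⟨hy, hyt⟩⟩).symm
  have h1 : Nat.card C₀ = Nat.card φ.range * Nat.card φ.ker := by
    rw [Subgroup.card_eq_card_quotient_mul_card_subgroup φ.ker]
    congr 1
    exact Nat.card_congr (QuotientGroup.quotientKerEquivRange φ).toEquiv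
  have h2 : Nat.card Z₀ = Nat.card Z * Nat.card φ.ker := by
    let ψ := φ.subgroupComap Z
    have hψ : Function.Surjective ψ := fun z => by
      obtain ⟨c, hc⟩ := hZB z.2
      exact ⟨⟨c, show φ c ∈ Z from hc ▸ z.2⟩, Subtype.ext hc⟩
    rw [Subgroup.card_eq_card_quotient_mul_card_subgroup ψ.ker,
      Nat.card_congr (QuotientGroup.quotientKerEquivOfSurjective ψ hψ).toEquiv]
    congr 1
    refine Nat.card_congr
      { toFun := fun x => ⟨((x : Z₀) : C₀), congrArg Subtype.val (MonoidHom.mem_ker.mp x.2)⟩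
        invFun := fun x => ⟨⟨(x : C₀), show φ (x : C₀) ∈ Z by rw [MonoidHom.mem_ker.mp x.2]; exact one_mem _⟩,
          MonoidHom.mem_ker.mpr (Subtype.ext (MonoidHom.mem_ker.mp x.2))⟩
        left_inv := fun x => rfl
        right_inv := fun x => rfl }
  have h3 := Subgroup.card_le_of_le hle
  rw [Subgroup.card_map_of_injective C₀.subtype_injective, C.card_pre, h2] at h3
  have h4 : Nat.card C₀ ≤ 4 * (Nat.card Z * Nat.card φ.ker) := by
    rw [h1, ← mul_assoc]; exact Nat.mul_le_mul_right _ hZn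
  replace h4 := (C.card_pre (C.cimg t)).symm.trans_le h4
  have h5 : 2 ^ (finrank (ZMod 2) (C.cimg t) + 1) ≤
      2 ^ (finrank (ZMod 2) ↥(C.cimg t ⊓ C.S.perp (C.cimg t)) + 1 + 2) := by
    rw [pow_add _ _ 2]; norm_num; omega
  have h6 := (Nat.pow_le_pow_iff_right (by norm_num : 1 < 2)).mp h5
  omega

theorem μt_ne {t : G} (ht : Commute t C.z) (hjt : C.Cj t) (hne : t ≠ C.z) : C.μ t ≠ 1 := fun e =>
  hne (C.cj_Q hcl hjt ((C.μ_ker t ht).mp e))

/-- A conjugate `t` commuting with `z` such that `z t` is not a conjugate. -/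
def Exc (t : G) : Prop := Commute t C.z ∧ C.Cj t ∧ t ≠ C.z ∧ ¬ C.Cj (C.z * t)

theorem exists_exc (hG : IsSimpleGroup G) : ∃ t, C.Exc t := by
  obtain ⟨g, hne, hc⟩ := C.exists_conjugate hG
  set t := g * C.z * g⁻¹ with hg
  by_cases hzt : C.Cj (C.z * t)
  swap
  · exact ⟨t, hc, ⟨g, rfl⟩, hne, hzt⟩
  have hjt : C.Cj t := ⟨g, rfl⟩
  set a := C.ρ (C.μ t) with hadef
  have ha2 : a * a = 1 := C.g_sq hc hjt
  have hsum := finrank_fixs_img a
  -- a non-trivial singular commutator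
  obtain ⟨u, hu, hu0, hqu⟩ : ∃ u ∈ img a, u ≠ 0 ∧ q u = 0 := by
    by_contra hno
    push Not at hno
    have h1 : finrank (ZMod 2) (img a) ≤ 1 := by
      by_contra hgt
      push Not at hgt
      let l : img a →ₗ[ZMod 2] ZMod 2 :=
        { toFun := fun x => q (x : V)
          map_add' := fun x y => by
            rw [Submodule.coe_add, q_add, img_isotropic ha2 C.S (C.ρ_iso _) _ x.2 _ y.2, add_zero]
          map_smul' := fun r x => by
            rw [Submodule.coe_smul, QuadraticMap.map_smul, RingHom.id_apply]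
            rcases zmod2_cases r with rfl | rfl <;> simp }
      have hl := LinearMap.finrank_range_add_finrank_ker l
      have hr : finrank (ZMod 2) (LinearMap.range l) ≤ 1 :=
        (Submodule.finrank_le _).trans (Module.finrank_self (ZMod 2)).le
      obtain ⟨x, hx, hx0⟩ := Submodule.exists_mem_ne_zero_of_ne_bot (p := LinearMap.ker l) fun e => by
        rw [e, finrank_bot] at hl; omega
      exact hno (x : V) x.2 (fun e => hx0 (Subtype.ext e)) hx
    -- the centralizer is too large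
    have hu6 : 6 ≤ finrank (ZMod 2) (C.cimg t) := by
      have hfix : C.pre (C.cimg t) ≤ C.pre (fixs a) := fun x hx =>
        ⟨hx.1, C.π_fix hc hx.1 ((C.mem_pre_cimg hc).mp hx).2⟩
      have hidx : Nat.card (C.pre (fixs a)) ≤ 2 * Nat.card (C.pre (C.cimg t)) := by
        classical
        by_cases hall : C.pre (fixs a) ≤ C.pre (C.cimg t)
        · have := Subgroup.card_le_of_le hall; omega
        obtain ⟨x₀, hx₀, hx₀'⟩ := SetLike.not_le_iff_exists.mp hall
        have hcases : ∀ x ∈ C.pre (fixs a), x ∈ C.pre (C.cimg t) ∨ x * x₀ ∈ C.pre (C.cimg t) := by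
          intro x hx
          have e0 : t * x₀ * t⁻¹ = C.z * x₀ := (C.conj_fix_cases hc hx₀.1 hx₀.2).resolve_left fun e =>
            hx₀' ((C.mem_pre_cimg hc).mpr ⟨hx₀.1, (mul_inv_eq_iff_eq_mul.mp e).symm⟩)
          rcases C.conj_fix_cases hc hx.1 hx.2 with e | e
          · exact Or.inl ((C.mem_pre_cimg hc).mpr ⟨hx.1, (mul_inv_eq_iff_eq_mul.mp e).symm⟩)
          · refine Or.inr ((C.mem_pre_cimg hc).mpr ⟨mul_mem hx.1 hx₀.1, ?_⟩)
            have e2 : t * (x * x₀) * t⁻¹ = x * x₀ := by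
              calc t * (x * x₀) * t⁻¹ = (t * x * t⁻¹) * (t * x₀ * t⁻¹) := by group
                _ = C.z * x * (C.z * x₀) := by rw [e, e0]
                _ = C.z * (x * C.z) * x₀ := by group
                _ = C.z * (C.z * x) * x₀ := by rw [(C.x2.central x hx.1).eq]
                _ = x * x₀ := by rw [← mul_assoc C.z C.z x, C.x2.zz, one_mul]
            exact (mul_inv_eq_iff_eq_mul.mp e2).symm
        let F : C.pre (fixs a) → C.pre (C.cimg t) × Bool := fun x =>
          if h : (x : G) ∈ C.pre (C.cimg t) then (⟨x, h⟩, true)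
          else (⟨(x : G) * x₀, (hcases x x.2).resolve_left h⟩, false)
        have hF : Function.Injective F := by
          intro x y e
          simp only [F] at e
          split_ifs at e with h1 h2 h2
          · exact Subtype.ext (congrArg (fun p => (p.1 : G)) e)
          · exact absurd (congrArg Prod.snd e) (by simp)
          · exact absurd (congrArg Prod.snd e) (by simp)
          · exact Subtype.ext (mul_right_cancel (congrArg (fun p => (p.1 : G)) e))
        have hle := Nat.card_le_card_of_injective F hF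
        rw [Nat.card_prod, show Nat.card Bool = 2 by simp] at hle
        omega
      rw [C.card_pre, C.card_pre, ← pow_succ'] at hidx
      have := (Nat.pow_le_pow_iff_right (by norm_num : 1 < 2)).mp hidx
      have hV := C.dim
      omega
    have hb := C.center_bound hcl hg.symm hc hne
    have hp := C.S.finrank_perp (C.cimg t)
    have hi := Submodule.finrank_mono (inf_le_right : C.cimg t ⊓ C.S.perp (C.cimg t) ≤ C.S.perp (C.cimg t))
    have hV := C.dim
    omega
  obtain ⟨v, hv⟩ := mem_img.mp hu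
  obtain ⟨y, hy, rfl⟩ := C.π_surj v
  set d := cm' t y with hd
  have hdQ : d ∈ C.Q := C.cm_mem hc hy
  have hπd : C.π d = u := by rw [hd, C.π_cm hc hy, hv]
  have hdd : d * d = 1 := (C.π_sq d hdQ).mp (by rw [hπd]; exact hqu)
  have htd : Commute t d := by
    have h := C.cm_inverted hc hjt y
    rw [← hd, inv_eq_of_mul_eq_one_right hdd] at h
    exact mul_inv_eq_iff_eq_mul.mp h
  have hgc : g⁻¹ * (t * d) * g * C.z = C.z * (g⁻¹ * (t * d) * g) := by
    calc g⁻¹ * (t * d) * g * C.z = g⁻¹ * (t * d * t) * g := by rw [hg]; group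
      _ = g⁻¹ * (t * (t * d)) * g := by rw [mul_assoc t d t, htd.eq.symm]
      _ = _ := by rw [hg]; group
  refine ⟨g⁻¹ * (t * d) * g, hgc, ?_, fun e => ?_, ?_⟩
  · have := Cj.conj C (C.cj_cm hc hjt hy) g⁻¹
    rwa [inv_inv] at this
  · have e1 : t * d = t := by
      calc t * d = g * (g⁻¹ * (t * d) * g) * g⁻¹ := by group
        _ = t := by rw [e]
    rw [mul_eq_left.mp e1, C.π_one] at hπd
    exact hu0 hπd.symm
  · rintro ⟨k, hk⟩
    have hjd : C.Cj d := ⟨g * k, by
      calc g * k * C.z * (g * k)⁻¹ = g * (k * C.z * k⁻¹) * g⁻¹ := by group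
        _ = g * C.z * g⁻¹ * (t * d) := by rw [hk]; group
        _ = d := by rw [← hg, ← mul_assoc, Cj.sq C hjt, one_mul]⟩
    have := C.cj_Q hcl hjd hdQ
    rw [this, C.π_z] at hπd
    exact hu0 hπd.symm

end Ctx

end Cfsg.Lib.LargeExtra.EightSmith
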