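import Cfsg.Agent.LargeExtra.EightSmith.Exceptional

/-!
# No closed case
-/

set_option autoImplicit false
set_option linter.style.haveILetI false
set_option linter.unusedSectionVars false
set_option linter.unusedVariables false
set_option maxRecDepth 40000

open Module Subgroup
open scoped commutatorElement

namespace Cfsg.Lib.LargeExtra.EightSmith

universe u v w

namespace Ctx

variable {G : Type u} {H : Type v} {V : Type w} [Group G] [Finite G] [Group H] [AddCommGroup V]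
  [Module (ZMod 2) V] [Finite V] {q : QuadraticForm (ZMod 2) V} (C : Ctx G H q)

local notation "𝐁" => QuadraticMap.polarBilin q

variable (hcl : ∀ k : G, k * C.z * k⁻¹ ∈ C.Q → k * C.z * k⁻¹ = C.z)
include hcl

theorem exc_symm {t g : G} (hE : C.Exc t) (hg : g * C.z * g⁻¹ = t) : C.Exc (g⁻¹ * C.z * g) := by
  obtain ⟨hc, -, hne, hzt⟩ := hE
  refine ⟨?_, ⟨g⁻¹, by rw [inv_inv]⟩, fun e => hne ?_, fun h => hzt ?_⟩
  · show g⁻¹ * C.z * g * C.z = C.z * (g⁻¹ * C.z * g)
    calc g⁻¹ * C.z * g * C.z = g⁻¹ * (C.z * t) * g := by rw [← hg]; group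
      _ = g⁻¹ * (t * C.z) * g := by rw [hc.eq]
      _ = _ := by rw [← hg]; group
  · rw [← hg]; calc g * C.z * g⁻¹ = g * (g⁻¹ * C.z * g) * g⁻¹ := by rw [e]
      _ = C.z := by group
  · have h' := Cj.conj C h g
    rwa [show g * (C.z * (g⁻¹ * C.z * g)) * g⁻¹ = t * C.z by rw [← hg]; group, hc.eq] at h'

/-- The elementary group of images of the centralizer of `g⁻¹ z g` in `Q`. -/
theorem exists_L {t g : G} (hE : C.Exc t) (hg : g * C.z * g⁻¹ = t) :
    ∃ L : Subgroup H, C.μ t ∈ L ∧ (∀ a ∈ L, ∀ b ∈ L, Commute a b) ∧ (∀ a ∈ L, a * a = 1) ∧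
      (∀ l ∈ L, ∀ a ∈ C.meet g, C.ρ l (C.π a) = C.π a) ∧
      (∀ l ∈ L, ∀ u ∈ fixs (C.ρ (C.μ t)), ∃ a ∈ C.meet g, C.ρ l u + u = C.π a) ∧
      Nat.card L * Nat.card (C.meet g) = 32 ∧
      (∀ l ∈ L, l ≠ 1 → l = C.μ t ∨ ∃ u, C.Exc u ∧ (C.μ u = l ∨ C.μ u = C.μ t * l)) ∧
      (Nat.card (C.meet g) = 4 → ∀ l ∈ L, l ≠ 1 → ∃ u, C.Exc u ∧ C.μ u = l) := by
  have hS := C.exc_symm hcl hE hg
  set s := g⁻¹ * C.z * g with hs
  have hg' : g⁻¹ * C.z * (g⁻¹)⁻¹ = s := by rw [inv_inv]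
  obtain ⟨hc, hjt, hne, hzt⟩ := id hE
  have hmem : ∀ {x}, x ∈ C.pre (C.cimg s) → x ∈ C.Q ∧ Commute x s := fun h => (C.mem_pre_cimg hS.1).mp h
  have hz : ∀ {x}, x ∈ C.pre (C.cimg s) → Commute (g * x * g⁻¹) C.z := fun {x} h => by
    show g * x * g⁻¹ * C.z = C.z * (g * x * g⁻¹)
    calc g * x * g⁻¹ * C.z = g * (x * s) * g⁻¹ := by rw [hs]; group
      _ = g * (s * x) * g⁻¹ := by rw [(hmem h).2.eq]
      _ = _ := by rw [hs]; group
  have hTS : ∀ {x}, x ∈ C.pre (C.cimg s) → C.π x ∈ img (C.ρ (C.μ s)) := fun {x} h => by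
    rw [(C.exc_dim hcl hS).2, ← C.exc_cimg hcl hS]; exact h.2
  let φ : C.pre (C.cimg s) →* H := MonoidHom.mk' (fun x => C.μ (g * (x : G) * g⁻¹)) fun a b => by
    rw [← C.μ_mul _ _ (hz a.2) (hz b.2)]
    congr 1
    rw [Subgroup.coe_mul]; group
  have hcomm : ∀ a b : C.pre (C.cimg s), a * b = b * a := fun a b => Subtype.ext
    ((C.π_comm _ (hmem a.2).1 _ (hmem b.2).1).mp
      (img_isotropic (C.g_sq hS.1 hS.2.1) C.S (C.ρ_iso _) _ (hTS a.2) _ (hTS b.2))).eq
  have hmeet : ∀ {a}, a ∈ C.meet g → g⁻¹ * a * g ∈ C.pre (C.cimg s) := fun {a} ha =>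
    (C.mem_pre_cimg hS.1).mpr ⟨(C.mem_meet.mp ha).2, by
      have h1 := (C.x2.central a (C.mem_meet.mp ha).1).eq
      show g⁻¹ * a * g * s = s * (g⁻¹ * a * g)
      calc g⁻¹ * a * g * s = g⁻¹ * (a * C.z) * g := by rw [hs]; group
        _ = g⁻¹ * (C.z * a) * g := by rw [h1]
        _ = _ := by rw [hs]; group⟩
  have htmem : C.z ∈ C.pre (C.cimg s) := (C.mem_pre_cimg hS.1).mpr ⟨C.x2.mem, hS.1.symm⟩
  have hφt : φ ⟨C.z, htmem⟩ = C.μ t := by show C.μ (g * C.z * g⁻¹) = _; rw [hg]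
  -- conjugates over an element whose preimage is a commutator
  have hrep : ∀ x : C.pre (C.cimg s), φ x ≠ 1 → φ x ≠ C.μ t → ∀ y ∈ C.Q, cm' s y = x →
      ∃ u, C.Exc u ∧ C.μ u = φ x := by
    intro x hx1 hxt y hy he
    have hcx : Commute (C.z * (g * (x : G) * g⁻¹)) C.z := (Commute.refl _).mul_left (hz x.2)
    have hμ : C.μ (C.z * (g * (x : G) * g⁻¹)) = φ x := by
      rw [C.μ_mul _ _ (Commute.refl _) (hz x.2), C.μ_mem C.x2.mem, one_mul]; rfl
    refine ⟨C.z * (g * (x : G) * g⁻¹), ⟨hcx, ?_, fun e => hx1 ?_, ?_⟩, hμ⟩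
    · have h := Cj.conj C (C.cj_cm hS.1 hS.2.1 hy) g
      rwa [he, show g * (s * (x : G)) * g⁻¹ = C.z * (g * (x : G) * g⁻¹) by generalize (x : G) = X; rw [hs]; group] at h
    · rw [← hμ, e, C.μ_mem C.x2.mem]
    · rintro hj
      rw [← mul_assoc, C.x2.zz, one_mul] at hj
      have hjx : C.Cj (x : G) := by
        have h' := Cj.conj C hj g⁻¹
        rwa [show g⁻¹ * (g * (x : G) * g⁻¹) * g⁻¹⁻¹ = (x : G) by group] at h'
      refine hxt ?_
      rw [← hφt, show x = (⟨C.z, htmem⟩ : C.pre (C.cimg s)) from Subtype.ext (C.cj_Q hcl hjx (hmem x.2).1)]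
  refine ⟨φ.range, ⟨_, hφt⟩, ?_, ?_, ?_, ?_, ?_, ?_, ?_⟩
  · rintro _ ⟨a, rfl⟩ _ ⟨b, rfl⟩
    exact Commute.map (hcomm a b : Commute a b) φ
  · rintro _ ⟨a, rfl⟩
    rw [← map_mul, show a * a = 1 from Subtype.ext ((C.π_sq _ (hmem a.2).1).mp (C.exc_ts hcl hS _ (hTS a.2))),
      map_one]
  · rintro _ ⟨x, rfl⟩ a ha
    show C.ρ (C.μ (g * (x : G) * g⁻¹)) (C.π a) = _
    rw [C.ρ_π _ (hz x.2) a (C.mem_meet.mp ha).1]
    congr 1
    have h1 := congrArg Subtype.val (hcomm x ⟨_, hmeet ha⟩)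
    simp only [Subgroup.coe_mul] at h1
    calc g * (x : G) * g⁻¹ * a * (g * (x : G) * g⁻¹)⁻¹
        = g * ((x : G) * (g⁻¹ * a * g)) * (x : G)⁻¹ * g⁻¹ := by group
      _ = g * ((g⁻¹ * a * g) * (x : G)) * (x : G)⁻¹ * g⁻¹ := by rw [h1]
      _ = a := by group
  · rintro _ ⟨x, rfl⟩ u hu
    obtain ⟨y, hy, rfl⟩ := C.π_surj u
    have hyt := C.exc_commute hcl hE hy hu
    have hyc : Commute (g⁻¹ * y * g) C.z := by
      show g⁻¹ * y * g * C.z = C.z * (g⁻¹ * y * g)
      calc g⁻¹ * y * g * C.z = g⁻¹ * (y * t) * g := by rw [← hg]; group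
        _ = g⁻¹ * (t * y) * g := by rw [hyt.eq]
        _ = _ := by rw [← hg]; group
    set p := g * (x : G) * g⁻¹ with hp
    refine ⟨p * y * p⁻¹ * y⁻¹, C.mem_meet.mpr ⟨mul_mem (C.conj_mem (hz x.2) hy) (inv_mem hy), ?_⟩, ?_⟩
    · rw [show g⁻¹ * (p * y * p⁻¹ * y⁻¹) * g =
        (x : G) * ((g⁻¹ * y * g) * (x : G)⁻¹ * (g⁻¹ * y * g)⁻¹) by rw [hp]; group]
      exact mul_mem (hmem x.2).1 (C.conj_mem hyc (inv_mem (hmem x.2).1))
    · rw [C.π_mul _ (C.conj_mem (hz x.2) hy) _ (inv_mem hy), C.π_inv hy, ← C.ρ_π _ (hz x.2) y hy]; rfl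
  · have hker : Nat.card φ.ker = Nat.card (C.meet g) := Nat.card_congr
      { toFun := fun x => ⟨g * ((x : C.pre (C.cimg s)) : G) * g⁻¹, C.mem_meet.mpr
          ⟨(C.μ_ker _ (hz (x : C.pre (C.cimg s)).2)).mp (MonoidHom.mem_ker.mp x.2), by
            convert (hmem (x : C.pre (C.cimg s)).2).1 using 1; group⟩⟩
        invFun := fun a => ⟨⟨_, hmeet a.2⟩, MonoidHom.mem_ker.mpr (by
          show C.μ (g * (g⁻¹ * (a : G) * g) * g⁻¹) = 1
          rw [show g * (g⁻¹ * (a : G) * g) * g⁻¹ = (a : G) by group]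
          exact C.μ_mem (C.mem_meet.mp a.2).1)⟩
        left_inv := fun x => Subtype.ext (Subtype.ext (by simp [mul_assoc]))
        right_inv := fun a => Subtype.ext (by simp [mul_assoc]) }
    have h := Subgroup.card_eq_card_quotient_mul_card_subgroup φ.ker
    have hd : finrank (ZMod 2) (C.cimg s) = 4 := by
      rw [C.exc_cimg hcl hS, ← (C.exc_dim hcl hS).2]; exact (C.exc_dim hcl hS).1
    rw [Nat.card_congr (QuotientGroup.quotientKerEquivRange φ).toEquiv, hker, C.card_pre, hd] at h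
    exact h.symm
  · rintro _ ⟨x, rfl⟩ hx1
    by_cases hxt : φ x = C.μ t
    · exact Or.inl hxt
    obtain ⟨y, hy, e | e⟩ := C.exc_good_cases hcl hS (hmem x.2).1 (hTS x.2)
    · obtain ⟨u, hu, hμ⟩ := hrep x hx1 hxt y hy e
      exact Or.inr ⟨u, hu, Or.inl hμ⟩
    · have he : φ (⟨C.z, htmem⟩ * x) = C.μ t * φ x := by rw [map_mul, hφt]
      have hμt1 : C.μ t * C.μ t = 1 := C.μt_sq hc hjt
      obtain ⟨u, hu, hμ⟩ := hrep (⟨C.z, htmem⟩ * x)
        (by rw [he]; exact fun h => hxt (by rw [← one_mul (φ x), ← hμt1, mul_assoc, h, mul_one]))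
        (by rw [he]; exact fun h => hx1 (mul_eq_left.mp h)) y hy e
      exact Or.inr ⟨u, hu, Or.inr (hμ.trans he)⟩
  · rintro hA _ ⟨x, rfl⟩ hx1
    by_cases hxt : φ x = C.μ t
    · exact ⟨t, hE, hxt.symm⟩
    obtain ⟨y, hy, e | e⟩ := C.exc_good_cases hcl hS (hmem x.2).1 (hTS x.2)
    · exact hrep x hx1 hxt y hy e
    -- correct by a non-trivial element of the intersection
    obtain ⟨a, ha, ha1, hBa⟩ : ∃ a ∈ C.meet g, a ≠ 1 ∧ 𝐁 (C.π y) (C.π (g⁻¹ * a * g)) = 0 := by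
      classical
      haveI := Fintype.ofFinite (C.meet g)
      rw [Nat.card_eq_fintype_card] at hA
      have pick : ∀ S : Finset (C.meet g), S.card < 4 → ∃ x, x ∉ S := fun S hS => by
        by_contra hall
        push Not at hall
        have : Finset.univ ⊆ S := fun x _ => hall x
        have := Finset.card_le_card this
        rw [Finset.card_univ] at this
        omega
      obtain ⟨a, ha⟩ := pick {1} (by simp)
      obtain ⟨b, hb⟩ := pick {1, a} (Finset.card_le_two.trans_lt (by norm_num))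
      simp only [Finset.mem_insert, Finset.mem_singleton, not_or] at ha hb
      have hab : (a * b : C.meet g) ≠ 1 := fun e0 => hb.2 (by
        have haa : a * a = 1 := Subtype.ext (C.meet_sq hcl hE hg a.2)
        rw [← one_mul b, ← haa, mul_assoc, e0, mul_one])
      rcases zmod2_cases (𝐁 (C.π y) (C.π (g⁻¹ * (a : G) * g))) with h | h
      · exact ⟨a, a.2, fun e0 => ha (Subtype.ext e0), h⟩
      rcases zmod2_cases (𝐁 (C.π y) (C.π (g⁻¹ * (b : G) * g))) with h' | h'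
      · exact ⟨b, b.2, fun e0 => hb.1 (Subtype.ext e0), h'⟩
      refine ⟨(a * b : C.meet g), (a * b).2, fun e0 => hab (Subtype.ext e0), ?_⟩
      rw [Subgroup.coe_mul, show g⁻¹ * ((a : G) * b) * g = (g⁻¹ * a * g) * (g⁻¹ * b * g) by group,
        C.π_mul _ (hmem (hmeet a.2)).1 _ (hmem (hmeet b.2)).1, map_add, h, h']
      rfl
    set a' := g⁻¹ * a * g with ha'
    have ha'm : a' ∈ C.meet g⁻¹ := C.mem_meet.mpr ⟨(C.mem_meet.mp ha).2, by
      rw [inv_inv, ha', show g * (g⁻¹ * a * g) * g⁻¹ = a by group]; exact (C.mem_meet.mp ha).1⟩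
    obtain ⟨y', hy', e' | e'⟩ := C.exc_good_cases hcl hS (C.mem_meet.mp ha'm).1 (C.meet_img hcl hS hg' ha'm)
    · exfalso
      have h := C.meet_not_good hcl hS hg' hy' (e' ▸ ha'm)
      rw [e', ha'] at h
      exact ha1 (conj_eq_one_iff.mp (by rw [inv_inv]; exact h : g⁻¹ * a * g⁻¹⁻¹ = 1))
    have h := C.cm_mul hcl hS hy hy'
    rw [e', C.π_zmul (C.mem_meet.mp ha'm).1, if_pos hBa, e] at h
    have h' : cm' s (y * y') = ((x * ⟨a', hmeet ha⟩ : C.pre (C.cimg s)) : G) := by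
      rw [h, Subgroup.coe_mul, show C.z * (x : G) * (C.z * a') = C.z * ((x : G) * C.z) * a' by group,
        (C.x2.central _ (hmem x.2).1).eq, ← mul_assoc C.z C.z, C.x2.zz, one_mul]
    have hφa : φ ⟨a', hmeet ha⟩ = 1 := by
      show C.μ (g * (g⁻¹ * a * g) * g⁻¹) = 1
      rw [show g * (g⁻¹ * a * g) * g⁻¹ = a by group]
      exact C.μ_mem (C.mem_meet.mp ha).1
    have he : φ (x * ⟨a', hmeet ha⟩) = φ x := by rw [map_mul, hφa, mul_one]
    obtain ⟨u, hu, hμ⟩ := hrep _ (by rwa [he]) (by rwa [he]) (y * y') (mul_mem hy hy') h'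
    exact ⟨u, hu, hμ.trans he⟩

omit hcl in
/-- The line of `w` is invariant. -/
theorem img_w_invariant (h : H) : ∀ x ∈ img (C.ρ C.T.w), C.ρ h x ∈ img (C.ρ C.T.w) := by
  rintro _ ⟨v, rfl⟩
  rw [shift_apply, map_add, ← LinearEquiv.mul_apply, ← map_mul]
  rcases C.T.conj_w h with e | e
  · rw [mul_inv_eq_iff_eq_mul.mp e, map_mul, LinearEquiv.mul_apply]
    exact shift_mem _ _
  · rw [mul_inv_eq_iff_eq_mul.mp e, map_mul, LinearEquiv.mul_apply]
    set u := C.ρ h v
    refine ⟨C.ρ C.T.w⁻¹ u, ?_⟩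
    rw [shift_apply, ← LinearEquiv.mul_apply (C.ρ C.T.w), ← map_mul, mul_inv_cancel, map_one, add_comm]
    rfl

/-- An exceptional conjugate is impossible when `w` fixes a hyperline. -/
theorem closed_c (hG : IsSimpleGroup G) (h2 : finrank (ZMod 2) (img (C.ρ C.T.w)) = 2)
    (han : ∀ x ∈ img (C.ρ C.T.w), q x = 0 → x = 0) : False := by
  obtain ⟨t, hE⟩ := C.exists_exc hcl hG
  set a := C.ρ (C.μ t) with ha
  obtain ⟨x, hx, hx0⟩ := Submodule.exists_mem_ne_zero_of_ne_bot (p := img (C.ρ C.T.w)) fun e => by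
    rw [e, finrank_bot] at h2; omega
  obtain ⟨y, hy, hy0, hfix⟩ : ∃ y ∈ img (C.ρ C.T.w), y ≠ 0 ∧ y ∈ fixs a := by
    by_cases hf : x ∈ fixs a
    · exact ⟨x, hx, hx0, hf⟩
    · exact ⟨a x + x, add_mem (C.img_w_invariant (C.μ t) x hx) hx,
        fun e => hf (mem_fixs.mpr (add_eq_zero_iff'.mp e)),
        img_le_fixs (C.g_sq hE.1 hE.2.1) (shift_mem a x)⟩
  rw [← (C.exc_dim hcl hE).2] at hfix
  exact hy0 (han y hy (C.exc_ts hcl hE y hfix))

/-- An exceptional conjugate centralizes `w` when `w` has no fixed point. -/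
theorem exc_cent (A : C.A) {t : G} (hE : C.Exc t) : Commute (C.μ t) C.T.w := by
  by_contra hinv
  obtain ⟨hc, ⟨g, hg⟩, hne, -⟩ := id hE
  obtain ⟨L, htL, hab, hsq, hfixA, hsh, hcard, -, -⟩ := C.exists_L hcl hE hg
  classical
  haveI : Finite H := Finite.of_injective _ C.T.inj
  haveI := Fintype.ofFinite H
  set a := C.ρ (C.μ t) with hadef
  set w := C.ρ C.T.w with hwdef
  obtain ⟨hd4, hRF⟩ := C.exc_dim hcl hE
  have hfpw : ∀ x, w x = x → x = 0 := fun x hx => A.R.fpfw x (by rw [A.hw]; exact hx)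
  have hwww : ∀ x, w (w (w x)) = x := fun x => by
    have := A.R.www x; rwa [A.hw] at this
  have hws : ∀ x, x + w x + w (w x) = 0 := fun x => by
    have := A.R.wsum x; rwa [A.hw] at this
  have haw : ∀ x, a (w x) = w (w (a x)) := fun x => by
    have e := C.T.inverts_of_not_commute hinv
    rw [mul_inv_eq_iff_eq_mul, show C.T.w⁻¹ = C.T.w * C.T.w from inv_eq_of_mul_eq_one_right (by
      rw [← C.T.w_pow]; simp [pow_succ, mul_assoc])] at e
    rw [hadef, hwdef, ← LinearEquiv.mul_apply, ← map_mul, e, map_mul, map_mul]; rfl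
  -- `R` meets its translate trivially
  have hRw : ∀ x ∈ fixs a, w x ∈ fixs a → x = 0 := fun x hx hwx => by
    rw [mem_fixs] at hx hwx
    rw [haw, hx] at hwx
    exact hfpw x (w.injective hwx)
  have hspan : ∀ v : V, ∃ x ∈ fixs a, ∃ y ∈ fixs a, v = x + w y := by
    intro v
    have hinf : fixs a ⊓ (fixs a).map w.toLinearMap = ⊥ := (Submodule.eq_bot_iff _).mpr fun x hx => by
      obtain ⟨y, hy, rfl⟩ := hx.2
      rw [hRw y hy hx.1, map_zero]
    have hsum := Submodule.finrank_sup_add_finrank_inf_eq (fixs a) ((fixs a).map w.toLinearMap)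
    have h1 : finrank (ZMod 2) ((fixs a).map w.toLinearMap) = 4 := by
      rw [LinearEquiv.finrank_map_eq, ← hRF]; exact hd4
    have h2 : finrank (ZMod 2) (fixs a) = 4 := hRF ▸ hd4
    rw [hinf, finrank_bot, h1, h2] at hsum
    have htop : fixs a ⊔ (fixs a).map w.toLinearMap = ⊤ :=
      Submodule.eq_top_of_finrank_eq (by rw [C.dim]; omega)
    obtain ⟨x, hx, _, ⟨y, hy, rfl⟩, e⟩ := Submodule.mem_sup.mp (htop ▸ Submodule.mem_top : v ∈ _)
    exact ⟨x, hx, y, hy, e.symm⟩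
  have hshw : ∀ x ∈ fixs a, a (w x) + w x = x := fun x hx => by
    rw [haw, mem_fixs.mp hx]
    have h := hws x
    rw [add_assoc, add_eq_zero_iff'] at h
    rw [add_comm]; exact h.symm
  -- the centralizing part
  let L₀ := Finset.univ.filter fun l : H => l ∈ L ∧ Commute l C.T.w
  have hhalf : Nat.card L ≤ 2 * L₀.card := by
    rw [Nat.card_eq_fintype_card, Fintype.card_subtype]
    have h1 := Finset.card_filter_add_card_filter_not
      (s := Finset.univ.filter fun l : H => l ∈ L) (fun l => Commute l C.T.w)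
    rw [Finset.filter_filter, Finset.filter_filter] at h1
    have h2 : (Finset.univ.filter fun l : H => l ∈ L ∧ ¬ Commute l C.T.w).card ≤ L₀.card :=
      Finset.card_le_card_of_injOn (fun l => C.μ t * l)
        (fun l hl => by
          simp only [Finset.coe_filter, Finset.mem_univ, true_and, Set.mem_setOf_eq, L₀] at hl ⊢
          exact ⟨mul_mem htL hl.1, C.T.not_commute_mul hinv hl.2⟩)
        (mul_right_injective _).injOn
    have h0 : L₀.card = (Finset.univ.filter fun l : H => l ∈ L ∧ Commute l C.T.w).card := rfl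
    omega
  have hpres : ∀ l ∈ L, ∀ x ∈ fixs a, C.ρ l x ∈ fixs a := fun l hl x hx => by
    rw [mem_fixs, hadef, ← LinearEquiv.mul_apply, ← map_mul, (hab _ htL _ hl).eq, map_mul,
      LinearEquiv.mul_apply, mem_fixs.mp hx]
  have hlw : ∀ {l}, Commute l C.T.w → ∀ x, C.ρ l (w x) = w (C.ρ l x) := fun {l} hl x => by
    rw [hwdef, ← LinearEquiv.mul_apply, ← map_mul, hl.eq, map_mul]; rfl
  have hext : ∀ l ∈ L₀, ∀ l' ∈ L₀, (∀ x ∈ fixs a, C.ρ l x = C.ρ l' x) → l = l' := by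
    intro l hl l' hl' h
    refine C.ρ_inj (LinearEquiv.ext fun v => ?_)
    obtain ⟨x, hx, y, hy, rfl⟩ := hspan v
    rw [map_add, map_add, hlw (Finset.mem_filter.mp hl).2.2, hlw (Finset.mem_filter.mp hl').2.2, h x hx, h y hy]
  -- the displacement is orthogonal to the translate of the intersection
  have horth : ∀ l ∈ L₀, ∀ u ∈ fixs a, ∀ b ∈ C.meet g, 𝐁 (w (C.π b)) (C.ρ l u + u) = 0 := by
    intro l hl u hu b hb
    obtain ⟨-, hlL, hlc⟩ := Finset.mem_filter.mp hl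
    have h := (C.ρ_iso l).B (w (C.π b)) u
    rw [hlw hlc, hfixA l hlL b hb] at h
    rw [map_add, h]; exact CharTwo.add_self_eq_zero _
  have hπfix : ∀ {b}, b ∈ C.meet g → C.π b ∈ fixs a := fun hb => hRF ▸ C.meet_img hcl hE hg hb
  have hbeta : ∀ {b c}, b ∈ C.meet g → c ∈ C.meet g → b ≠ 1 → c ≠ 1 → b ≠ c →
      𝐁 (w (C.π b)) (C.π c) = 1 := fun hb hc' hb1 hc1 hbc =>
    C.beta_one hcl hE hg hb hc' hb1 hc1 hbc (hshw _ (hπfix hb))
  have hself : ∀ x ∈ fixs a, 𝐁 (w x) x = 0 := fun x hx => by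
    conv_lhs => arg 2; rw [← hshw x hx]
    rw [← q_shift (C.g_sq hc hE.2.1) (C.ρ_iso _)]
    exact C.exc_ts hcl hE _ (shift_mem _ _)
  have hA4 := C.meet_card hcl hE hg
  have hApos : 1 ≤ Nat.card (C.meet g) := Nat.card_pos
  haveI := Fintype.ofFinite (C.meet g)
  have hAc : Nat.card (C.meet g) = (Finset.univ : Finset (C.meet g)).card := by
    rw [Nat.card_eq_fintype_card, Finset.card_univ]
  by_cases h4 : 3 ≤ Nat.card (C.meet g)
  · -- trivial on `R`
    have hone : ∀ l ∈ L₀, l = 1 := by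
      intro l hl
      refine hext l hl 1 (Finset.mem_filter.mpr ⟨Finset.mem_univ _, one_mem _, Commute.one_left _⟩) fun u hu => ?_
      obtain ⟨-, hlL, hlc⟩ := Finset.mem_filter.mp hl
      obtain ⟨c, hcA, e⟩ := hsh l hlL u hu
      by_cases hc1 : c = 1
      · rw [hc1, C.π_one, add_eq_zero_iff'] at e
        rw [map_one]; exact e
      · exfalso
        obtain ⟨b, hb⟩ : ∃ b : C.meet g, b ∉ ({1, ⟨c, hcA⟩} : Finset (C.meet g)) := by
          by_contra hall
          push Not at hall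
          have := Finset.card_le_card (fun x _ => hall x : Finset.univ ⊆ ({1, ⟨c, hcA⟩} : Finset (C.meet g)))
          have h2 : ({1, ⟨c, hcA⟩} : Finset (C.meet g)).card ≤ 2 := Finset.card_le_two
          omega
        simp only [Finset.mem_insert, Finset.mem_singleton, not_or] at hb
        have h := horth l hl u hu b b.2
        rw [e, hbeta b.2 hcA (fun e0 => hb.1 (Subtype.ext e0)) hc1 (fun e0 => hb.2 (Subtype.ext e0))] at h
        exact one_ne_zero h
    have h1 : L₀.card ≤ 1 := Finset.card_le_one.mpr fun x hx y hy => (hone x hx).trans (hone y hy).symm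
    nlinarith [hcard, hhalf, h1, hA4]
  · push Not at h4
    obtain ⟨a₀, ha₀, hall⟩ : ∃ a₀ ∈ C.meet g, ∀ c ∈ C.meet g, c = 1 ∨ c = a₀ := by
      by_cases h1 : ∀ c ∈ C.meet g, c = 1
      · exact ⟨1, one_mem _, fun c hc => Or.inl (h1 c hc)⟩
      push Not at h1
      obtain ⟨a₀, ha₀, hne₀⟩ := h1
      refine ⟨a₀, ha₀, fun c hc => ?_⟩
      by_contra hno
      push Not at hno
      have hthree : ({1, ⟨a₀, ha₀⟩, ⟨c, hc⟩} : Finset (C.meet g)).card = 3 :=
        Finset.card_eq_three.mpr ⟨_, _, _, fun e => hne₀ (congrArg Subtype.val e.symm),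
          fun e => hno.1 (congrArg Subtype.val e.symm), fun e => hno.2 (congrArg Subtype.val e.symm), rfl⟩
      have := Finset.card_le_univ ({1, ⟨a₀, ha₀⟩, ⟨c, hc⟩} : Finset (C.meet g))
      rw [← Finset.card_univ] at this
      omega
    set v := C.π a₀ with hv
    have hd : ∀ l ∈ L₀, ∀ u ∈ fixs a, ∃ r : ZMod 2, C.ρ l u = u + r • v := by
      intro l hl u hu
      obtain ⟨c, hcA, e⟩ := hsh l (Finset.mem_filter.mp hl).2.1 u hu
      have hlu : C.ρ l u = u + C.π c := by rw [← e, add_comm (C.ρ l u), add_add_cancel']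
      rcases hall c hcA with rfl | rfl
      · exact ⟨0, by rw [zero_smul, hlu, C.π_one]⟩
      · exact ⟨1, by rw [one_smul, hlu]⟩
    have hle2 : L₀.card ≤ 2 := by
      by_cases hv0 : v = 0
      · refine le_trans (Finset.card_le_one.mpr fun x hx y hy => hext x hx y hy fun u hu => ?_) one_le_two
        obtain ⟨r, hr⟩ := hd x hx u hu
        obtain ⟨r', hr'⟩ := hd y hy u hu
        rw [hr, hr', hv0, smul_zero, smul_zero]
      -- a vector pairing with the line
      obtain ⟨u₀, hu₀, hu₀1⟩ : ∃ u₀ ∈ fixs a, 𝐁 (w v) u₀ = 1 := by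
        by_contra hno
        push Not at hno
        have hwv : w v ∈ C.S.perp (img a) := C.S.mem_perp.mpr fun y hy => by
          rw [B_comm]; exact (zmod2_cases _).resolve_right (hno y (hRF ▸ hy))
        rw [C.S.perp_img (C.ρ_iso _)] at hwv
        exact hv0 (hRw v (hπfix ha₀) hwv)
      have key : ∀ l ∈ L₀, ∀ u ∈ fixs a, ∀ r r₀ : ZMod 2, C.ρ l u = u + r • v → C.ρ l u₀ = u₀ + r₀ • v →
          r + r₀ * 𝐁 (w u) v = 0 := by
        intro l hl u hu r r₀ e e₀
        have h := (C.ρ_iso l).B (w u) u₀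
        rw [hlw (Finset.mem_filter.mp hl).2.2, e, e₀] at h
        simp only [map_add, map_smul, LinearMap.add_apply, LinearMap.smul_apply, smul_eq_mul, hu₀1,
          hself v (hπfix ha₀)] at h
        have k : ∀ r r₀ x y : ZMod 2, x + r * 1 + r₀ * (y + r * 0) = x → r + r₀ * y = 0 := by decide
        exact k _ _ _ _ h
      let F : H → Bool := fun l => decide (C.ρ l u₀ = u₀)
      refine le_trans (Finset.card_le_card_of_injOn F (fun _ _ => Finset.mem_coe.mpr (Finset.mem_univ _)) ?_)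
        (le_of_eq (Finset.card_univ.trans Fintype.card_bool))
      intro l hl l' hl' he
      rw [Finset.mem_coe] at hl hl'
      refine hext l hl l' hl' fun u hu => ?_
      obtain ⟨r, hr⟩ := hd l hl u hu
      obtain ⟨r', hr'⟩ := hd l' hl' u hu
      obtain ⟨r₀, hr₀⟩ := hd l hl u₀ hu₀
      obtain ⟨r₀', hr₀'⟩ := hd l' hl' u₀ hu₀
      have hF : ∀ m : H, ∀ s : ZMod 2, C.ρ m u₀ = u₀ + s • v → (C.ρ m u₀ = u₀ ↔ s = 0) := by
        intro m s e
        rcases zmod2_cases s with rfl | rfl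
        · simpa using e
        · rw [one_smul] at e
          simp [e, hv0]
      have hr00 : r₀ = r₀' := eq_of_iff (by
        rw [← hF l r₀ hr₀, ← hF l' r₀' hr₀']
        exact decide_eq_decide.mp he)
      have k1 := key l hl u hu r r₀ hr hr₀
      have k2 := key l' hl' u hu r' r₀' hr' hr₀'
      rw [← hr00, ← k1] at k2
      rw [hr, hr', add_right_cancel k2]
    nlinarith [hcard, hhalf, hle2, h4, hApos]

/-- No exceptional conjugate at all. -/
theorem closed_a (hG : IsSimpleGroup G) (A : C.A) : False := by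
  classical
  obtain ⟨t, hE⟩ := C.exists_exc hcl hG
  obtain ⟨hc, ⟨g, hg⟩, hne, -⟩ := id hE
  obtain ⟨L, htL, hab, hsq, -, -, hcard, hrep, hrep4⟩ := C.exists_L hcl hE hg
  haveI : Finite H := Finite.of_injective _ C.T.inj
  have htc := C.exc_cent hcl A hE
  have hLc : ∀ l ∈ L, Commute l C.T.w := by
    intro l hl
    by_cases h1 : l = 1
    · rw [h1]; exact Commute.one_left _
    rcases hrep l hl h1 with rfl | ⟨u, hu, e | e⟩
    · exact htc
    · rw [← e]; exact C.exc_cent hcl A hu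
    · have h := htc.mul_left (C.exc_cent hcl A hu)
      rwa [e, ← mul_assoc, C.μt_sq hc hE.2.1, one_mul] at h
  have h8 := C.T.card_elementary L hsq hLc
  have hA4 := C.meet_card hcl hE hg
  have hA : Nat.card (C.meet g) = 4 := by nlinarith
  have hL : Nat.card L = 8 := by rw [hA] at hcard; omega
  -- every element fixes a four-dimensional space
  have h16 : ∀ l ∈ L, l ≠ 1 → (Finset.univ.filter fun x : Fin 256 => act false 0 (C.T.f l).2 x = x).card = 16 := by
    intro l hl h1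
    rw [A.fix_card (hsq l hl) (hLc l hl)]
    obtain ⟨u, hu, rfl⟩ := hrep4 hA l hl h1
    rw [← (C.exc_dim hcl hu).2, (C.exc_dim hcl hu).1]
    norm_num
  obtain ⟨k, hk⟩ := exists_conj (L.map C.T.f) (fun x => by
    obtain ⟨_, l, hl, rfl⟩ := x
    exact ⟨1, Subtype.ext (by rw [pow_one, pow_two]; show C.T.f l * C.T.f l = 1; rw [← map_mul, hsq l hl, map_one])⟩)
  let σ : L → Equiv.Perm (Fin 6) := fun l => k.2 * (C.T.f (l : H)).2 * k.2⁻¹
  have hσmul : ∀ l l' : L, σ (l * l') = σ l * σ l' := fun l l' => by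
    simp only [σ, Subgroup.coe_mul, map_mul, Prod.snd_mul]; group
  have hσinj : Function.Injective σ := fun l l' e => Subtype.ext (C.T.inj (Prod.ext
    (by rw [C.T.fst_eq_one (hsq _ l.2) (hLc _ l.2), C.T.fst_eq_one (hsq _ l'.2) (hLc _ l'.2)])
    (mul_left_cancel (mul_right_cancel e))))
  have hσ1 : σ 1 = 1 := by simp [σ]
  have hσcent : ∀ l : L, l ≠ 1 → σ l ∈ centDblL := fun l h1 => by
    refine centDblL_complete _ (involutionsL_complete _ ?_ fun e => h1 (hσinj (e.trans hσ1.symm))) ?_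
    · rw [← hσmul, show l * l = 1 from Subtype.ext (hsq _ l.2), hσ1]
    · exact (mem_sylP.mp (hk _ ⟨(l : H), l.2, rfl⟩)).2
  have hσswap : ∀ l : L, l ≠ 1 → σ l ∉ swapsL := by
    intro l h1 hs
    obtain ⟨i, j, hij, e⟩ : ∃ i j, i ≠ j ∧ σ l = Equiv.swap i j := by
      revert hs
      generalize σ l = τ
      intro hs
      simp only [swapsL, List.mem_cons, List.not_mem_nil, or_false] at hs
      rcases hs with rfl | rfl | rfl | rfl | rfl | rfl | rfl | rfl | rfl | rfl | rfl | rfl | rfl | rfl | rfl <;>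
        exact ⟨_, _, by decide, rfl⟩
    have e' : (C.T.f (l : H)).2 = Equiv.swap (k.2⁻¹ i) (k.2⁻¹ j) := by
      rw [Equiv.swap_apply_apply, ← e]
      simp only [σ]; group
    have h := h16 l l.2 fun e0 => h1 (Subtype.ext e0)
    rw [e', swap_fix _ _ fun e0 => hij ((k.2⁻¹).injective e0)] at h
    omega
  haveI := Fintype.ofFinite L
  have pick : ∀ S : Finset L, S.card < 8 → ∃ x, x ∉ S := fun S hS => by
    by_contra hall
    push Not at hall
    have := Finset.card_le_card (fun x _ => hall x : Finset.univ ⊆ S)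
    rw [Finset.card_univ, ← Nat.card_eq_fintype_card, hL] at this
    omega
  obtain ⟨a, ha⟩ := pick {1} (by simp)
  obtain ⟨b, hb⟩ := pick {1, a} (Finset.card_le_two.trans_lt (by norm_num))
  obtain ⟨c, hcc⟩ := pick {1, a, b, a * b} (Finset.card_le_four.trans_lt (by norm_num))
  simp only [Finset.mem_insert, Finset.mem_singleton, not_or] at ha hb hcc
  have sq : ∀ l : L, l * l = 1 := fun l => Subtype.ext (hsq _ l.2)
  have nem : ∀ {l m : L}, m ≠ l → l * m ≠ 1 := fun {l m} h e => h (by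
    rw [← one_mul m, ← sq l, mul_assoc, e, mul_one])
  have hab1 : a * b ≠ 1 := nem hb.2
  have hac : a * c ≠ 1 := nem hcc.2.1
  have hbc : b * c ≠ 1 := nem hcc.2.2.1
  have habc : a * b * c ≠ 1 := nem hcc.2.2.2
  have com : ∀ l l' : L, σ l * σ l' = σ l' * σ l := fun l l' => by
    rw [← hσmul, ← hσmul]; exact congrArg σ (Subtype.ext (hab _ l.2 _ l'.2).eq)
  rcases elementary_eight (σ a) (hσcent a ha) (hσswap a ha) (σ b) (hσcent b hb.1) (com a b)
      (fun e => hb.2 (hσinj e)) (hσswap b hb.1) (by rw [← hσmul]; exact hσswap _ hab1) (σ c) (hσcent c hcc.1)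
      (com a c) (com b c) (fun e => hcc.2.1 (hσinj e)) (fun e => hcc.2.2.1 (hσinj e))
      (by rw [← hσmul]; exact fun e => hcc.2.2.2 (hσinj e)) with h | h | h | h
  · exact hσswap c hcc.1 h
  · exact hσswap _ hac (hσmul a c ▸ h)
  · exact hσswap _ hbc (hσmul b c ▸ h)
  · exact hσswap _ habc (by rw [hσmul, hσmul]; exact h)

end Ctx

end Cfsg.Lib.LargeExtra.EightSmith
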