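import Mathlib.GroupTheory.Perm.Sign
import Mathlib.GroupTheory.Perm.Fin
import Mathlib.Data.ZMod.Basic

/-!
# The eight-dimensional module of `S₃ × S₆` in coordinates

A vector `x : Fin 256` stands for `a + w b`, where `a = x % 16` and `b = x / 16` lie in the natural
four-dimensional module of `S₆`; the non-zero vectors of that module are the pairs of points.
-/

set_option autoImplicit false
set_option linter.style.haveILetI false
set_option linter.unusedSectionVars false
set_option maxRecDepth 40000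
set_option maxHeartbeats 4000000
set_option synthInstance.maxSize 4096
set_option synthInstance.maxHeartbeats 400000

open Equiv

namespace Cfsg.Lib.LargeExtra.EightSmith

/-- Parity of six bits. -/
def par6 (n : ℕ) : ℕ := (n % 2 + n / 2 % 2 + n / 4 % 2 + n / 8 % 2 + n / 16 % 2 + n / 32 % 2) % 2

/-- The even set of points of a vector of the natural module. -/
def mask (a : ℕ) : ℕ := 2 * a + par6 a

/-- The symplectic form of the natural module. -/
def fN (a b : ℕ) : ℕ := par6 (Nat.land (mask a) (mask b))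

/-- The quadratic form. -/
def qc (x : Fin 256) : ℕ := fN (x.val % 16) (x.val / 16)

/-- The sum. -/
def xadd (x y : Fin 256) : Fin 256 := ⟨Nat.xor x.val y.val % 256, Nat.mod_lt _ (by norm_num)⟩

/-- The polar form. -/
def bc (x y : Fin 256) : ℕ := (qc (xadd x y) + qc x + qc y) % 2

/-- The pairs through the first point. -/
def upt : Fin 6 → ℕ := ![0, 1, 2, 4, 8, 15]

/-- A permutation on the natural module. -/
def wact (σ : Perm (Fin 6)) (a : ℕ) : ℕ :=
  Nat.xor (Nat.xor (if a % 2 = 1 then Nat.xor (upt (σ 0)) (upt (σ 1)) else 0)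
      (if a / 2 % 2 = 1 then Nat.xor (upt (σ 0)) (upt (σ 2)) else 0))
    (Nat.xor (if a / 4 % 2 = 1 then Nat.xor (upt (σ 0)) (upt (σ 3)) else 0)
      (if a / 8 % 2 = 1 then Nat.xor (upt (σ 0)) (upt (σ 4)) else 0))

/-- Multiplication of a pair by a power of `w`. -/
def wpow : Fin 3 → ℕ → ℕ → ℕ
  | 0, a, b => a + 16 * b
  | 1, a, b => b + 16 * Nat.xor a b
  | 2, a, b => Nat.xor a b + 16 * a

/-- The element `w ^ m · (τ ^ e ⊗ σ)`. -/
def act (e : Bool) (m : Fin 3) (σ : Perm (Fin 6)) (x : Fin 256) : Fin 256 :=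
  ⟨wpow m (if e then Nat.xor (wact σ (x.val % 16)) (wact σ (x.val / 16)) else wact σ (x.val % 16))
    (wact σ (x.val / 16)) % 256, Nat.mod_lt _ (by norm_num)⟩

/-- The unit vectors. -/
def unitsL : List (Fin 256) := [1, 2, 4, 8, 16, 32, 64, 128]

/-- A basis of the space orthogonal to `1`. -/
def perpOne : List (Fin 256) := [1, 2, 4, 8, 16, 96, 160]

/-- A basis of the space orthogonal to `22`. -/
def perpTwo : List (Fin 256) := [1, 6, 10, 16, 34, 66, 128]

theorem perpOne_ok : ∀ y ∈ perpOne, bc y 1 = 0 := by decide +kernel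

theorem perpTwo_ok : ∀ y ∈ perpTwo, bc y 22 = 0 := by decide +kernel

theorem upt_zero : wact 1 1 = 1 ∧ wact 1 2 = 2 ∧ wact 1 4 = 4 ∧ wact 1 8 = 8 := by decide +kernel

/-- The involutions of six points. -/
def involutionsL : List (Perm (Fin 6)) :=
  [ swap 4 5,
    swap 3 4,
    swap 3 5,
    swap 2 3,
    swap 2 3 * swap 4 5,
    swap 2 4,
    swap 2 4 * swap 3 5,
    swap 2 5,
    swap 2 5 * swap 3 4,
    swap 1 2,
    swap 1 2 * swap 4 5,
    swap 1 2 * swap 3 4,
    swap 1 2 * swap 3 5,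
    swap 1 3,
    swap 1 3 * swap 4 5,
    swap 1 3 * swap 2 4,
    swap 1 3 * swap 2 5,
    swap 1 4,
    swap 1 4 * swap 3 5,
    swap 1 4 * swap 2 3,
    swap 1 4 * swap 2 5,
    swap 1 5,
    swap 1 5 * swap 3 4,
    swap 1 5 * swap 2 3,
    swap 1 5 * swap 2 4,
    swap 0 1,
    swap 0 1 * swap 4 5,
    swap 0 1 * swap 3 4,
    swap 0 1 * swap 3 5,
    swap 0 1 * swap 2 3,
    swap 0 1 * swap 2 3 * swap 4 5,
    swap 0 1 * swap 2 4,
    swap 0 1 * swap 2 4 * swap 3 5,
    swap 0 1 * swap 2 5,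
    swap 0 1 * swap 2 5 * swap 3 4,
    swap 0 2,
    swap 0 2 * swap 4 5,
    swap 0 2 * swap 3 4,
    swap 0 2 * swap 3 5,
    swap 0 2 * swap 1 3,
    swap 0 2 * swap 1 3 * swap 4 5,
    swap 0 2 * swap 1 4,
    swap 0 2 * swap 1 4 * swap 3 5,
    swap 0 2 * swap 1 5,
    swap 0 2 * swap 1 5 * swap 3 4,
    swap 0 3,
    swap 0 3 * swap 4 5,
    swap 0 3 * swap 2 4,
    swap 0 3 * swap 2 5,
    swap 0 3 * swap 1 2,
    swap 0 3 * swap 1 2 * swap 4 5,
    swap 0 3 * swap 1 4,
    swap 0 3 * swap 1 4 * swap 2 5,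
    swap 0 3 * swap 1 5,
    swap 0 3 * swap 1 5 * swap 2 4,
    swap 0 4,
    swap 0 4 * swap 3 5,
    swap 0 4 * swap 2 3,
    swap 0 4 * swap 2 5,
    swap 0 4 * swap 1 2,
    swap 0 4 * swap 1 2 * swap 3 5,
    swap 0 4 * swap 1 3,
    swap 0 4 * swap 1 3 * swap 2 5,
    swap 0 4 * swap 1 5,
    swap 0 4 * swap 1 5 * swap 2 3,
    swap 0 5,
    swap 0 5 * swap 3 4,
    swap 0 5 * swap 2 3,
    swap 0 5 * swap 2 4,
    swap 0 5 * swap 1 2,
    swap 0 5 * swap 1 2 * swap 3 4,
    swap 0 5 * swap 1 3,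
    swap 0 5 * swap 1 3 * swap 2 4,
    swap 0 5 * swap 1 4,
    swap 0 5 * swap 1 4 * swap 2 3]

/-- The transpositions. -/
def swapsL : List (Perm (Fin 6)) :=
  [swap 0 1, swap 0 2, swap 0 3, swap 0 4, swap 0 5, swap 1 2, swap 1 3, swap 1 4, swap 1 5, swap 2 3, swap 2 4,
    swap 2 5, swap 3 4, swap 3 5, swap 4 5]

/-- An element of `L`: an involution fixing `v` with singular commutators on the space orthogonal to `v`. -/
def Good (e : Bool) (m : Fin 3) (σ : Perm (Fin 6)) (v : Fin 256) (P : List (Fin 256)) : Prop :=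
  act e m σ v = v ∧ σ * σ = 1 ∧ (∀ x ∈ unitsL, act e m σ (act e m σ x) = x) ∧
    (∀ y ∈ P, qc (xadd (act e m σ y) y) = 0) ∧
    (∀ y ∈ P, ∀ y' ∈ P, bc (xadd (act e m σ y) y) (xadd (act e m σ y') y') = 0)

instance (e : Bool) (m : Fin 3) (σ : Perm (Fin 6)) (v : Fin 256) (P : List (Fin 256)) :
    Decidable (Good e m σ v P) := by unfold Good; infer_instance

/-- Two such elements commute and have orthogonal commutator spaces. -/
def Compat (e : Bool) (m : Fin 3) (σ : Perm (Fin 6)) (π : Perm (Fin 6)) (P : List (Fin 256)) : Prop :=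
  (∀ x ∈ unitsL, act e m σ (act false 0 π x) = act false 0 π (act e m σ x)) ∧
    ∀ y ∈ P, ∀ y' ∈ P, bc (xadd (act e m σ y) y) (xadd (act false 0 π y') y') = 0

instance (e : Bool) (m : Fin 3) (σ : Perm (Fin 6)) (π : Perm (Fin 6)) (P : List (Fin 256)) :
    Decidable (Compat e m σ π P) := by unfold Compat; infer_instance

/-- The inverting candidates for a vector of rank one. -/
def invL : List (Perm (Fin 6)) :=
  [1, swap 2 3 * swap 4 5, swap 2 4 * swap 3 5, swap 2 5 * swap 3 4, swap 0 1, swap 0 1 * (swap 2 3 * swap 4 5),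
    swap 0 1 * (swap 2 4 * swap 3 5), swap 0 1 * (swap 2 5 * swap 3 4)]

/-- The centralizing candidates for a vector of rank one. -/
def centL : List (Perm (Fin 6)) :=
  [swap 2 3 * swap 4 5, swap 2 4 * swap 3 5, swap 2 5 * swap 3 4, swap 0 1, swap 0 1 * (swap 2 3 * swap 4 5),
    swap 0 1 * (swap 2 4 * swap 3 5), swap 0 1 * (swap 2 5 * swap 3 4)]

/-- The inverting candidates for a vector of rank two. -/
def invTwoL : List (Fin 3 × Perm (Fin 6)) :=
  [(0, swap 0 1 * swap 2 4 * swap 3 5), (0, swap 0 1 * swap 2 5 * swap 3 4),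
    (1, swap 0 2 * swap 1 3 * swap 4 5), (1, swap 0 3 * swap 1 2 * swap 4 5),
    (2, swap 0 4 * swap 1 5 * swap 2 3), (2, swap 0 5 * swap 1 4 * swap 2 3)]

/-- The centralizing candidates for a vector of rank two. -/
def centTwoL : List (Perm (Fin 6)) :=
  [swap 4 5, swap 2 3, swap 2 3 * swap 4 5, swap 0 1, swap 0 1 * swap 4 5, swap 0 1 * swap 2 3,
    swap 0 1 * swap 2 3 * swap 4 5]

/-- The space `X` for the vector `1`. -/
def xOne : List (Fin 256) := [0, 1, 6, 7, 10, 11, 12, 13, 16, 17, 22, 23, 26, 27, 28, 29]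

theorem xOne_nodup : xOne.Nodup := by decide +kernel

/-- All vectors orthogonal to `1`. -/
def perpAllOne : List (Fin 256) := (List.finRange 256).filter fun y => bc y 1 = 0

/-- The element cycling the points off a pair. -/
def rot3 : Perm (Fin 6) := swap 2 3 * swap 3 4

/-- The three pairs. -/
def pairsL : List (Fin 256) := [1, 6, 7]

/-- The space `Y = P + w P`. -/
def yL : List (Fin 256) := [0, 1, 6, 7, 16, 17, 22, 23, 96, 97, 102, 103, 112, 113, 118, 119]

/-- Vectors of rank one. -/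
def rankOne (x : Fin 256) : Prop :=
  x.val ≠ 0 ∧ (x.val % 16 = 0 ∨ x.val / 16 = 0 ∨ x.val % 16 = x.val / 16)

instance (x : Fin 256) : Decidable (rankOne x) := by unfold rankOne; infer_instance

/-- The element permuting the three pairs. -/
def rotP : Perm (Fin 6) := swap 0 2 * swap 2 4 * (swap 1 3 * swap 3 5)

end Cfsg.Lib.LargeExtra.EightSmith
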