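import Cfsg.Agent.LargeExtra.EightSmith.Code

/-!
# Finite checks on the module of `S₃ × S₆`
-/

set_option autoImplicit false
set_option linter.style.haveILetI false
set_option linter.unusedSectionVars false
set_option maxRecDepth 40000
set_option maxHeartbeats 4000000
set_option synthInstance.maxSize 4096
set_option synthInstance.maxHeartbeats 400000

open Equiv

namespace Cfsg.Lib.LargeExtra.EightSmith

theorem inverting_one : ∀ σ ∈ (1 : Perm (Fin 6)) :: involutionsL, ∀ m : Fin 3, act true m σ 1 = 1 →
    qc (xadd (act true m σ 96) 96) = 0 → qc (xadd (act true m σ 160) 160) = 0 → m = 0 ∧ σ ∈ invL := by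
  decide +kernel

theorem centralizing_one : ∀ π ∈ involutionsL, act false 0 π 1 = 1 →
    ∀ σ ∈ invL, act true 0 σ (act false 0 π 2) = act false 0 π (act true 0 σ 2) →
      bc (xadd (act true 0 σ 96) 96) (xadd (act false 0 π 96) 96) = 0 →
      bc (xadd (act true 0 σ 160) 160) (xadd (act false 0 π 160) 160) = 0 → π ∈ centL := by
  decide +kernel

end Cfsg.Lib.LargeExtra.EightSmith
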