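import Cfsg.Agent.LargeExtra.EightSmith.Code

/-!
# Finite checks on the module of `S₃ × S₆`
-/

set_option autoImplicit false
set_option linter.style.haveILetI false
set_option linter.unusedSectionVars false
set_option maxRecDepth 40000
set_option maxHeartbeats 4000000
set_option synthInstance.maxSize 4096
set_option synthInstance.maxHeartbeats 400000

open Equiv

namespace Cfsg.Lib.LargeExtra.EightSmith

/-- Elements carrying the singular vectors to the two representatives. -/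
def orbitL : List (Fin 3 × Perm (Fin 6)) :=
  [ (0, 1),
    (0, swap 1 2 * swap 4 5),
    (0, swap 1 2 * swap 2 3),
    (0, swap 1 2 * swap 2 3 * swap 3 4 * swap 4 5),
    (0, swap 1 2 * swap 2 3 * swap 3 5 * swap 5 4),
    (0, swap 0 2 * swap 2 1),
    (0, swap 0 2 * swap 2 3 * swap 3 1 * swap 4 5),
    (0, swap 0 2 * swap 2 3 * swap 3 4 * swap 4 1),
    (0, swap 0 2 * swap 2 3 * swap 3 5 * swap 5 1),
    (0, swap 0 2 * swap 1 3),
    (0, swap 0 2 * swap 1 3 * swap 3 4 * swap 4 5),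
    (0, swap 0 2 * swap 1 3 * swap 3 5 * swap 5 4),
    (0, swap 0 2 * swap 2 4 * swap 4 1 * swap 1 3),
    (0, swap 0 2 * swap 2 4 * swap 4 5 * swap 1 3),
    (0, swap 0 2 * swap 2 4 * swap 1 3 * swap 3 5),
    (1, 1),
    (1, swap 1 2 * swap 4 5),
    (1, swap 1 2 * swap 2 3),
    (1, swap 1 2 * swap 2 3 * swap 3 4 * swap 4 5),
    (1, swap 1 2 * swap 2 3 * swap 3 5 * swap 5 4),
    (1, swap 0 2 * swap 2 1),
    (1, swap 0 2 * swap 2 3 * swap 3 1 * swap 4 5),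
    (1, swap 0 2 * swap 2 3 * swap 3 4 * swap 4 1),
    (1, swap 0 2 * swap 2 3 * swap 3 5 * swap 5 1),
    (1, swap 0 2 * swap 1 3),
    (1, swap 0 2 * swap 1 3 * swap 3 4 * swap 4 5),
    (1, swap 0 2 * swap 1 3 * swap 3 5 * swap 5 4),
    (1, swap 0 2 * swap 2 4 * swap 4 1 * swap 1 3),
    (1, swap 0 2 * swap 2 4 * swap 4 5 * swap 1 3),
    (2, swap 1 2 * swap 4 5),
    (2, swap 1 2 * swap 2 3),
    (2, swap 1 2 * swap 2 3 * swap 3 4 * swap 4 5),
    (2, swap 1 2 * swap 2 3 * swap 3 5 * swap 5 4),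
    (2, swap 0 2 * swap 2 1),
    (2, swap 0 2 * swap 2 3 * swap 3 1 * swap 4 5),
    (2, swap 0 2 * swap 2 3 * swap 3 4 * swap 4 1),
    (2, swap 0 2 * swap 2 3 * swap 3 5 * swap 5 1),
    (2, swap 0 2 * swap 1 3),
    (2, swap 0 2 * swap 1 3 * swap 3 4 * swap 4 5),
    (2, swap 0 2 * swap 1 3 * swap 3 5 * swap 5 4),
    (2, swap 0 2 * swap 2 4 * swap 4 1 * swap 1 3),
    (2, swap 0 2 * swap 2 4 * swap 4 5 * swap 1 3),
    (0, swap 1 2 * swap 3 4),
    (0, swap 1 2 * swap 3 5),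
    (0, swap 1 2 * swap 2 4 * swap 4 5 * swap 5 3),
    (0, swap 1 2 * swap 2 4),
    (0, swap 1 2 * swap 2 4 * swap 4 3 * swap 3 5),
    (0, swap 1 2 * swap 2 5 * swap 5 4 * swap 4 3),
    (0, swap 1 2 * swap 2 5),
    (0, swap 1 2 * swap 2 5 * swap 5 3 * swap 3 4),
    (0, swap 1 4 * swap 4 3),
    (0, swap 1 4 * swap 4 5),
    (0, swap 1 4 * swap 3 5),
    (0, swap 1 4 * swap 4 5 * swap 5 2 * swap 2 3),
    (0, swap 1 4 * swap 2 3),
    (0, swap 1 4 * swap 4 2 * swap 2 3 * swap 3 5),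
    (0, swap 1 4 * swap 4 3 * swap 3 2 * swap 2 5),
    (0, swap 1 4 * swap 2 5),
    (0, swap 0 2 * swap 2 1 * swap 3 4 * swap 4 5),
    (0, swap 0 2 * swap 2 1 * swap 3 5 * swap 5 4),
    (0, swap 0 2 * swap 2 4 * swap 4 3 * swap 3 1),
    (0, swap 0 2 * swap 2 4 * swap 4 5 * swap 5 1),
    (0, swap 0 2 * swap 2 4 * swap 4 1 * swap 3 5),
    (0, swap 0 2 * swap 2 5 * swap 5 3 * swap 3 1),
    (0, swap 0 2 * swap 2 5 * swap 5 4 * swap 4 1),
    (0, swap 0 2 * swap 2 5 * swap 5 1 * swap 3 4),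
    (0, swap 0 2 * swap 1 4 * swap 4 5 * swap 5 3),
    (0, swap 0 2 * swap 1 4),
    (0, swap 0 2 * swap 1 4 * swap 4 3 * swap 3 5),
    (0, swap 0 2 * swap 2 1 * swap 1 4 * swap 4 3),
    (0, swap 0 2 * swap 2 1 * swap 1 4 * swap 4 5),
    (0, swap 0 2 * swap 2 1 * swap 1 4 * swap 3 5),
    (0, swap 0 2 * swap 2 3 * swap 1 4 * swap 4 5),
    (0, swap 0 2 * swap 2 3 * swap 3 1 * swap 1 4),
    (0, swap 0 4 * swap 4 5 * swap 5 3 * swap 3 1),
    (0, swap 0 4 * swap 4 1),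
    (0, swap 0 4 * swap 4 3 * swap 3 5 * swap 5 1),
    (0, swap 0 4 * swap 4 2 * swap 2 3 * swap 3 1),
    (0, swap 0 4 * swap 4 5 * swap 5 1 * swap 2 3),
    (0, swap 0 4 * swap 4 1 * swap 2 3 * swap 3 5),
    (0, swap 0 4 * swap 4 1 * swap 2 5 * swap 5 3),
    (0, swap 0 4 * swap 4 2 * swap 2 5 * swap 5 1),
    (0, swap 0 4 * swap 4 3 * swap 3 1 * swap 1 2),
    (0, swap 0 4 * swap 4 5 * swap 5 1 * swap 1 2),
    (0, swap 0 4 * swap 4 1 * swap 1 2 * swap 3 5),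
    (0, swap 0 4 * swap 4 5 * swap 5 3 * swap 1 2),
    (0, swap 0 4 * swap 1 2),
    (0, swap 0 4 * swap 4 3 * swap 3 5 * swap 1 2),
    (0, swap 0 4 * swap 4 1 * swap 1 2 * swap 2 3),
    (0, swap 0 4 * swap 4 5 * swap 1 2 * swap 2 3),
    (1, swap 0 2 * swap 2 4 * swap 1 3 * swap 3 5),
    (2, 1),
    (2, swap 0 2 * swap 2 4 * swap 1 3 * swap 3 5)]

theorem orbitL_sign : ∀ c ∈ orbitL, Perm.sign c.2 = 1 := by decide +kernel

/-- The representatives of the two orbits of singular vectors. -/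
theorem orbit_reps : ∀ x : Fin 256, qc x = 0 → x ≠ 0 →
    ∃ c ∈ orbitL, act false c.1 c.2 x = 1 ∨ act false c.1 c.2 x = 22 := by
  decide +kernel

end Cfsg.Lib.LargeExtra.EightSmith
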