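import Cfsg.Agent.LargeExtra.EightSmith.Code

/-!
# Finite checks on the module of `S₃ × S₆`
-/

set_option autoImplicit false
set_option linter.style.haveILetI false
set_option linter.unusedSectionVars false
set_option maxRecDepth 40000
set_option maxHeartbeats 4000000
set_option synthInstance.maxSize 4096
set_option synthInstance.maxHeartbeats 400000

open Equiv

namespace Cfsg.Lib.LargeExtra.EightSmith

theorem inverting_two : ∀ σ ∈ (1 : Perm (Fin 6)) :: involutionsL, ∀ m : Fin 3, act true m σ 22 = 22 →
    qc (xadd (act true m σ 10) 10) = 0 → qc (xadd (act true m σ 34) 34) = 0 → (m, σ) ∈ invTwoL := by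
  decide +kernel

theorem centTwoL_complete : ∀ π ∈ involutionsL, act false 0 π 22 = 22 → π ∈ centTwoL := by decide +kernel

/-- The relations between an inverting and a centralizing element for a vector of rank two. -/
def CompatTwo (m : Fin 3) (σ π : Perm (Fin 6)) : Prop :=
  act true m σ (act false 0 π 2) = act false 0 π (act true m σ 2) ∧
    bc (xadd (act true m σ 10) 10) (xadd (act false 0 π 10) 10) = 0 ∧
    bc (xadd (act true m σ 34) 34) (xadd (act false 0 π 34) 34) = 0

instance (m : Fin 3) (σ π : Perm (Fin 6)) : Decidable (CompatTwo m σ π) := by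
  unfold CompatTwo; infer_instance

theorem centralizing_two : ∀ s ∈ invTwoL, ∀ π ∈ centTwoL, ∀ π' ∈ centTwoL,
    CompatTwo s.1 s.2 π → CompatTwo s.1 s.2 π' → π = π' := by
  decide +kernel

end Cfsg.Lib.LargeExtra.EightSmith
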