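import Cfsg.Agent.LargeExtra.EightSmith.Five

/-!
# The fixed space of a central element of order three on an eight-dimensional quadratic space
-/

set_option autoImplicit false
set_option linter.style.haveILetI false
set_option linter.unusedSectionVars false

open Module

namespace Cfsg.Lib.LargeExtra.EightSmith

variable {V : Type*} [AddCommGroup V] [Module (ZMod 2) V] [Finite V]
variable {q : QuadraticForm (ZMod 2) V}

local notation "𝐁" => QuadraticMap.polarBilin q

theorem pow_apply_shift {g : V ≃ₗ[ZMod 2] V} {v : V} (h : g (g v + v) = g v + v) : g (g v) = v := by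
  rw [map_add] at h
  have : g (g v) + g v + (g v + v) = 0 := by rw [h]; exact add_self' _
  rw [add_assoc, add_add_cancel'] at this
  exact add_eq_zero_iff'.mp this

/-- An element of odd order has no fixed points in its commutator subspace. -/
theorem img_fpf {n : ℕ} {g : V ≃ₗ[ZMod 2] V} (hn : g ^ (2 * n + 1) = 1) :
    ∀ x ∈ img g, g x = x → x = 0 := by
  intro x hx hfix
  obtain ⟨v, rfl⟩ := mem_img.mp hx
  have h2 := pow_apply_shift hfix
  have h2' : ∀ k : ℕ, (g ^ (2 * k)) v = v := fun k => by
    induction k with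
    | zero => rfl
    | succ k ih => rw [mul_add, pow_add, mul_one]; show (g ^ (2 * k)) ((g ^ 2) v) = v; rw [sq]; show (g ^ (2 * k)) (g (g v)) = v; rw [h2, ih]
  have h1 : g v = v := by
    have := LinearEquiv.congr_fun hn v
    rw [pow_succ'] at this
    change g ((g ^ (2 * n)) v) = v at this
    rwa [h2'] at this
  rw [h1, add_self']

theorem img_nd (S : QS q) {n : ℕ} {g : V ≃ₗ[ZMod 2] V} (hg : Iso q g) (hn : g ^ (2 * n + 1) = 1) :
    ∀ x ∈ img g, (∀ y ∈ img g, 𝐁 y x = 0) → x = 0 := fun x hx hall => by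
  refine img_fpf hn x hx (mem_fixs.mp ?_)
  rw [← S.perp_img hg]
  exact S.mem_perp.mpr hall

theorem img_invariant {g w : V ≃ₗ[ZMod 2] V} (h : Commute w g) : ∀ x ∈ img g, w x ∈ img g := by
  intro x hx
  obtain ⟨v, rfl⟩ := mem_img.mp hx
  refine mem_img.mpr ⟨w v, ?_⟩
  rw [map_add, ← show w (g v) = g (w v) from LinearEquiv.congr_fun h.eq v]

theorem fixs_invariant {g w : V ≃ₗ[ZMod 2] V} (h : Commute w g) : ∀ x ∈ fixs g, w x ∈ fixs g := by
  intro x hx
  refine mem_fixs.mpr ?_
  rw [← show w (g x) = g (w x) from LinearEquiv.congr_fun h.eq x, mem_fixs.mp hx]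

theorem five_dim {g : V ≃ₗ[ZMod 2] V} (hg : g ^ 5 = 1) {U : Submodule (ZMod 2) V} (hU : ∀ x ∈ U, g x ∈ U)
    (hfix : ∀ x ∈ U, g x = x → x = 0) (h8 : finrank (ZMod 2) U ≤ 8) :
    finrank (ZMod 2) U = 0 ∨ finrank (ZMod 2) U = 4 ∨ finrank (ZMod 2) U = 8 := by
  haveI : Fact (Nat.Prime 5) := ⟨Nat.prime_five⟩
  have := fpf_card hg hU hfix
  interval_cases h : finrank (ZMod 2) U <;> simp_all

theorem three_dim {g : V ≃ₗ[ZMod 2] V} (hg : g ^ 3 = 1) {U : Submodule (ZMod 2) V} (hU : ∀ x ∈ U, g x ∈ U)
    (hfix : ∀ x ∈ U, g x = x → x = 0) : Even (finrank (ZMod 2) U) := by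
  haveI : Fact (Nat.Prime 3) := ⟨Nat.prime_three⟩
  exact two_dvd_of_three (fpf_card hg hU hfix)

theorem sum_three {w : V ≃ₗ[ZMod 2] V} (hw : w ^ 3 = 1) {x : V} (hfix : ∀ y, w y = y → y = 0) :
    x + w x + w (w x) = 0 := by
  refine hfix _ ?_
  have h : w (w (w x)) = x := LinearEquiv.congr_fun (show w * w * w = 1 by rw [← hw]; simp [pow_succ]) x
  rw [map_add, map_add, h]; abel

variable {K : Type*} [Group K] [Finite K] [IsSimpleGroup K]

/-- Either `w` has no fixed points, or its commutator subspace is an anisotropic line over four elements. -/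
theorem decomposition (S : QS q) (hV : finrank (ZMod 2) V = 8) (φ : K →* V ≃ₗ[ZMod 2] V)
    (hφ : ∀ k, Iso q (φ k)) (hinj : Function.Injective φ) (hK : 120 < Nat.card K)
    {w : V ≃ₗ[ZMod 2] V} (hw : Iso q w) (hw3 : w ^ 3 = 1) (hw1 : w ≠ 1) (hc : ∀ k, Commute (φ k) w)
    {c : K} (hc5 : orderOf c = 5) :
    ((∀ x, w x = x → x = 0) ∧ ∀ x, φ c x = x → x = 0) ∨
    (finrank (ZMod 2) (fixs w) = 6 ∧ finrank (ZMod 2) (img w) = 2 ∧ ∀ x ∈ img w, q x = 0 → x = 0) := by
  set g := φ c with hgdef
  have hg5 : g ^ 5 = 1 := by rw [hgdef, ← map_pow, ← hc5, pow_orderOf_eq_one, map_one]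
  have hg1 : g ≠ 1 := fun e => by
    have := hinj (e.trans (map_one φ).symm)
    rw [this, orderOf_one] at hc5; omega
  have hgw : Commute w g := (hc c).symm
  have hfpf := img_fpf (n := 2) hg5
  have hnd := img_nd S (n := 2) (hφ c) hg5
  have hne : ∀ {u : V ≃ₗ[ZMod 2] V}, u ≠ 1 → finrank (ZMod 2) (img u) ≠ 0 := fun {u} hu e => hu
    (eq_one_of_fixs (Submodule.eq_top_of_finrank_eq (by have := finrank_fixs_img u; omega)))
  have hwfpf := img_fpf (n := 1) hw3
  have hweven := three_dim hw3 (img_invariant (Commute.refl w)) hwfpf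
  have hsum := finrank_fixs_img w
  have hgsum := finrank_fixs_img g
  have hgV : finrank (ZMod 2) (img g) ≤ 8 := hV ▸ Submodule.finrank_le _
  rcases five_dim hg5 (img_invariant (Commute.refl g)) hfpf hgV with h | h | h
  · exact absurd h (hne hg1)
  · right
    -- the moved space of `g` is fixed by `w`
    obtain ⟨x, hxU, hx0, hwx⟩ := five_three (hφ c) hg5 (img_invariant (Commute.refl g)) hfpf h hnd hw hw3
      (img_invariant hgw) hgw
    set U₀ := img g ⊓ fixs w with hU₀
    have hU₀g : ∀ y ∈ U₀, g y ∈ U₀ := fun y hy =>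
      ⟨img_invariant (Commute.refl g) y hy.1, fixs_invariant hgw.symm y hy.2⟩
    have hle : finrank (ZMod 2) U₀ ≤ 4 := h ▸ Submodule.finrank_mono inf_le_left
    have hpos : 1 ≤ finrank (ZMod 2) U₀ := Submodule.one_le_finrank_iff.mpr fun e => hx0
      ((Submodule.eq_bot_iff _).mp e x ⟨hxU, mem_fixs.mpr hwx⟩)
    have h4 : finrank (ZMod 2) U₀ = 4 := by
      rcases five_dim hg5 hU₀g (fun y hy => hfpf y hy.1) (by omega) with e | e | e <;> omega
    have hUW : img g ≤ fixs w := by
      rw [← Submodule.eq_of_le_of_finrank_eq (inf_le_left : U₀ ≤ img g) (by rw [h4, h])]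
      exact inf_le_right
    have hW1 := hne hw1
    obtain ⟨m, hm⟩ := hweven
    have h46 : finrank (ZMod 2) (fixs w) = 6 := by
      have h4' := Submodule.finrank_mono hUW
      by_contra hne6
      have heq : img g = fixs w := Submodule.eq_of_le_of_finrank_eq hUW (by omega)
      refine five_simple (hφ c) hg5 (img_invariant (Commute.refl g)) hfpf h hnd hK φ hφ (fun k y hy => ?_) rfl
      rw [heq] at hy ⊢
      exact fixs_invariant (hc k) y hy
    refine ⟨h46, by omega, fun x hx hq => ?_⟩
    have h2 : finrank (ZMod 2) (img w) = 2 := by omega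
    by_contra hx0
    -- `x` and `w x` span the line
    have hwx := img_invariant (Commute.refl w) x hx
    have hB : 𝐁 x (w x) = 0 := by
      have hs : x + w x + w (w x) = 0 := by
        refine hwfpf _ (add_mem (add_mem hx hwx) (img_invariant (Commute.refl w) _ hwx)) ?_
        have h : w (w (w x)) = x := LinearEquiv.congr_fun (show w * w * w = 1 by rw [← hw3]; simp [pow_succ]) x
        rw [map_add, map_add, h]; abel
      have e := q_add (q := q) x (w x)
      rw [show x + w x = w (w x) from add_eq_zero_iff'.mp hs, hw, hw, hq, zero_add, zero_add] at e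
      exact e.symm
    have hspan : Submodule.span (ZMod 2) {x, w x} = img w := by
      refine Submodule.eq_of_le_of_finrank_le (Submodule.span_le.mpr (by rintro y (rfl | rfl) <;> assumption)) ?_
      rw [h2]
      have hli : LinearIndependent (ZMod 2) ![x, w x] := by
        rw [LinearIndependent.pair_iff]
        intro s t hst
        rcases zmod2_cases t with rfl | rfl
        · rcases zmod2_cases s with rfl | rfl
          · exact ⟨rfl, rfl⟩
          · simp at hst; exact absurd hst hx0
        · rcases zmod2_cases s with rfl | rfl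
          · simp at hst; exact absurd hst hx0
          · simp at hst
            exact absurd (hwfpf x hx (add_eq_zero_iff'.mp hst).symm) hx0
      have := finrank_span_eq_card hli
      rw [show Set.range ![x, w x] = {x, w x} by ext; simp [eq_comm, or_comm]] at this
      rw [this]; rfl
    refine hx0 (img_nd S (n := 1) hw hw3 x hx fun y hy => ?_)
    rw [← hspan] at hy
    obtain ⟨s, t, rfl⟩ := Submodule.mem_span_pair.mp hy
    simp only [map_add, map_smul, LinearMap.add_apply, LinearMap.smul_apply, B_comm (w x) x, B_self, hB,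
      smul_zero, add_zero]
  · left
    have hg0 : ∀ x, g x = x → x = 0 := fun x hx => hfpf x
      ((Submodule.eq_top_of_finrank_eq (by rw [h, hV]) : img g = ⊤) ▸ Submodule.mem_top) hx
    refine ⟨fun x hx => ?_, hg0⟩
    by_contra hx0
    obtain ⟨m, hm⟩ := hweven
    have hle : finrank (ZMod 2) (fixs w) ≤ 8 := hV ▸ Submodule.finrank_le _
    have hpos : 1 ≤ finrank (ZMod 2) (fixs w) :=
      Submodule.one_le_finrank_iff.mpr fun e => hx0 (by simpa [e] using mem_fixs.mpr hx)
    have hW1 := hne hw1
    have h4 : finrank (ZMod 2) (img w) = 4 := by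
      rcases five_dim hg5 (fixs_invariant (g := w) hgw.symm) (fun y _ => hg0 y) hle with e | e | e <;> omega
    obtain ⟨y, hy, hy0, hwy⟩ := five_three (hφ c) hg5 (img_invariant hgw.symm) (fun y _ => hg0 y) h4
      (img_nd S (n := 1) hw hw3) hw hw3 (img_invariant (Commute.refl w)) hgw
    exact hy0 (hwfpf y hy hwy)

end Cfsg.Lib.LargeExtra.EightSmith
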