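import Cfsg.Agent.LargeExtra.EightSmith.Closed

/-!
# Exceptional conjugates outside the extraspecial subgroup
-/

set_option autoImplicit false
set_option linter.style.haveILetI false
set_option linter.unusedSectionVars false
set_option linter.unusedVariables false
set_option maxRecDepth 40000

open Module Subgroup
open scoped commutatorElement

namespace Cfsg.Lib.LargeExtra.EightSmith

universe u v w

namespace Ctx

variable {G : Type u} {H : Type v} {V : Type w} [Group G] [Finite G] [Group H] [AddCommGroup V]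
  [Module (ZMod 2) V] [Finite V] {q : QuadraticForm (ZMod 2) V} (C : Ctx G H q)

local notation "𝐁" => QuadraticMap.polarBilin q

variable (hcl : ∀ k : G, k * C.z * k⁻¹ ∈ C.Q → k * C.z * k⁻¹ = C.z)
include hcl

section exc

variable {t : G} (hE : C.Exc t)
include hE

theorem exc_commute {x : G} (hx : x ∈ C.Q) (hf : C.π x ∈ fixs (C.ρ (C.μ t))) : Commute x t := by
  obtain ⟨hc, hjt, -, hzt⟩ := hE
  rcases C.conj_fix_cases hc hx hf with e | e
  · exact (mul_inv_eq_iff_eq_mul.mp e).symm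
  refine absurd ?_ hzt
  have e' : x * t * x⁻¹ = C.z * t := by
    calc x * t * x⁻¹ = C.z * C.z * x * t * x⁻¹ := by rw [C.x2.zz, one_mul]
      _ = C.z * (C.z * x) * t * x⁻¹ := by group
      _ = C.z * (t * x * t⁻¹) * t * x⁻¹ := by rw [e]
      _ = _ := by group
  exact e' ▸ Cj.conj C hjt x

theorem exc_cimg : C.cimg t = fixs (C.ρ (C.μ t)) := by
  refine le_antisymm ?_ fun u hu => ?_
  · rintro _ ⟨x, hx, hxt, rfl⟩; exact C.π_fix hE.1 hx hxt
  · obtain ⟨x, hx, rfl⟩ := C.π_surj u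
    exact ⟨x, hx, C.exc_commute hcl hE hx hu, rfl⟩

theorem exc_ts : ∀ u ∈ img (C.ρ (C.μ t)), q u = 0 := by
  intro u hu
  obtain ⟨v, hv⟩ := mem_img.mp hu
  obtain ⟨y, hy, rfl⟩ := C.π_surj v
  have hd := C.cm_mem hE.1 hy
  rw [← hv, ← C.π_cm hE.1 hy, C.π_sq _ hd]
  have h1 := C.exc_commute hcl hE hd (by
    rw [C.π_cm hE.1 hy, hv]; exact img_le_fixs (C.g_sq hE.1 hE.2.1) hu)
  have h2 := C.cm_inverted hE.1 hE.2.1 y
  rw [h1.symm.eq, mul_inv_cancel_right] at h2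
  exact mul_eq_one_iff_eq_inv.mpr h2

theorem exc_dim : finrank (ZMod 2) (img (C.ρ (C.μ t))) = 4 ∧ img (C.ρ (C.μ t)) = fixs (C.ρ (C.μ t)) := by
  obtain ⟨hc, ⟨g, hg⟩, hne, -⟩ := id hE
  have hg2 := C.g_sq hc hE.2.1
  have hb := C.center_bound hcl hg hc hne
  rw [C.exc_cimg hcl hE] at hb
  have hperp : C.S.perp (fixs (C.ρ (C.μ t))) = img (C.ρ (C.μ t)) := by
    rw [← C.S.perp_img (C.ρ_iso _), C.S.perp_perp]
  rw [hperp, inf_eq_right.mpr (img_le_fixs hg2)] at hb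
  have hsum := finrank_fixs_img (C.ρ (C.μ t))
  have h2 := two_finrank_img_le hg2
  have h3 := C.S.img_ne_three hg2 (C.ρ_iso _) (C.exc_ts hcl hE)
  have hV := C.dim
  have h4 : finrank (ZMod 2) (img (C.ρ (C.μ t))) = 4 := by omega
  exact ⟨h4, Submodule.eq_of_le_of_finrank_eq (img_le_fixs hg2) (by omega)⟩

theorem exc_not_both {y y' : G} (hy : y ∈ C.Q) (hy' : y' ∈ C.Q) : cm' t y' ≠ C.z * cm' t y := by
  obtain ⟨hc, hjt, -, hzt⟩ := hE
  intro e
  refine hzt ⟨?_, ?_⟩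
  · exact y⁻¹ * y' * hjt.choose
  have h1 := C.cm_shift hc hjt y'
  rw [e, ← mul_assoc, hc.eq, mul_assoc, C.cm_shift hc hjt y] at h1
  have hk := hjt.choose_spec
  calc y⁻¹ * y' * hjt.choose * C.z * (y⁻¹ * y' * hjt.choose)⁻¹
      = y⁻¹ * (y' * (hjt.choose * C.z * hjt.choose⁻¹) * y'⁻¹) * y := by group
    _ = y⁻¹ * (C.z * (y * t * y⁻¹)) * y := by rw [hk, h1]
    _ = (y⁻¹ * C.z) * (y * t) := by group
    _ = (C.z * y⁻¹) * (y * t) := by rw [(C.x2.central _ (inv_mem hy)).eq]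
    _ = C.z * t := by group

theorem exc_good_cases {d : G} (hd : d ∈ C.Q) (hπ : C.π d ∈ img (C.ρ (C.μ t))) :
    ∃ y ∈ C.Q, cm' t y = d ∨ cm' t y = C.z * d := by
  obtain ⟨v, hv⟩ := mem_img.mp hπ
  obtain ⟨y, hy, rfl⟩ := C.π_surj v
  rw [← C.π_cm hE.1 hy] at hv
  exact ⟨y, hy, (C.eq_iff hd (C.cm_mem hE.1 hy)).mp hv.symm⟩

theorem cm_mul {y₁ y₂ : G} (hy₁ : y₁ ∈ C.Q) (hy₂ : y₂ ∈ C.Q) :
    cm' t (y₁ * y₂) = if 𝐁 (C.π y₁) (C.π (cm' t y₂)) = 0 then cm' t y₁ * cm' t y₂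
      else C.z * (cm' t y₁ * cm' t y₂) := by
  have e : cm' t (y₁ * y₂) = cm' t y₁ * (y₁ * cm' t y₂ * y₁⁻¹) := by rw [cm', cm', cm']; group
  have hd := C.cm_mem hE.1 hy₂
  split_ifs with h
  · rw [e, ((C.π_comm _ hy₁ _ hd).mp h).eq, mul_inv_cancel_right]
  · rcases C.x2.conj_cases hy₁ hd with e' | e'
    · exact absurd ((C.π_comm _ hy₁ _ hd).mpr (mul_inv_eq_iff_eq_mul.mp e')) h
    · rw [e, e', ← mul_assoc, (C.x2.central _ (C.cm_mem hE.1 hy₁)).eq, mul_assoc]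

end exc

/-- The intersection of `Q` with its conjugate. -/
def meet (g : G) : Subgroup G := C.Q ⊓ C.Q.map (MulAut.conj g).toMonoidHom

omit hcl in
theorem mem_meet {g a : G} : a ∈ C.meet g ↔ a ∈ C.Q ∧ g⁻¹ * a * g ∈ C.Q := by
  rw [meet, Subgroup.mem_inf, mem_map_conj]

omit hcl in
theorem meet_commute {g a : G} (ha : a ∈ C.meet g) : Commute a (g * C.z * g⁻¹) := by
  have h := (C.x2.central _ (C.mem_meet.mp ha).2).eq
  show a * (g * C.z * g⁻¹) = g * C.z * g⁻¹ * a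
  calc a * (g * C.z * g⁻¹) = g * (g⁻¹ * a * g * C.z) * g⁻¹ := by group
    _ = g * (C.z * (g⁻¹ * a * g)) * g⁻¹ := by rw [h]
    _ = _ := by group

theorem meet_z {t g : G} (hg : g * C.z * g⁻¹ = t) (hne : t ≠ C.z) : C.z ∉ C.meet g := fun h => by
  have h3 := hcl g⁻¹ (by rw [inv_inv]; exact (C.mem_meet.mp h).2)
  rw [inv_inv] at h3
  exact hne (by rw [← hg]; calc g * C.z * g⁻¹ = g * (g⁻¹ * C.z * g) * g⁻¹ := by rw [h3]
    _ = C.z := by group)

theorem meet_inj {t g : G} (hg : g * C.z * g⁻¹ = t) (hne : t ≠ C.z) {a b : G} (ha : a ∈ C.meet g)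
    (hb : b ∈ C.meet g) (h : C.π a = C.π b) : a = b := by
  rcases (C.eq_iff (C.mem_meet.mp ha).1 (C.mem_meet.mp hb).1).mp h with e | e
  · exact e.symm
  · exact absurd (by rw [← mul_inv_eq_iff_eq_mul.mpr e]; exact mul_mem hb (inv_mem ha)) (C.meet_z hcl hg hne)

theorem meet_not_good {t g : G} (hE : C.Exc t) (hg : g * C.z * g⁻¹ = t) {y : G} (hy : y ∈ C.Q)
    (ha : cm' t y ∈ C.meet g) : cm' t y = 1 := by
  have hj : C.Cj (g⁻¹ * (t * cm' t y) * g) := by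
    have := Cj.conj C (C.cj_cm hE.1 hE.2.1 hy) g⁻¹
    rwa [inv_inv] at this
  have hQ : g⁻¹ * (t * cm' t y) * g ∈ C.Q := by
    rw [show g⁻¹ * (t * cm' t y) * g = C.z * (g⁻¹ * cm' t y * g) by rw [← hg]; group]
    exact mul_mem C.x2.mem (C.mem_meet.mp ha).2
  have h1 : t * cm' t y = t := by
    calc t * cm' t y = g * (g⁻¹ * (t * cm' t y) * g) * g⁻¹ := by group
      _ = t := by rw [C.cj_Q hcl hj hQ, hg]
  exact mul_eq_left.mp h1

theorem beta_one {t g : G} (hE : C.Exc t) (hg : g * C.z * g⁻¹ = t) {a b : G} (ha : a ∈ C.meet g)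
    (hb : b ∈ C.meet g) (ha1 : a ≠ 1) (hb1 : b ≠ 1) (hab : a ≠ b) {v : V}
    (hv : C.ρ (C.μ t) v + v = C.π a) : 𝐁 v (C.π b) = 1 := by
  have hR : ∀ {c}, c ∈ C.meet g → C.π c ∈ img (C.ρ (C.μ t)) := fun {c} hc => by
    rw [(C.exc_dim hcl hE).2]; exact C.π_fix hE.1 (C.mem_meet.mp hc).1 (hg ▸ C.meet_commute hc)
  have hgood : ∀ {c}, c ∈ C.meet g → c ≠ 1 → ∃ y ∈ C.Q, cm' t y = C.z * c := fun {c} hc hc1 => by
    obtain ⟨y, hy, e | e⟩ := C.exc_good_cases hcl hE (C.mem_meet.mp hc).1 (hR hc)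
    · exact absurd (e ▸ C.meet_not_good hcl hE hg hy (e ▸ hc)) hc1
    · exact ⟨y, hy, e⟩
  obtain ⟨y, hy, e⟩ := hgood ha ha1
  obtain ⟨y', hy', e'⟩ := hgood hb hb1
  have h := C.cm_mul hcl hE hy hy'
  have hzz : C.z * a * (C.z * b) = a * b := by
    rw [show C.z * a * (C.z * b) = C.z * (a * C.z) * b by group, (C.x2.central a (C.mem_meet.mp ha).1).eq,
      ← mul_assoc C.z C.z a, C.x2.zz, one_mul]
  rw [e, e', hzz] at h
  have hne : 𝐁 (C.π y) (C.π b) ≠ 0 := fun h0 => by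
    rw [C.π_zmul (C.mem_meet.mp hb).1, if_pos h0] at h
    have := C.meet_not_good hcl hE hg (mul_mem hy hy') (h ▸ mul_mem ha hb)
    rw [h, mul_eq_one_iff_eq_inv, inv_eq_of_mul_eq_one_right ((C.π_sq b (C.mem_meet.mp hb).1).mp
      (C.exc_ts hcl hE _ (hR hb)))] at this
    exact hab this
  -- change of preimage
  have hd : v + C.π y ∈ fixs (C.ρ (C.μ t)) := by
    rw [mem_fixs, ← add_eq_zero_iff', map_add,
      show C.ρ (C.μ t) v + C.ρ (C.μ t) (C.π y) + (v + C.π y) =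
        (C.ρ (C.μ t) v + v) + (C.ρ (C.μ t) (C.π y) + C.π y) by abel,
      hv, ← C.π_cm hE.1 hy, e, C.π_zmul (C.mem_meet.mp ha).1, add_self']
  rw [← C.S.perp_img (C.ρ_iso _)] at hd
  have h2 := C.S.mem_perp.mp hd _ (hR hb)
  rw [map_add, B_comm, B_comm (C.π b) (C.π y), (zmod2_cases _).resolve_left hne] at h2
  have k : ∀ x : ZMod 2, x + 1 = 0 → x = 1 := by decide
  exact k _ h2

theorem meet_img {t g a : G} (hE : C.Exc t) (hg : g * C.z * g⁻¹ = t) (ha : a ∈ C.meet g) :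
    C.π a ∈ img (C.ρ (C.μ t)) := by
  rw [(C.exc_dim hcl hE).2]; exact C.π_fix hE.1 (C.mem_meet.mp ha).1 (hg ▸ C.meet_commute ha)

theorem meet_sq {t g a : G} (hE : C.Exc t) (hg : g * C.z * g⁻¹ = t) (ha : a ∈ C.meet g) : a * a = 1 :=
  (C.π_sq _ (C.mem_meet.mp ha).1).mp (C.exc_ts hcl hE _ (C.meet_img hcl hE hg ha))

theorem meet_comm {t g a b : G} (hE : C.Exc t) (hg : g * C.z * g⁻¹ = t) (ha : a ∈ C.meet g)
    (hb : b ∈ C.meet g) : Commute a b := by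
  have h1 := C.meet_sq hcl hE hg (mul_mem ha hb)
  show a * b = b * a
  rw [mul_eq_one_iff_eq_inv.mp h1, mul_inv_rev, inv_eq_of_mul_eq_one_right (C.meet_sq hcl hE hg ha),
    inv_eq_of_mul_eq_one_right (C.meet_sq hcl hE hg hb)]

theorem meet_card {t g : G} (hE : C.Exc t) (hg : g * C.z * g⁻¹ = t) :
    Nat.card (C.meet g) ≤ 4 := by
  classical
  haveI := Fintype.ofFinite (C.meet g)
  by_contra hgt
  push Not at hgt
  rw [Nat.card_eq_fintype_card] at hgt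
  have pick : ∀ S : Finset (C.meet g), S.card ≤ 4 → ∃ x, x ∉ S := fun S hS => by
    by_contra hall
    push Not at hall
    have : Finset.univ ⊆ S := fun x _ => hall x
    have := Finset.card_le_card this
    rw [Finset.card_univ] at this
    omega
  obtain ⟨a, ha⟩ := pick {1} (by simp)
  obtain ⟨b, hb⟩ := pick {1, a} (Finset.card_le_two.trans (by norm_num))
  obtain ⟨c, hc⟩ := pick {1, a, b, a * b} Finset.card_le_four
  simp only [Finset.mem_insert, Finset.mem_singleton, not_or] at ha hb hc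
  have hπR : C.π (a : G) ∈ img (C.ρ (C.μ t)) := C.meet_img hcl hE hg a.2
  obtain ⟨v, hv⟩ := mem_img.mp hπR
  have ne1 : ∀ {x : C.meet g}, x ≠ 1 → (x : G) ≠ 1 := fun h e => h (Subtype.ext e)
  have nee : ∀ {x y : C.meet g}, x ≠ y → (x : G) ≠ y := fun h e => h (Subtype.ext e)
  have bb : b * b = 1 := Subtype.ext (C.meet_sq hcl hE hg b.2)
  have hbc : b * c ≠ 1 := fun e => hc.2.2.1 (by rw [← one_mul c, ← bb, mul_assoc, e, mul_one])
  have habc : b * c ≠ a := fun e => hc.2.2.2 (by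
    have hcm : a * b = b * a := Subtype.ext (C.meet_comm hcl hE hg a.2 b.2).eq
    rw [hcm, ← e, ← mul_assoc, bb, one_mul])
  have h1 := C.beta_one hcl hE hg a.2 b.2 (ne1 ha) (ne1 hb.1) (nee (Ne.symm hb.2)) hv
  have h2 := C.beta_one hcl hE hg a.2 c.2 (ne1 ha) (ne1 hc.1) (nee (Ne.symm hc.2.1)) hv
  have h3 := C.beta_one hcl hE hg a.2 (b * c).2 (ne1 ha) (ne1 hbc) (nee (Ne.symm habc)) hv
  rw [Subgroup.coe_mul, C.π_mul _ (C.mem_meet.mp b.2).1 _ (C.mem_meet.mp c.2).1, map_add, h1, h2] at h3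
  exact absurd h3 (by decide)

end Ctx

end Cfsg.Lib.LargeExtra.EightSmith
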