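import Cfsg.Agent.LargeExtra.EightSmith.Planes

/-!
# An orbit of nineteen plus a multiple of forty-eight conjugates
-/

set_option autoImplicit false
set_option linter.style.haveILetI false
set_option linter.unusedSectionVars false
set_option linter.unusedVariables false
set_option maxRecDepth 40000
set_option synthInstance.maxSize 4096
set_option synthInstance.maxHeartbeats 400000

open Module Equiv Subgroup

namespace Cfsg.Lib.LargeExtra.EightSmith

universe u v w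

/-- Elements permuting the three pairs. -/
def shiftL : List (Perm (Fin 6)) := [1, rotP, rotP * rotP]

/-- A four group whose involutions fix the plane and its translate. -/
def fourK : List (Perm (Fin 6)) := [1, swap 2 3 * swap 4 5, swap 0 1 * swap 4 5, swap 0 1 * swap 2 3]

theorem fourK_facts : (∀ σ ∈ fourK, ∀ π ∈ fourK, σ * π ∈ fourK) ∧ fourK.Nodup ∧ (∀ σ ∈ fourK, σ * σ = 1) ∧
    (∀ s ∈ shiftL, Perm.sign s = 1 ∧ ∀ σ ∈ fourK, s * σ * s⁻¹ ∈ fourK) ∧
    (∀ π ∈ fourK, π ≠ 1 → ∃ s ∈ shiftL, s * (swap 2 3 * swap 4 5) * s⁻¹ = π) ∧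
    (rotP * (swap 2 3 * swap 4 5) * rotP⁻¹ ∈ fourK ∧ rotP * (swap 2 3 * swap 4 5) * rotP⁻¹ ≠ 1) := by
  decide +kernel

theorem shift_act : (∀ s ∈ shiftL, ∀ m : Fin 3, ∀ y ∈ yL, act false m s y ∈ yL) ∧
    (∀ s ∈ shiftL, ∀ y ∈ pL, act false 0 s y ∈ pL) ∧
    (∀ j ∈ pL, j ≠ 0 → ∃ s ∈ shiftL, act false 0 s 1 = j) ∧
    (∀ y ∈ yL, rankOne y → ∃ m : Fin 3, ∃ s ∈ shiftL, act false m s 1 = y) ∧
    ¬ rankOne 0 ∧ (∀ y ∈ yL, ∀ m : Fin 3, ∀ s ∈ shiftL, act false m s 1 = y → rankOne y) := by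
  decide +kernel

theorem card_rank_yL : (Finset.univ.filter fun j : Fin 256 => rankOne j ∧ j ∈ yL).card = 9 := by decide +kernel

theorem orbit_numbers : ∀ c ∈ ([0, 16, 32] : List ℕ), ∃ p ∈ ([19, 67, 23] : List ℕ), p ∣ 19 + 3 * c := by decide

theorem two_pow_mod : ∀ p ∈ ([19, 67, 23] : List ℕ), ∀ i ≤ 7, ∀ j ≤ 7, 2 ^ i % p = 2 ^ j % p → i = j := by
  decide +kernel

theorem card_conj_orbit {G : Type*} [Group G] [Finite G] (N : Subgroup G) (x : G) :
    Nat.card (Set.range fun n : N => (n : G) * x * (n : G)⁻¹) * Nat.card ↥(N ⊓ centralizer ({x} : Set G)) =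
      Nat.card N := by
  classical
  let f : N → G := fun n => (n : G) * x * (n : G)⁻¹
  let K : Subgroup N := (centralizer ({x} : Set G)).subgroupOf N
  have hrel : ∀ a b : N, (a : N)⁻¹ * b ∈ K ↔ f a = f b := by
    intro a b
    rw [mem_subgroupOf, mem_centralizer_singleton_iff]
    constructor
    · intro h
      simp only [f]
      simp only [Subgroup.coe_mul, Subgroup.coe_inv] at h
      calc (a : G) * x * (a : G)⁻¹ = (a : G) * (x * ((a : G)⁻¹ * b)) * (b : G)⁻¹ := by group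
        _ = (a : G) * ((a : G)⁻¹ * b * x) * (b : G)⁻¹ := by rw [← h]
        _ = _ := by group
    · intro h
      simp only [f] at h
      show ((a⁻¹ * b : N) : G) * x = x * ((a⁻¹ * b : N) : G)
      rw [Subgroup.coe_mul, Subgroup.coe_inv]
      calc (a : G)⁻¹ * b * x = (a : G)⁻¹ * ((b : G) * x * (b : G)⁻¹) * b := by group
        _ = (a : G)⁻¹ * ((a : G) * x * (a : G)⁻¹) * b := by rw [h]
        _ = _ := by group
  let F : N ⧸ K → Set.range f := Quotient.lift (fun n => ⟨f n, n, rfl⟩) fun a b h =>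
    Subtype.ext ((hrel a b).mp (QuotientGroup.leftRel_apply.mp h))
  have hF : Function.Bijective F := by
    refine ⟨?_, ?_⟩
    · intro a b e
      induction a using QuotientGroup.induction_on with | H a => ?_
      induction b using QuotientGroup.induction_on with | H b => ?_
      exact QuotientGroup.eq.mpr ((hrel a b).mpr (congrArg Subtype.val e))
    · rintro ⟨_, n, rfl⟩
      exact ⟨(n : N ⧸ K), rfl⟩
  have h := Subgroup.card_eq_card_quotient_mul_card_subgroup K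
  rw [Nat.card_eq_of_bijective F hF] at h
  rw [h]
  congr 1
  exact Nat.card_congr
    { toFun := fun y => ⟨⟨(y : G), y.2.1⟩, y.2.2⟩
      invFun := fun y => ⟨((y : N) : G), (y : N).2, y.2⟩
      left_inv := fun _ => rfl
      right_inv := fun _ => rfl }

theorem centralizes_small {G : Type*} [Group G] [Finite G] {U : Subgroup G} {p i : ℕ}
    (hp : p ∈ ([19, 67, 23] : List ℕ)) [hpp : Fact p.Prime] (hU : Nat.card U = 2 ^ i) (hi : i ≤ 7) {x : G}
    (hx : x ^ p = 1) (hN : x ∈ normalizer (U : Set G)) : ∀ y ∈ U, x * y * x⁻¹ = y := by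
  classical
  let φ : Perm U :=
    { toFun := fun y => ⟨x * y * x⁻¹, (mem_normalizer_iff.mp hN _).mp y.2⟩
      invFun := fun y => ⟨x⁻¹ * y * x, by
        have := (mem_normalizer_iff.mp (inv_mem hN) _).mp y.2
        rwa [inv_inv] at this⟩
      left_inv := fun y => Subtype.ext (by show x⁻¹ * (x * y * x⁻¹) * x = _; group)
      right_inv := fun y => Subtype.ext (by show x * (x⁻¹ * y * x) * x⁻¹ = _; group) }
  have hpow : ∀ (n : ℕ) (y : U), (((φ ^ n) y : U) : G) = x ^ n * y * (x ^ n)⁻¹ := by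
    intro n
    induction n with
    | zero => intro y; simp
    | succ n ih =>
      intro y
      rw [pow_succ' φ, Perm.mul_apply]
      show x * (((φ ^ n) y : U) : G) * x⁻¹ = _
      rw [ih, pow_succ' x]
      group
  have hφ : φ ^ p = 1 := Equiv.ext fun y => Subtype.ext (by rw [hpow, hx]; simp)
  have hP : IsPGroup p (zpowers φ) := by
    rintro ⟨y, hy⟩
    obtain ⟨k, rfl⟩ := mem_zpowers_iff.mp hy
    refine ⟨1, Subtype.ext ?_⟩
    show (φ ^ k) ^ p ^ 1 = 1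
    rw [pow_one, ← zpow_natCast, ← zpow_mul, mul_comm, zpow_mul, zpow_natCast, hφ, one_zpow]
  let D : Subgroup G := U ⊓ centralizer ({x} : Set G)
  have hm := hP.card_modEq_card_fixedPoints U
  have hfix : Nat.card (MulAction.fixedPoints (zpowers φ) U) = Nat.card D := Nat.card_congr
    { toFun := fun y => ⟨((y : U) : G), (y : U).2, mem_centralizer_singleton_iff.mpr (by
        have h : φ (y : U) = y := y.2 ⟨φ, mem_zpowers φ⟩
        have h' : x * ((y : U) : G) * x⁻¹ = (y : U) := congrArg Subtype.val h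
        exact (mul_inv_eq_iff_eq_mul.mp h').symm)⟩
      invFun := fun y => ⟨⟨(y : G), y.2.1⟩, by
        rintro ⟨f, hf⟩
        obtain ⟨k, rfl⟩ := mem_zpowers_iff.mp hf
        refine Equiv.Perm.zpow_apply_eq_self_of_apply_eq_self (Subtype.ext ?_) k
        show x * (y : G) * x⁻¹ = y
        rw [← mem_centralizer_singleton_iff.mp y.2.2, mul_inv_cancel_right]⟩
      left_inv := fun _ => rfl
      right_inv := fun _ => rfl }
  obtain ⟨j, hj⟩ : ∃ j, Nat.card D = 2 ^ j := by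
    have hdvd : Nat.card D ∣ 2 ^ i := hU ▸ Subgroup.card_dvd_of_le inf_le_left
    obtain ⟨j, -, hj⟩ := (Nat.dvd_prime_pow Nat.prime_two).mp hdvd
    exact ⟨j, hj⟩
  rw [hfix, hj, hU] at hm
  have hji : j ≤ i := by
    have := Subgroup.card_le_of_le (inf_le_left : D ≤ U)
    rw [hj, hU] at this
    exact (Nat.pow_le_pow_iff_right (by norm_num : 1 < 2)).mp this
  obtain rfl := two_pow_mod p hp i hi j (hji.trans hi) hm
  have he : D = U := Subgroup.eq_of_le_of_card_ge inf_le_left (by rw [hj, hU])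
  intro y hy
  have := mem_centralizer_singleton_iff.mp (show y ∈ D by rw [he]; exact hy).2
  rw [← this, mul_inv_cancel_right]

namespace Ctx

variable {G : Type u} {H : Type v} {V : Type w} [Group G] [Finite G] [Group H] [AddCommGroup V]
  [Module (ZMod 2) V] [Finite V] {q : QuadraticForm (ZMod 2) V}

local notation "𝐁" => QuadraticMap.polarBilin q

namespace A

variable {C : Ctx G H q} (A : C.A)

/-- The four group over `fourK`. -/
def InK (C : Ctx G H q) (h : H) : Prop := Commute h C.T.w ∧ h * h = 1 ∧ (C.T.f h).2 ∈ fourK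

theorem InK.mul {h k : H} (hh : InK C h) (hk : InK C k) : InK C (h * k) := by
  have hm : (C.T.f (h * k)).2 ∈ fourK := by rw [map_mul]; exact fourK_facts.1 _ hh.2.2 _ hk.2.2
  refine ⟨hh.1.mul_left hk.1, C.T.inj (Prod.ext ?_ ?_), hm⟩
  · rw [map_mul, map_mul, map_one, Prod.fst_mul, Prod.fst_mul, C.T.fst_eq_one hh.2.1 hh.1,
      C.T.fst_eq_one hk.2.1 hk.1]
    rfl
  · rw [map_mul C.T.f (h * k) (h * k), map_one, Prod.snd_mul]
    exact fourK_facts.2.2.1 _ hm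

theorem InK.conj {h k : H} (hh : InK C h) (hk : Commute k C.T.w) {s : Perm (Fin 6)} (hs : s ∈ shiftL)
    (hks : (C.T.f k).2 = s) : InK C (k * h * k⁻¹) := by
  refine ⟨(hk.mul_left hh.1).mul_left hk.inv_left, ?_, ?_⟩
  · rw [show k * h * k⁻¹ * (k * h * k⁻¹) = k * (h * h) * k⁻¹ by group, hh.2.1, mul_one, mul_inv_cancel]
  · rw [map_mul, map_mul, map_inv, Prod.snd_mul, Prod.snd_mul, Prod.snd_inv, hks]
    exact (fourK_facts.2.2.2.1 s hs).2 _ hh.2.2

/-- The subgroup of order `2 ^ 7`. -/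
def U : Subgroup G where
  carrier := {m | Commute m C.z ∧ (∀ x ∈ A.F, Commute m x) ∧ InK C (C.μ m)}
  one_mem' := ⟨Commute.one_left _, fun x _ => Commute.one_left x, by
    rw [C.μ_one]; exact ⟨Commute.one_left _, one_mul 1, by rw [map_one]; exact List.mem_cons_self⟩⟩
  mul_mem' := fun {m n} hm hn => ⟨hm.1.mul_left hn.1, fun x hx => (hm.2.1 x hx).mul_left (hn.2.1 x hx), by
    rw [C.μ_mul _ _ hm.1 hn.1]; exact InK.mul hm.2.2 hn.2.2⟩
  inv_mem' := fun {m} hm => ⟨hm.1.inv_left, fun x hx => (hm.2.1 x hx).inv_left, by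
    rw [C.μ_inv hm.1, inv_eq_of_mul_eq_one_right hm.2.2.2.1]; exact hm.2.2⟩

theorem mem_U {m : G} : m ∈ A.U ↔ Commute m C.z ∧ (∀ x ∈ A.F, Commute m x) ∧ InK C (C.μ m) := Iff.rfl

theorem F_le_U : A.F ≤ A.U := fun x hx => ⟨C.x2.central x hx.1, fun y hy => A.F_commute hx hy, by
  rw [C.μ_mem hx.1]; exact ⟨Commute.one_left _, one_mul 1, by rw [map_one]; exact List.mem_cons_self⟩⟩

theorem U_inter {x : G} (hx : x ∈ A.U) (hxQ : x ∈ C.Q) : x ∈ A.F := A.F_max hxQ hx.2.1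

/-- An element of `C(z)` over a product of a power of `w` and a permutation of the pairs. -/
theorem adm_normalizes {m : G} (hm : Commute m C.z) {k : Fin 3} {s : Perm (Fin 6)} (hs : s ∈ shiftL)
    (hc : Commute (C.μ m) C.T.w) (hks : (C.T.f (C.μ m)).2 = s)
    (hμ : ∀ x, C.ρ (C.μ m) (A.K.Ψ x) = A.K.Ψ (act false k s x)) :
    m ∈ normalizer (A.U : Set G) ∧ (k = 0 → m ∈ normalizer (A.Z8 : Set G)) := by
  have hF : m ∈ normalizer (A.F : Set G) := Cfsg.Lib.ZStarApps.mem_normalizer_of_maps fun x ⟨hx, j, hj, e⟩ =>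
    ⟨C.conj_mem hm hx, act false k s j, shift_act.1 s hs k j hj, by rw [← hμ, e, C.ρ_π m hm x hx]⟩
  refine ⟨Cfsg.Lib.ZStarApps.mem_normalizer_of_maps fun x hx => ?_, fun hk => ?_⟩
  · obtain ⟨hxz, hxF, hxK⟩ := hx
    refine ⟨(hm.mul_left hxz).mul_left hm.inv_left, fun y hy => ?_, ?_⟩
    · have hy' : m⁻¹ * y * m ∈ A.F := by
        have := (mem_normalizer_iff.mp (inv_mem hF) y).mp hy
        rwa [inv_inv] at this
      have h := (hxF _ hy').eq
      show m * x * m⁻¹ * y = y * (m * x * m⁻¹)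
      calc m * x * m⁻¹ * y = m * (x * (m⁻¹ * y * m)) * m⁻¹ := by group
        _ = m * ((m⁻¹ * y * m) * x) * m⁻¹ := by rw [h]
        _ = _ := by group
    · rw [C.μ_conj hm hxz]; exact InK.conj hxK hc hs hks
  · subst hk
    exact Cfsg.Lib.ZStarApps.mem_normalizer_of_maps fun x ⟨hx, j, hj, e⟩ =>
      ⟨C.conj_mem hm hx, act false 0 s j, shift_act.2.1 s hs j hj, by rw [← hμ, e, C.ρ_π m hm x hx]⟩

/-- An element of `C(z)` normalizing the plane normalizes `F`. -/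
theorem norm_F {c : G} (hc : Commute c C.z) (hN : c ∈ normalizer (A.Z8 : Set G)) {y : G} (hy : y ∈ A.F) :
    c * y * c⁻¹ ∈ A.F := by
  obtain ⟨hyQ, j, hj, e⟩ := hy
  obtain ⟨p, hp, p', hp', rfl⟩ := yL_facts.2.2.1 j hj
  have himg : ∀ i ∈ pL, C.ρ (C.μ c) (A.K.Ψ i) ∈ A.codeSub yL yL_closed := fun i hi => by
    obtain ⟨x, hx, ex⟩ := C.π_surj (A.K.Ψ i)
    obtain ⟨-, l, hl, el⟩ := (mem_normalizer_iff.mp hN x).mp ⟨hx, i, hi, ex.symm⟩
    exact ⟨l, yL_facts.2.2.2.2.1 l hl, by rw [el, ← ex, C.ρ_π c hc x hx]⟩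
  have hw : ∀ v ∈ A.codeSub yL yL_closed, A.R.w v ∈ A.codeSub yL yL_closed := by
    rintro _ ⟨i, hi, rfl⟩
    exact ⟨_, yL_facts.2.2.2.1 i hi, (A.K.hw i).symm⟩
  refine ⟨C.conj_mem hc hyQ, ?_⟩
  show C.π (c * y * c⁻¹) ∈ A.codeSub yL yL_closed
  rw [← C.ρ_π c hc y hyQ, ← e, A.K.add, map_add, ← A.K.hw p', A.hw, ← LinearEquiv.mul_apply, ← map_mul]
  refine add_mem (himg p hp) ?_
  rcases C.T.conj_w (C.μ c) with h | h
  · rw [mul_inv_eq_iff_eq_mul.mp h, map_mul, LinearEquiv.mul_apply, ← A.hw]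
    exact hw _ (himg p' hp')
  · rw [mul_inv_eq_iff_eq_mul.mp h, map_mul, LinearEquiv.mul_apply,
      show C.T.w⁻¹ = C.T.w * C.T.w from inv_eq_of_mul_eq_one_right (by
        rw [← C.T.w_pow]; simp [pow_succ, mul_assoc]),
      map_mul, LinearEquiv.mul_apply, ← A.hw]
    exact hw _ (hw _ (himg p' hp'))

section main

variable {a k₀ : G} (ha : a ∈ C.Q) (hne : a ≠ C.z) (hπa : C.π a = A.K.Ψ 1) (hS : C.Sw a k₀)
  (hk₀ : k₀ ∈ normalizer (A.Z8 : Set G))
include ha hne hπa hS hk₀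

theorem shift_lift {x : G} (hx : x ∈ C.Q) (k : Fin 3) {s : Perm (Fin 6)} (hs : s ∈ shiftL)
    (hj : A.K.Ψ (act false k s 1) = C.π x) : ∃ m, m ∈ normalizer (A.U : Set G) ∧ m * a * m⁻¹ = x ∧
      (k = 0 → m ∈ normalizer (A.Z8 : Set G)) := by
  obtain ⟨h, hc, hhs, hh⟩ := A.exists_cent k (fourK_facts.2.2.2.1 s hs).1
  obtain ⟨m, hmz, hμ, hma⟩ := C.exists_lift ha hx (C.πa_ne hS.1 ha hne) (h := h) (by rw [hπa, hh, hj])
  subst hμ
  obtain ⟨h1, h2⟩ := A.adm_normalizes hmz hs hc hhs hh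
  exact ⟨m, h1, hma, h2⟩

theorem conj_in_U {k : G} (hk : k ∈ normalizer (A.Z8 : Set G)) {y : G} (hy : y ∈ A.F) :
    k * y * k⁻¹ ∈ A.U := by
  have hb : k * C.z * k⁻¹ ∈ A.Z8 := (mem_normalizer_iff.mp hk _).mp A.z_mem_Z8
  set b := k * C.z * k⁻¹ with hbd
  by_cases hbz : b = C.z
  · exact A.F_le_U (A.norm_F (mul_inv_eq_iff_eq_mul.mp hbz) hk hy)
  obtain ⟨hbQ, j, hj, ej⟩ := hb
  have hj0 : j ≠ 0 := fun e => by
    rw [e, A.Ψ_zero] at ej
    rcases C.eq_cases hbQ ej.symm with h | h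
    · exact C.x2.ne (conj_eq_one_iff.mp h)
    · exact hbz h
  obtain ⟨s, hs, hsj⟩ := shift_act.2.2.1 j hj hj0
  obtain ⟨m, hmU, hma, hm8⟩ := A.shift_lift ha hne hπa hS hk₀ hbQ 0 hs (by rw [hsj]; exact ej)
  set c := (m * k₀)⁻¹ * k with hcd
  have hcz : Commute c C.z := by
    refine mul_inv_eq_iff_eq_mul.mp ?_
    calc c * C.z * c⁻¹ = k₀⁻¹ * (m⁻¹ * b * m) * k₀ := by rw [hcd, hbd]; group
      _ = k₀⁻¹ * a * k₀ := by rw [← hma]; group
      _ = C.z := by rw [← hS.1]; group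
  have hcN : c ∈ normalizer (A.Z8 : Set G) := mul_mem (inv_mem (mul_mem (hm8 rfl) hk₀)) hk
  obtain ⟨h1, h2, h3⟩ := A.swap_commute ha hne hπa hS hk₀ (A.norm_F hcz hcN hy)
  have hU' : k₀ * (c * y * c⁻¹) * k₀⁻¹ ∈ A.U := by
    refine ⟨h1, h3, ?_⟩
    rcases h2 with e | ⟨e1, e2⟩
    · rw [e]; exact ⟨Commute.one_left _, one_mul 1, by rw [map_one]; exact List.mem_cons_self⟩
    · refine ⟨e1, ?_, by rw [e2]; decide +kernel⟩
      obtain ⟨hQ', i, hi, ei⟩ := A.norm_F hcz hcN hy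
      have hsq : c * y * c⁻¹ * (c * y * c⁻¹) = 1 := (C.π_sq _ hQ').mp (by
        rw [← ei, A.K.form, show qc i = 0 from (by decide +kernel : ∀ i ∈ yL, qc i = 0) i hi, Nat.cast_zero])
      rw [← C.μ_mul _ _ h1 h1,
        show k₀ * (c * y * c⁻¹) * k₀⁻¹ * (k₀ * (c * y * c⁻¹) * k₀⁻¹) = k₀ * (c * y * c⁻¹ * (c * y * c⁻¹)) * k₀⁻¹
          by group, hsq, mul_one, mul_inv_cancel, C.μ_one]
  have := (mem_normalizer_iff.mp hmU _).mp hU'
  rw [show m * (k₀ * (c * y * c⁻¹) * k₀⁻¹) * m⁻¹ = k * y * k⁻¹ by rw [hcd]; group] at this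
  exact this

theorem U_eq : A.U = closure {x | ∃ k ∈ normalizer (A.Z8 : Set G), ∃ y ∈ A.F, k * y * k⁻¹ = x} := by
  set S := {x | ∃ k ∈ normalizer (A.Z8 : Set G), ∃ y ∈ A.F, k * y * k⁻¹ = x}
  have hle : closure S ≤ A.U := (closure_le _).mpr (by
    rintro _ ⟨k, hk, y, hy, rfl⟩; exact A.conj_in_U ha hne hπa hS hk₀ hk hy)
  refine le_antisymm (fun x hx => ?_) hle
  have hFc : A.F ≤ closure S := fun y hy => subset_closure ⟨1, one_mem _, y, hy, by group⟩
  -- some element of the closure is moved outside `Q`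
  obtain ⟨y₁, hy₁, hμ₁⟩ : ∃ y ∈ A.F, C.μ (k₀ * y * k₀⁻¹) ≠ 1 := by
    by_contra hno
    push Not at hno
    obtain ⟨x₀, hx₀, e₀⟩ := C.π_surj (A.K.Ψ 96)
    have hF₀ : x₀ ∈ A.F := ⟨hx₀, 96, yL_facts.2.2.2.2.2.2.2.1, e₀.symm⟩
    have hQ₀ := (C.μ_ker _ (A.swap_commute ha hne hπa hS hk₀ hF₀).1).mp (hno x₀ hF₀)
    have hm0 : k₀ * x₀ * k₀⁻¹ ∈ C.meet k₀ :=
      C.mem_meet.mpr ⟨hQ₀, by rw [show k₀⁻¹ * (k₀ * x₀ * k₀⁻¹) * k₀ = x₀ by group]; exact hx₀⟩
    have hm1 := A.meet_sw ha hne hπa hS hm0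
    rw [show k₀⁻¹ * (k₀ * x₀ * k₀⁻¹) * k₀ = x₀ by group] at hm1
    obtain ⟨-, i, hi, ei⟩ := (A.meet_code ha hne hπa hS).mp hm1
    exact yL_facts.2.2.2.2.2.2.2.2.1 (A.K.bij.1 (ei.trans e₀) ▸ hi)
  have hs₁ : Commute (C.μ (k₀ * y₁ * k₀⁻¹)) C.T.w ∧
      (C.T.f (C.μ (k₀ * y₁ * k₀⁻¹))).2 = swap 2 3 * swap 4 5 :=
    (A.swap_commute ha hne hπa hS hk₀ hy₁).2.1.resolve_left hμ₁
  have hget : ∀ π ∈ fourK, ∃ z₁ ∈ closure S, (C.T.f (C.μ z₁)).2 = π := by
    intro π hπ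
    by_cases h1 : π = 1
    · exact ⟨1, one_mem _, by rw [C.μ_one, map_one, h1]; rfl⟩
    obtain ⟨s, hs, hsπ⟩ := fourK_facts.2.2.2.2.1 π hπ h1
    obtain ⟨b, hb, eb⟩ := C.π_surj (A.K.Ψ (act false 0 s 1))
    obtain ⟨h, hc, hhs, hh⟩ := A.exists_cent 0 (fourK_facts.2.2.2.1 s hs).1
    obtain ⟨m, hmz, hμ, -⟩ := C.exists_lift ha hb (C.πa_ne hS.1 ha hne) (h := h) (by rw [hπa, hh, eb])
    subst hμ
    have hm8 := (A.adm_normalizes hmz hs hc hhs hh).2 rfl
    refine ⟨m * k₀ * y₁ * (m * k₀)⁻¹, subset_closure ⟨m * k₀, mul_mem hm8 hk₀, y₁, hy₁, rfl⟩, ?_⟩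
    rw [show m * k₀ * y₁ * (m * k₀)⁻¹ = m * (k₀ * y₁ * k₀⁻¹) * m⁻¹ by group,
      C.μ_conj hmz (A.swap_commute ha hne hπa hS hk₀ hy₁).1, map_mul, map_mul, map_inv, Prod.snd_mul,
      Prod.snd_mul, Prod.snd_inv, hhs, hs₁.2, hsπ]
  obtain ⟨z₁, hz₁, e⟩ := hget _ hx.2.2.2.2
  have hz₁U := hle hz₁
  have heq : C.μ z₁ = C.μ x := A.snd_inj hz₁U.2.2.2.1 hz₁U.2.2.1 hx.2.2.2.1 hx.2.2.1 e
  have hm : z₁⁻¹ * x ∈ A.U := mul_mem (inv_mem hz₁U) hx
  have hQ' : z₁⁻¹ * x ∈ C.Q := (C.μ_ker _ hm.1).mp (by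
    rw [C.μ_mul _ _ hz₁U.1.inv_left hx.1, C.μ_inv hz₁U.1, heq, inv_mul_cancel])
  rw [show x = z₁ * (z₁⁻¹ * x) by group]
  exact mul_mem hz₁ (hFc (A.U_inter hm hQ'))

theorem norm_Z8_le : normalizer (A.Z8 : Set G) ≤ normalizer (A.U : Set G) := by
  intro n hn
  refine Cfsg.Lib.ZStarApps.mem_normalizer_of_maps fun x hx => ?_
  rw [A.U_eq ha hne hπa hS hk₀] at hx ⊢
  refine (show Subgroup.closure _ ≤ (Subgroup.closure _).comap (MulAut.conj n).toMonoidHom from ?_) hx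
  rw [closure_le]
  rintro _ ⟨k, hk, y, hy, rfl⟩
  refine subset_closure ⟨n * k, mul_mem hn hk, y, hy, ?_⟩
  show n * k * y * (n * k)⁻¹ = n * (k * y * k⁻¹) * n⁻¹
  group

theorem Q_le_norm : C.Q ≤ normalizer (A.U : Set G) := fun s hs =>
  (A.adm_normalizes (C.x2.central s hs) (k := 0) List.mem_cons_self
    (by rw [C.μ_mem hs]; exact Commute.one_left _) (by rw [C.μ_mem hs, map_one]; rfl)
    fun x => by rw [C.μ_mem hs, map_one, (rot3_cube x).2]; rfl).1

/-- The contradiction. -/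
theorem orbit_false : False := by
  classical
  haveI := Fintype.ofFinite G
  haveI : Finite H := Finite.of_injective _ C.T.inj
  set N := normalizer (A.U : Set G) with hN
  let O : Set G := Set.range fun n : N => (n : G) * C.z * (n : G)⁻¹
  have hzU : C.z ∈ A.U := A.F_le_U (A.Z8_le_F A.z_mem_Z8)
  have hOU : ∀ x ∈ O, x ∈ A.U := by
    rintro _ ⟨n, rfl⟩; exact (mem_normalizer_iff.mp n.2 _).mp hzU
  have hOconj : ∀ x ∈ O, ∀ n ∈ N, n * x * n⁻¹ ∈ O := by
    rintro _ ⟨m, rfl⟩ n hn; exact ⟨⟨n, hn⟩ * m, by simp [mul_assoc]⟩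
  have hk0N : k₀ ∈ N := A.norm_Z8_le ha hne hπa hS hk₀ hk₀
  have hzO : C.z ∈ O := ⟨1, by simp⟩
  have haO : a ∈ O := ⟨⟨k₀, hk0N⟩, hS.1⟩
  -- the part inside `Q`
  let J := Finset.univ.filter fun j : Fin 256 => rankOne j ∧ j ∈ yL
  have hsurj : ∀ j, ∃ x ∈ C.Q, C.π x = A.K.Ψ j := fun j => C.π_surj _
  choose s hsQ hsπ using hsurj
  let Φ : Bool × Fin 256 → G := fun p => if p.1 then C.z * s p.2 else s p.2
  have hΦQ : ∀ p, Φ p ∈ C.Q ∧ C.π (Φ p) = A.K.Ψ p.2 := by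
    rintro ⟨b, j⟩
    cases b
    · exact ⟨hsQ j, hsπ j⟩
    · exact ⟨mul_mem C.x2.mem (hsQ j), (C.π_zmul (hsQ j)).trans (hsπ j)⟩
  let S₁ := insert C.z (((Finset.univ : Finset Bool) ×ˢ J).image Φ)
  have hS₁ : ∀ x, x ∈ S₁ ↔ x ∈ O ∧ x ∈ C.Q := by
    intro x
    constructor
    · intro hx
      rcases Finset.mem_insert.mp hx with rfl | hx
      · exact ⟨hzO, C.x2.mem⟩
      · obtain ⟨⟨b, j⟩, hbj, rfl⟩ := Finset.mem_image.mp hx
        rw [Finset.mem_product, Finset.mem_filter] at hbj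
        obtain ⟨m, s', hs', e⟩ := shift_act.2.2.2.1 j hbj.2.2.2 hbj.2.2.1
        obtain ⟨hQ', hπ'⟩ := hΦQ (b, j)
        obtain ⟨n, hn, hna, -⟩ := A.shift_lift ha hne hπa hS hk₀ hQ' m hs' (by rw [e, hπ'])
        exact ⟨hna ▸ hOconj a haO n hn, hQ'⟩
    · rintro ⟨hxO, hxQ⟩
      by_cases hxz : x = C.z
      · exact Finset.mem_insert.mpr (Or.inl hxz)
      obtain ⟨n, hn⟩ := hxO
      obtain ⟨j, hj, ej⟩ := A.rankOne_conj (g := (n : G)) hn hxQ hxz
      obtain ⟨-, i, hi, ei⟩ := A.U_inter (hOU x ⟨n, hn⟩) hxQ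
      obtain rfl : i = j := A.K.bij.1 (ei.trans ej)
      refine Finset.mem_insert.mpr (Or.inr (Finset.mem_image.mpr ?_))
      rcases (C.eq_iff (hsQ i) hxQ).mp ((hsπ i).trans ei) with e | e
      · exact ⟨(false, i), Finset.mem_product.mpr ⟨Finset.mem_univ _, Finset.mem_filter.mpr
          ⟨Finset.mem_univ _, hj, hi⟩⟩, e.symm⟩
      · exact ⟨(true, i), Finset.mem_product.mpr ⟨Finset.mem_univ _, Finset.mem_filter.mpr
          ⟨Finset.mem_univ _, hj, hi⟩⟩, e.symm⟩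
  have hΦinj : Set.InjOn Φ ↑((Finset.univ : Finset Bool) ×ˢ J) := by
    rintro ⟨b, j⟩ - ⟨b', j'⟩ - e
    have hjj : j = j' := A.K.bij.1 ((hΦQ (b, j)).2.symm.trans ((congrArg C.π e).trans (hΦQ (b', j')).2))
    subst hjj
    cases b <;> cases b' <;> simp only [Φ, Bool.false_eq_true, if_true, if_false] at e ⊢
    · exact absurd (right_eq_mul.mp e) C.x2.ne
    · exact absurd (mul_eq_right.mp e) C.x2.ne
  have hS₁card : S₁.card = 19 := by
    rw [Finset.card_insert_of_notMem, Finset.card_image_of_injOn hΦinj, Finset.card_product, card_rank_yL]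
    · simp
    · intro h
      obtain ⟨⟨b, j⟩, hbj, e⟩ := Finset.mem_image.mp h
      rw [Finset.mem_product, Finset.mem_filter] at hbj
      have h0 : A.K.Ψ j = A.K.Ψ 0 := by rw [← (hΦQ (b, j)).2, e, C.π_z, A.Ψ_zero]
      exact shift_act.2.2.2.2.1 (A.K.bij.1 h0 ▸ hbj.2.2.1)
  -- the parts outside `Q`
  let P : Perm (Fin 6) → Finset G := fun π =>
    Finset.univ.filter fun x => x ∈ O ∧ x ∉ C.Q ∧ (C.T.f (C.μ x)).2 = π
  let π₁ : Perm (Fin 6) := swap 2 3 * swap 4 5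
  have hconjP : ∀ π ∈ fourK, π ≠ 1 → (P π).card = (P π₁).card := by
    intro π hπ h1
    obtain ⟨s', hs', e⟩ := fourK_facts.2.2.2.2.1 π hπ h1
    obtain ⟨h, hc, hhs, hh⟩ := A.exists_cent 0 (fourK_facts.2.2.2.1 s' hs').1
    obtain ⟨m, hmz, hμ⟩ := C.μ_surj h
    subst hμ
    have hmN : m ∈ N := (A.adm_normalizes hmz hs' hc hhs hh).1
    have hμc : ∀ x, x ∈ A.U → (C.T.f (C.μ (m * x * m⁻¹))).2 = s' * (C.T.f (C.μ x)).2 * s'⁻¹ := fun x hx => by
      rw [C.μ_conj hmz hx.1, map_mul, map_mul, map_inv, Prod.snd_mul, Prod.snd_mul, Prod.snd_inv, hhs]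
    refine (Finset.card_bij' (fun x _ => m * x * m⁻¹) (fun x _ => m⁻¹ * x * m) ?_ ?_ ?_ ?_).symm
    · intro x hx
      simp only [P, Finset.mem_filter, Finset.mem_univ, true_and] at hx ⊢
      refine ⟨hOconj x hx.1 m hmN, fun h => hx.2.1 ?_, by rw [hμc x (hOU x hx.1), hx.2.2]; exact e⟩
      have := C.conj_mem hmz.inv_left h
      rwa [show m⁻¹ * (m * x * m⁻¹) * m⁻¹⁻¹ = x by group] at this
    · intro x hx
      simp only [P, Finset.mem_filter, Finset.mem_univ, true_and] at hx ⊢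
      have hO' : m⁻¹ * x * m ∈ O := by
        have := hOconj x hx.1 m⁻¹ (inv_mem hmN)
        rwa [inv_inv] at this
      refine ⟨hO', fun h => hx.2.1 ?_, ?_⟩
      · have := C.conj_mem hmz h
        rwa [show m * (m⁻¹ * x * m) * m⁻¹ = x by group] at this
      · have h2 := hμc _ (hOU _ hO')
        rw [show m * (m⁻¹ * x * m) * m⁻¹ = x by group, hx.2.2, ← e] at h2
        exact (mul_left_cancel (mul_right_cancel h2)).symm
    · intro x _; group
    · intro x _; group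
  -- orbits of `Q` in one coset
  have hFcard : Nat.card A.F = 32 := by
    have hc : Nat.card (A.codeSub yL yL_closed) = 16 := by
      let emb : {j : Fin 256 // j ∈ yL.toFinset} → A.codeSub yL yL_closed := fun j =>
        ⟨A.K.Ψ j, j, List.mem_toFinset.mp j.2, rfl⟩
      have hb : Function.Bijective emb := ⟨fun i j e => Subtype.ext (A.K.bij.1 (congrArg Subtype.val e)),
        fun ⟨_, j, hj, e⟩ => ⟨⟨j, List.mem_toFinset.mpr hj⟩, Subtype.ext e⟩⟩
      rw [← Nat.card_eq_of_bijective emb hb, Nat.card_eq_fintype_card, Fintype.card_coe,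
        List.toFinset_card_of_nodup yL_facts.2.2.2.2.2.2.2.2.2]
      rfl
    rw [Module.natCard_eq_pow_finrank (K := ZMod 2), Nat.card_zmod] at hc
    show Nat.card (C.pre _) = _
    rw [C.card_pre, pow_succ, hc]
    norm_num
  have horb : ∀ x ∈ P π₁, ∃ T : Finset G, T.card = 16 ∧ T ⊆ P π₁ ∧ x ∈ T ∧
      ∀ y, y ∈ T ↔ ∃ s ∈ C.Q, s * x * s⁻¹ = y := by
    intro x hx
    simp only [P, Finset.mem_filter, Finset.mem_univ, true_and] at hx
    have hxU := hOU x hx.1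
    have hcent : C.Q ⊓ centralizer ({x} : Set G) = A.F := by
      refine le_antisymm ?_ fun y hy => ⟨hy.1, mem_centralizer_singleton_iff.mpr (hxU.2.1 y hy).eq.symm⟩
      rintro y ⟨hy, hyc⟩
      obtain ⟨j, hj⟩ := A.K.bij.2 (C.π y)
      refine ⟨hy, j, (fix_space π₁ List.mem_cons_self j).mp (A.K.bij.1 ?_), hj⟩
      rw [← hx.2.2, ← A.code_invol hxU.2.2.2.1 hxU.2.2.1, hj, C.ρ_π x hxU.1 y hy,
        ← mem_centralizer_singleton_iff.mp hyc, mul_inv_cancel_right]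
    have h16 := card_conj_orbit C.Q x
    rw [hcent, hFcard, C.card] at h16
    refine ⟨(Set.range fun n : C.Q => (n : G) * x * (n : G)⁻¹).toFinset, ?_, ?_, ?_, fun y => ?_⟩
    · rw [← Set.ncard_eq_toFinset_card', ← Nat.card_coe_set_eq]
      omega
    · intro y hy
      rw [Set.mem_toFinset] at hy
      obtain ⟨n, rfl⟩ := hy
      have hnz := C.x2.central _ n.2
      simp only [P, Finset.mem_filter, Finset.mem_univ, true_and]
      refine ⟨hOconj x hx.1 n (A.Q_le_norm ha hne hπa hS hk₀ n.2), fun h => hx.2.1 ?_, ?_⟩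
      · have := C.conj_mem hnz.inv_left h
        rwa [show (n : G)⁻¹ * ((n : G) * x * (n : G)⁻¹) * (n : G)⁻¹⁻¹ = x by group] at this
      · rw [C.μ_conj hnz hxU.1, C.μ_mem n.2, one_mul, inv_one, mul_one, hx.2.2]
    · exact Set.mem_toFinset.mpr ⟨1, by simp⟩
    · rw [Set.mem_toFinset]
      exact ⟨fun ⟨n, e⟩ => ⟨n, n.2, e⟩, fun ⟨n, hn, e⟩ => ⟨⟨n, hn⟩, e⟩⟩
  have hPle : (P π₁).card ≤ 32 := by
    rcases Finset.eq_empty_or_nonempty (P π₁) with h | ⟨x, hx⟩
    · simp [h]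
    simp only [P, Finset.mem_filter, Finset.mem_univ, true_and] at hx
    have hxU := hOU x hx.1
    refine (Finset.card_le_card_of_injOn (fun y => x⁻¹ * y) (t := (A.F : Set G).toFinset) (fun y hy => ?_)
      (mul_right_injective _).injOn).trans (le_of_eq ?_)
    · simp only [P, Finset.coe_filter, Finset.mem_univ, true_and, Set.mem_ofPred_eq] at hy
      have hyU := hOU y hy.1
      have hm : x⁻¹ * y ∈ A.U := mul_mem (inv_mem hxU) hyU
      refine Finset.mem_coe.mpr (Set.mem_toFinset.mpr (A.U_inter hm ((C.μ_ker _ hm.1).mp ?_)))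
      rw [C.μ_mul _ _ hxU.1.inv_left hyU.1, C.μ_inv hxU.1,
        A.snd_inj hxU.2.2.2.1 hxU.2.2.1 hyU.2.2.2.1 hyU.2.2.1 (hx.2.2.trans hy.2.2.symm), inv_mul_cancel]
    · rw [← Set.ncard_eq_toFinset_card', ← Nat.card_coe_set_eq]
      exact hFcard
  have hPcases : (P π₁).card ∈ ([0, 16, 32] : List ℕ) := by
    rcases Finset.eq_empty_or_nonempty (P π₁) with h | ⟨x, hx⟩
    · simp [h]
    obtain ⟨T, hT, hTs, hxT, hTiff⟩ := horb x hx
    by_cases hall : P π₁ ⊆ T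
    · rw [Finset.Subset.antisymm hall hTs, hT]; decide
    obtain ⟨y, hy, hyT⟩ := Finset.not_subset.mp hall
    obtain ⟨T', hT', hTs', hyT', hTiff'⟩ := horb y hy
    have hdis : Disjoint T T' := Finset.disjoint_left.mpr fun z₁ h1 h2 => by
      obtain ⟨s1, hs1, e1⟩ := (hTiff z₁).mp h1
      obtain ⟨s2, hs2, e2⟩ := (hTiff' z₁).mp h2
      exact hyT ((hTiff y).mpr ⟨s2⁻¹ * s1, mul_mem (inv_mem hs2) hs1, by
        calc s2⁻¹ * s1 * x * (s2⁻¹ * s1)⁻¹ = s2⁻¹ * (s1 * x * s1⁻¹) * s2 := by group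
          _ = y := by rw [e1, ← e2]; group⟩)
    have := Finset.card_le_card (Finset.union_subset hTs hTs')
    rw [Finset.card_union_of_disjoint hdis, hT, hT'] at this
    have : (P π₁).card = 32 := by omega
    rw [this]; decide
  -- the size of the orbit
  have hcardO : Nat.card O = 19 + 3 * (P π₁).card := by
    rw [Nat.card_coe_set_eq, Set.ncard_eq_toFinset_card']
    have hsplit := Finset.card_filter_add_card_filter_not (s := O.toFinset) (fun x => x ∈ C.Q)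
    have h19 : (O.toFinset.filter fun x => x ∈ C.Q) = S₁ := by
      ext x; rw [Finset.mem_filter, Set.mem_toFinset, hS₁]
    have hrest : (O.toFinset.filter fun x => x ∉ C.Q) =
        (fourK.toFinset.filter fun π => π ≠ 1).biUnion P := by
      ext x
      simp only [Finset.mem_filter, Set.mem_toFinset, Finset.mem_biUnion, P, Finset.mem_univ, true_and,
        List.mem_toFinset]
      constructor
      · rintro ⟨hxO, hxQ⟩
        have hxU := hOU x hxO
        refine ⟨_, ⟨hxU.2.2.2.2, fun h => hxQ ?_⟩, hxO, hxQ, rfl⟩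
        refine (C.μ_ker _ hxU.1).mp (A.snd_inj hxU.2.2.2.1 hxU.2.2.1 (one_mul 1) (Commute.one_left _) ?_)
        rw [h, map_one]; rfl
      · rintro ⟨π, -, h1, h2, -⟩; exact ⟨h1, h2⟩
    rw [← hsplit, h19, hS₁card, hrest, Finset.card_biUnion]
    · rw [Finset.sum_congr rfl fun π hπ => hconjP π (List.mem_toFinset.mp (Finset.mem_filter.mp hπ).1)
        (Finset.mem_filter.mp hπ).2, Finset.sum_const, smul_eq_mul,
        show (fourK.toFinset.filter fun π => π ≠ 1).card = 3 by decide +kernel]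
    · intro π _ π' _ hne'
      exact Finset.disjoint_left.mpr fun x h1 h2 => hne'
        ((Finset.mem_filter.mp h1).2.2.2.symm.trans (Finset.mem_filter.mp h2).2.2.2)
  obtain ⟨p, hp, hpd⟩ := orbit_numbers _ hPcases
  have hprime : p.Prime := by
    simp only [List.mem_cons, List.not_mem_nil, or_false] at hp
    rcases hp with rfl | rfl | rfl <;> norm_num
  haveI : Fact p.Prime := ⟨hprime⟩
  have hpN : p ∣ Nat.card N := by
    have h := card_conj_orbit N C.z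
    rw [show Nat.card (Set.range fun n : N => (n : G) * C.z * (n : G)⁻¹) = Nat.card O from rfl, hcardO] at h
    exact h ▸ hpd.mul_right _
  obtain ⟨x, hx⟩ := exists_prime_orderOf_dvd_card' p hpN
  have hxp : (x : G) ^ p = 1 := by rw [← hx, ← orderOf_coe, pow_orderOf_eq_one]
  have hU2 : IsPGroup 2 A.U := fun m => ⟨2, Subtype.ext (by
    have hmU := m.2
    have hQ' : (m : G) * m ∈ C.Q := (C.μ_ker _ (hmU.1.mul_left hmU.1)).mp (by
      rw [C.μ_mul _ _ hmU.1 hmU.1, hmU.2.2.2.1])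
    have hF' := A.U_inter (mul_mem hmU hmU) hQ'
    rw [show ((2 : ℕ) ^ 2) = 2 * 2 from rfl, SubmonoidClass.coe_pow, pow_mul, pow_two, pow_two]
    obtain ⟨-, i, hi, ei⟩ := hF'
    exact (C.π_sq _ hQ').mp (by
      rw [← ei, A.K.form, show qc i = 0 from (by decide +kernel : ∀ i ∈ yL, qc i = 0) i hi, Nat.cast_zero]))⟩
  obtain ⟨i, hi⟩ := IsPGroup.iff_card.mp hU2
  have hi7 : i ≤ 7 := by
    let F' : A.U → {π : Perm (Fin 6) // π ∈ fourK.toFinset} :=
      fun m => ⟨(C.T.f (C.μ (m : G))).2, List.mem_toFinset.mpr m.2.2.2.2.2⟩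
    choose! r hr using fun (π : {π : Perm (Fin 6) // π ∈ fourK.toFinset}) (h : ∃ m, F' m = π) => h
    let E : A.U → {π : Perm (Fin 6) // π ∈ fourK.toFinset} × A.F := fun m =>
      ⟨F' m, ⟨((r (F' m) : A.U) : G)⁻¹ * m, by
        have h0 : (F' (r (F' m))).1 = (F' m).1 := congrArg Subtype.val (hr _ ⟨m, rfl⟩)
        have hrU := (r (F' m) : A.U).2
        have hm : ((r (F' m) : A.U) : G)⁻¹ * m ∈ A.U := mul_mem (inv_mem hrU) m.2
        refine A.U_inter hm ((C.μ_ker _ hm.1).mp ?_)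
        rw [C.μ_mul _ _ hrU.1.inv_left m.2.1, C.μ_inv hrU.1,
          A.snd_inj hrU.2.2.2.1 hrU.2.2.1 m.2.2.2.2.1 m.2.2.2.1 h0, inv_mul_cancel]⟩⟩
    have hE : Function.Injective E := by
      intro m n e
      have e1 : F' m = F' n := congrArg Prod.fst e
      have e2 : ((r (F' m) : A.U) : G)⁻¹ * m = ((r (F' n) : A.U) : G)⁻¹ * n :=
        congrArg (fun p => (p.2 : G)) e
      rw [e1] at e2
      exact Subtype.ext (mul_left_cancel e2)
    have h := Nat.card_le_card_of_injective E hE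
    rw [Nat.card_prod, hFcard, hi, Nat.card_eq_fintype_card, Fintype.card_coe,
      List.toFinset_card_of_nodup fourK_facts.2.1, show fourK.length * 32 = 2 ^ 7 from rfl] at h
    exact (Nat.pow_le_pow_iff_right (by norm_num : 1 < 2)).mp h
  have hxz : Commute (x : G) C.z :=
    mul_inv_eq_iff_eq_mul.mp (centralizes_small hp hi hi7 hxp x.2 C.z hzU)
  have hμp : C.μ (x : G) ^ p = 1 := by rw [← C.μ_pow hxz, hxp, C.μ_one]
  have hμ1 : C.μ (x : G) = 1 := by
    have h1 : orderOf (C.μ (x : G)) ∣ p := orderOf_dvd_of_pow_eq_one hμp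
    have h2 : orderOf (C.μ (x : G)) ∣ 2 ^ 5 * 135 := by
      rw [← orderOf_injective C.T.f C.T.inj, ← card_TS]; exact orderOf_dvd_natCard _
    have hcop : Nat.Coprime p (2 ^ 5 * 135) := by
      simp only [List.mem_cons, List.not_mem_nil, or_false] at hp
      rcases hp with rfl | rfl | rfl <;> norm_num
    exact orderOf_eq_one_iff.mp (Nat.eq_one_of_dvd_coprimes hcop h1 h2)
  have hxQ := (C.μ_ker _ hxz).mp hμ1
  have h4 : (x : G) ^ 4 = 1 := by
    rw [show (4 : ℕ) = 2 * 2 from rfl, pow_mul, pow_two (x : G)]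
    rcases C.x2.sq _ hxQ with e | e <;> rw [e]
    · exact one_pow 2
    · rw [pow_two, C.x2.zz]
  have hp4 : Nat.Coprime p 4 := by
    simp only [List.mem_cons, List.not_mem_nil, or_false] at hp
    rcases hp with rfl | rfl | rfl <;> norm_num
  have := Nat.eq_one_of_dvd_coprimes hp4 (orderOf_dvd_of_pow_eq_one hxp) (orderOf_dvd_of_pow_eq_one h4)
  rw [orderOf_coe, hx] at this
  exact hprime.one_lt.ne' this

end main

end A

/-- A second conjugate of `z` in `Q` is impossible when `w` has no fixed point. -/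
theorem nonclosed_a {C : Ctx G H q} (A : C.A) {a g : G} (hg : g * C.z * g⁻¹ = a) (ha : a ∈ C.Q)
    (hne : a ≠ C.z) : False := by
  obtain ⟨a', g', ha', hne', hπ, hS⟩ := A.exists_sw hg ha hne
  obtain ⟨k, hS', hk⟩ := A.exists_swap_norm ha' hne' hπ hS
  exact A.orbit_false ha' hne' hπ hS' hk

end Ctx

end Cfsg.Lib.LargeExtra.EightSmith
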