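import Cfsg.Agent.LargeExtra.EightSmith.Form
import Mathlib.GroupTheory.GroupAction.Basic
import Mathlib.GroupTheory.Subgroup.Simple
import Mathlib.GroupTheory.Index
import Mathlib.Data.Fintype.Perm

/-!
# Isometries of order five on four-dimensional quadratic spaces over `ZMod 2`
-/

set_option autoImplicit false
set_option linter.style.haveILetI false
set_option linter.unusedSectionVars false

open Module

namespace Cfsg.Lib.LargeExtra.EightSmith

variable {V : Type*} [AddCommGroup V] [Module (ZMod 2) V] [Finite V]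
variable {q : QuadraticForm (ZMod 2) V}

local notation "𝐁" => QuadraticMap.polarBilin q

/-- The form in the cyclic coordinates of an isometry of order five. -/
def fivePoly (a b c : ZMod 2) (x : Fin 4 → ZMod 2) : ZMod 2 :=
  a * (x 0 + x 1 + x 2 + x 3) + b * (x 0 * x 1 + x 1 * x 2 + x 2 * x 3) +
    c * (x 0 * x 2 + x 1 * x 3 + x 0 * x 3)

theorem fivePoly_zeros : ∀ a b c : ZMod 2, a = b + c → ¬(b = 0 ∧ c = 0) →
    (∃ x, x ≠ 0 ∧ fivePoly a b c x = 0) ∧
      (Finset.univ.filter fun x => x ≠ 0 ∧ fivePoly a b c x = 0).card ≤ 5 := by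
  decide

theorem q_smul (t : ZMod 2) (x : V) : q (t • x) = t * q x := by
  rcases zmod2_cases t with rfl | rfl <;> simp

variable {g : V ≃ₗ[ZMod 2] V} {U : Submodule (ZMod 2) V}
variable (hg : Iso q g) (hg5 : g ^ 5 = 1) (hU : ∀ x ∈ U, g x ∈ U) (hfix : ∀ x ∈ U, g x = x → x = 0)

include hg5 in
theorem pow_five_apply (x : V) : g (g (g (g (g x)))) = x :=
  LinearEquiv.congr_fun (show g * g * g * g * g = 1 by rw [← hg5]; simp only [pow_succ, pow_zero, one_mul]) x

include hg5 hU hfix in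
/-- A nonzero vector and its images span. -/
theorem five_span (hd : finrank (ZMod 2) U = 4) {u : V} (hu : u ∈ U) (hu0 : u ≠ 0) :
    g (g (g (g u))) = u + g u + g (g u) + g (g (g u)) ∧
    ∀ x ∈ U, ∃ c : Fin 4 → ZMod 2, x = c 0 • u + c 1 • g u + c 2 • g (g u) + c 3 • g (g (g u)) := by
  haveI : Fact (Nat.Prime 5) := ⟨Nat.prime_five⟩
  have h5 := pow_five_apply (g := g) hg5 u
  set a₁ := g u with e1
  set a₂ := g a₁ with e2
  set a₃ := g a₂ with e3
  set a₄ := g a₃ with e4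
  have m1 : a₁ ∈ U := hU u hu
  have m2 : a₂ ∈ U := hU _ m1
  have m3 : a₃ ∈ U := hU _ m2
  have m4 : a₄ ∈ U := hU _ m3
  have hsum : u + a₁ + a₂ + a₃ + a₄ = 0 := by
    refine hfix _ (add_mem (add_mem (add_mem (add_mem hu m1) m2) m3) m4) ?_
    rw [map_add, map_add, map_add, map_add, h5, ← e1, ← e2, ← e3, ← e4]
    abel
  have h4 : a₄ = u + a₁ + a₂ + a₃ := (add_eq_zero_iff'.mp hsum).symm
  refine ⟨h4, ?_⟩
  let W := Submodule.span (ZMod 2) (Set.range ![u, a₁, a₂, a₃])
  have hW : ∀ i, ![u, a₁, a₂, a₃] i ∈ W := fun i => Submodule.subset_span ⟨i, rfl⟩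
  have hWU : W ≤ U := Submodule.span_le.mpr (by rintro _ ⟨i, rfl⟩; fin_cases i <;> assumption)
  have hgW : ∀ x ∈ W, g x ∈ W := fun x hx => by
    have : W ≤ W.comap g.toLinearMap := Submodule.span_le.mpr (by
      rintro _ ⟨i, rfl⟩
      fin_cases i
      · exact hW 1
      · exact hW 2
      · exact hW 3
      · show g a₃ ∈ W
        rw [← e4, h4]
        exact add_mem (add_mem (add_mem (hW 0) (hW 1)) (hW 2)) (hW 3))
    exact this hx
  have hdiv := fpf_card hg5 hgW fun x hx => hfix x (hWU hx)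
  have hpos : 1 ≤ finrank (ZMod 2) W :=
    Submodule.one_le_finrank_iff.mpr fun e => hu0 (by simpa [e] using hW 0)
  have hle := Submodule.finrank_mono hWU
  have h4' : finrank (ZMod 2) W = 4 := by
    rw [hd] at hle
    interval_cases h : finrank (ZMod 2) W <;> simp_all
  have hWe : W = U := Submodule.eq_of_le_of_finrank_eq hWU (by rw [h4', hd])
  intro x hx
  obtain ⟨c, hc⟩ := Submodule.mem_span_range_iff_exists_fun (ZMod 2) |>.mp (hWe.symm ▸ hx : x ∈ W)
  exact ⟨c, by rw [← hc, Fin.sum_univ_four]; rfl⟩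

include hg hg5 hU hfix in
/-- The singular vectors form a single orbit. -/
theorem five_orbit (hd : finrank (ZMod 2) U = 4) (hnd : ∀ x ∈ U, (∀ y ∈ U, 𝐁 y x = 0) → x = 0) :
    ∃ S : Finset V, S.card ≤ 5 ∧ (∀ x, x ∈ S ↔ x ∈ U ∧ x ≠ 0 ∧ q x = 0) ∧
      ∃ x₀ ∈ S, ∀ y ∈ S, ∃ k : ℕ, y = (g ^ k) x₀ := by
  classical
  haveI : Fact (Nat.Prime 5) := ⟨Nat.prime_five⟩
  haveI := Fintype.ofFinite V
  obtain ⟨u, hu, hu0⟩ := Submodule.exists_mem_ne_zero_of_ne_bot (p := U) (fun e => by rw [e, finrank_bot] at hd; omega)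
  obtain ⟨h4, hspan⟩ := five_span hg5 hU hfix hd hu hu0
  set a := q u with ha
  set b := 𝐁 u (g u) with hb
  set c := 𝐁 u (g (g u)) with hc
  have h5 := pow_five_apply (g := g) hg5 u
  have hbc : 𝐁 u (g (g (g u))) = c := by
    rw [hc, ← hg.B, ← hg.B (g u), h5, B_comm]
  have hform : ∀ x : Fin 4 → ZMod 2,
      q (x 0 • u + x 1 • g u + x 2 • g (g u) + x 3 • g (g (g u))) = fivePoly a b c x := fun x => by
    simp only [q_add, q_smul, map_add, map_smul, LinearMap.add_apply, LinearMap.smul_apply, smul_eq_mul, hg _,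
      hg.B, hbc, ← ha, ← hb, ← hc, fivePoly]
    ring
  have hab : a = b + c := by
    have h := hform ![1, 1, 1, 1]
    simp only [Matrix.cons_val_zero, Matrix.cons_val_one, Matrix.cons_val, one_smul] at h
    rw [← h4, hg, hg, hg, hg, ← ha] at h
    rw [h]
    exact (by decide : ∀ a b c : ZMod 2, fivePoly a b c ![1, 1, 1, 1] = b + c) a b c
  have hbc0 : ¬(b = 0 ∧ c = 0) := by
    rintro ⟨hb0, hc0⟩
    refine hu0 (hnd u hu fun y hy => ?_)
    obtain ⟨x, rfl⟩ := hspan y hy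
    rw [B_comm]
    simp only [map_add, map_smul, smul_eq_mul, B_self, ← hb, ← hc, hbc, hb0, hc0, mul_zero, add_zero]
  obtain ⟨⟨x₀, hx₀, hx₀'⟩, hcard⟩ := fivePoly_zeros a b c hab hbc0
  set Φ : (Fin 4 → ZMod 2) → V := fun x => x 0 • u + x 1 • g u + x 2 • g (g u) + x 3 • g (g (g u)) with hΦ
  have hΦU : ∀ x, Φ x ∈ U := fun x => add_mem (add_mem (add_mem (U.smul_mem _ hu) (U.smul_mem _ (hU _ hu)))
    (U.smul_mem _ (hU _ (hU _ hu)))) (U.smul_mem _ (hU _ (hU _ (hU _ hu))))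
  let e : (Fin 4 → ZMod 2) → U := fun x => ⟨Φ x, hΦU x⟩
  have hsur : Function.Surjective e := fun y => by
    obtain ⟨x, hx⟩ := hspan y y.2
    exact ⟨x, Subtype.ext hx.symm⟩
  have hbij : Function.Bijective e := (Nat.bijective_iff_surjective_and_card e).mpr ⟨hsur, by
    rw [Module.natCard_eq_pow_finrank (K := ZMod 2) (V := U), hd, Nat.card_fun, Nat.card_fin]⟩
  refine ⟨Finset.univ.filter fun y => y ∈ U ∧ y ≠ 0 ∧ q y = 0, ?_, fun x => by simp, ?_⟩
  · refine le_trans (Finset.card_le_card (t := (Finset.univ.filter fun x => x ≠ 0 ∧ fivePoly a b c x = 0).image Φ) ?_)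
      (Finset.card_image_le.trans hcard)
    intro y hy
    obtain ⟨hyU, hy0, hqy⟩ := (Finset.mem_filter.mp hy).2
    obtain ⟨x, rfl⟩ := hspan y hyU
    refine Finset.mem_image.mpr ⟨x, Finset.mem_filter.mpr ⟨Finset.mem_univ _, ?_, (hform x).symm.trans hqy⟩, rfl⟩
    rintro rfl
    exact hy0 (by simp)
  · set y₀ := Φ x₀ with hy₀
    have hy00 : y₀ ≠ 0 := fun e0 => hx₀ (hbij.1 (Subtype.ext (e0.trans (by simp [hΦ]) : Φ x₀ = Φ 0)))
    have hy0U := hΦU x₀
    have hy0q : q y₀ = 0 := (hform x₀).trans hx₀'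
    set T := Finset.univ.filter fun y => y ∈ U ∧ y ≠ 0 ∧ q y = 0 with hT
    refine ⟨y₀, Finset.mem_filter.mpr ⟨Finset.mem_univ _, hy0U, hy00, hy0q⟩, ?_⟩
    have hpowU : ∀ k : ℕ, ∀ y ∈ U, (g ^ k) y ∈ U ∧ q ((g ^ k) y) = q y ∧ (y ≠ 0 → (g ^ k) y ≠ 0) := fun k y hy => by
      induction k with
      | zero => exact ⟨hy, rfl, id⟩
      | succ k ih =>
        rw [pow_succ']
        exact ⟨hU _ ih.1, (hg _).trans ih.2.1, fun h h' => ih.2.2 h (g.map_eq_zero_iff.mp h')⟩
    have hinj : Function.Injective fun k : Fin 5 => (g ^ (k : ℕ)) y₀ := by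
      have key : ∀ d : ℕ, ∀ y ∈ U, y ≠ 0 → (g ^ d) y = y → 5 ∣ d := fun d y hy hy0 he => by
        by_contra hd5
        obtain ⟨n, hn⟩ := exists_pow_eq_self_of_coprime (x := g) (n := d) (by
          exact Nat.Coprime.coprime_dvd_right (orderOf_dvd_of_pow_eq_one hg5)
            ((Nat.Prime.coprime_iff_not_dvd Nat.prime_five).mpr hd5).symm)
        refine hy0 (hfix y hy ?_)
        have h' : ∀ m : ℕ, ((g ^ d) ^ m) y = y := fun m => by
          induction m with
          | zero => rfl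
          | succ m ih => rw [pow_succ']; show (g ^ d) (((g ^ d) ^ m) y) = y; rw [ih, he]
        have := h' n
        rwa [hn] at this
      have main : ∀ i j : ℕ, i ≤ j → j < 5 → (g ^ i) y₀ = (g ^ j) y₀ → i = j := fun i j hij hj he => by
        have := key (j - i) ((g ^ i) y₀) (hpowU i y₀ hy0U).1 ((hpowU i y₀ hy0U).2.2 hy00) (by
          show (g ^ (j - i) * g ^ i) y₀ = _
          rw [← pow_add, Nat.sub_add_cancel hij]; exact he.symm)
        omega
      intro i j he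
      rcases le_total (i : ℕ) j with h | h
      · exact Fin.ext (main _ _ h j.2 he)
      · exact Fin.ext (main _ _ h i.2 he.symm).symm
    have hle : T.card ≤ 5 := by
      refine le_trans (Finset.card_le_card
        (t := (Finset.univ.filter fun x => x ≠ 0 ∧ fivePoly a b c x = 0).image Φ) ?_)
        (Finset.card_image_le.trans hcard)
      intro y hy
      obtain ⟨hyU, hy0, hqy⟩ := (Finset.mem_filter.mp hy).2
      obtain ⟨x, rfl⟩ := hspan y hyU
      refine Finset.mem_image.mpr ⟨x, Finset.mem_filter.mpr ⟨Finset.mem_univ _, ?_, (hform x).symm.trans hqy⟩, rfl⟩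
      rintro rfl
      exact hy0 (by simp)
    have himg : Finset.univ.image (fun k : Fin 5 => (g ^ (k : ℕ)) y₀) = T :=
      Finset.eq_of_subset_of_card_le (fun y hy => by
        obtain ⟨k, -, rfl⟩ := Finset.mem_image.mp hy
        obtain ⟨h1, h2, h3⟩ := hpowU k y₀ hy0U
        simp [hT, h1, h3 hy00, h2, hy0q]) (by rw [Finset.card_image_of_injective _ hinj]; simpa using hle)
    intro y hy
    obtain ⟨k, -, rfl⟩ := Finset.mem_image.mp (himg.symm ▸ hy)
    exact ⟨k, rfl⟩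

include hg hg5 hU hfix in
/-- A commuting isometry of order three has a fixed point. -/
theorem five_three (hd : finrank (ZMod 2) U = 4) (hnd : ∀ x ∈ U, (∀ y ∈ U, 𝐁 y x = 0) → x = 0)
    {w : V ≃ₗ[ZMod 2] V} (hw : Iso q w) (hw3 : w ^ 3 = 1) (hwU : ∀ x ∈ U, w x ∈ U) (hc : Commute w g) :
    ∃ x ∈ U, x ≠ 0 ∧ w x = x := by
  classical
  obtain ⟨S, -, hS, x, hx, horb⟩ := five_orbit hg hg5 hU hfix hd hnd
  obtain ⟨hxU, hx0, hxq⟩ := (hS x).mp hx
  refine ⟨x, hxU, hx0, ?_⟩
  obtain ⟨k, hk⟩ := horb (w x) ((hS _).mpr ⟨hwU x hxU, fun e => hx0 (w.map_eq_zero_iff.mp e), (hw x).trans hxq⟩)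
  have hn : ∀ n : ℕ, (w ^ n) x = (g ^ (k * n)) x := fun n => by
    induction n with
    | zero => rfl
    | succ n ih =>
      rw [pow_succ', mul_add, mul_one]
      show w ((w ^ n) x) = _
      rw [ih]
      show (w * g ^ (k * n)) x = _
      rw [(hc.pow_right _).eq, pow_add]
      show (g ^ (k * n)) (w x) = (g ^ (k * n)) ((g ^ k) x)
      rw [hk]
  have h3 := hn 3
  rw [hw3] at h3
  have h6 : (g ^ (k * 3)) ((g ^ (k * 3)) x) = x := by rw [← h3]; exact h3.symm
  rw [hk]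
  calc (g ^ k) x = (g ^ (k * 3) * g ^ (k * 3)) x := by
        rw [← pow_add, show k * 3 + k * 3 = 5 * k + k by omega, pow_add, pow_mul, hg5, one_pow, one_mul]
    _ = x := h6

include hg hg5 hU hfix in
/-- No large simple group of isometries containing the element. -/
theorem five_simple (hd : finrank (ZMod 2) U = 4) (hnd : ∀ x ∈ U, (∀ y ∈ U, 𝐁 y x = 0) → x = 0)
    {K : Type*} [Group K] [Finite K] [IsSimpleGroup K] (hK : 120 < Nat.card K)
    (φ : K →* V ≃ₗ[ZMod 2] V) (hφ : ∀ k, Iso q (φ k)) (hφU : ∀ k, ∀ x ∈ U, φ k x ∈ U) {k₀ : K}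
    (hk₀ : φ k₀ = g) : False := by
  classical
  obtain ⟨S, hcard, hS, x, hx, -⟩ := five_orbit hg hg5 hU hfix hd hnd
  obtain ⟨hxU, hx0, hxq⟩ := (hS x).mp hx
  have hmem : ∀ k, ∀ y ∈ S, φ k y ∈ S := fun k y hy => by
    obtain ⟨h1, h2, h3⟩ := (hS y).mp hy
    exact (hS _).mpr ⟨hφU k y h1, fun e => h2 ((φ k).map_eq_zero_iff.mp e), (hφ k y).trans h3⟩
  let act : K → S → S := fun k y => ⟨φ k y, hmem k y y.2⟩
  have hinj : ∀ k, Function.Injective (act k) := fun k a b e =>
    Subtype.ext ((φ k).injective (congrArg Subtype.val e))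
  let π : K →* Equiv.Perm S := MonoidHom.mk'
    (fun k => Equiv.ofBijective (act k) (Finite.injective_iff_bijective.mp (hinj k)))
    (fun k l => Equiv.ext fun y => Subtype.ext (by
      show φ (k * l) (y : V) = φ k (φ l (y : V))
      rw [map_mul]; rfl))
  have hker : π.ker = ⊤ := by
    refine ((inferInstance : π.ker.Normal).eq_bot_or_eq_top).resolve_left fun e => ?_
    have h1 := Nat.card_le_card_of_injective π ((MonoidHom.ker_eq_bot_iff π).mp e)
    have h2 : Nat.card (Equiv.Perm S) ≤ 120 := by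
      rw [Nat.card_eq_fintype_card, Fintype.card_perm, Fintype.card_coe]
      exact (Nat.factorial_le hcard).trans (by norm_num [Nat.factorial])
    omega
  have h0 : π k₀ = 1 := MonoidHom.mem_ker.mp (hker ▸ Subgroup.mem_top k₀)
  have h1 : φ k₀ x = x := congrArg Subtype.val (Equiv.congr_fun h0 ⟨x, hx⟩)
  exact hx0 (hfix x hxU (hk₀ ▸ h1))

end Cfsg.Lib.LargeExtra.EightSmith
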