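import Mathlib.LinearAlgebra.QuadraticForm.Basic
import Mathlib.LinearAlgebra.BilinearForm.Orthogonal
import Mathlib.FieldTheory.Finite.Basic
import Mathlib.GroupTheory.OrderOfElement
import Mathlib.LinearAlgebra.FiniteDimensional.Basic
import Mathlib.GroupTheory.GroupAction.Basic
import Mathlib.GroupTheory.PGroup

/-!
# Quadratic forms over the field with two elements

Elementary facts about finite quadratic spaces over `ZMod 2` used for groups with an extraspecial
subgroup of order `2 ^ 9`.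
-/

set_option autoImplicit false
set_option linter.style.haveILetI false
set_option linter.unusedSectionVars false

open Module

namespace Cfsg.Lib.LargeExtra.EightSmith

variable {V : Type*} [AddCommGroup V] [Module (ZMod 2) V] [Finite V]

theorem add_self' (v : V) : v + v = 0 := by
  rw [← two_smul (ZMod 2) v, show (2 : ZMod 2) = 0 from rfl, zero_smul]

theorem neg_eq' (v : V) : -v = v := neg_eq_of_add_eq_zero_left (add_self' v)

theorem add_add_cancel' (u v : V) : u + (u + v) = v := by rw [← add_assoc, add_self', zero_add]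

theorem zmod2_cases (a : ZMod 2) : a = 0 ∨ a = 1 := by revert a; decide

theorem eq_of_iff {a b : ZMod 2} (h : a = 0 ↔ b = 0) : a = b := by revert h; revert a b; decide

theorem add_eq_zero_iff' {u v : V} : u + v = 0 ↔ u = v := by
  rw [add_eq_zero_iff_eq_neg, neg_eq']

/-- A nondegenerate quadratic form over `ZMod 2`. -/
structure QS (q : QuadraticForm (ZMod 2) V) : Prop where
  nd : q.polarBilin.Nondegenerate

variable {q : QuadraticForm (ZMod 2) V}

local notation "𝐁" => QuadraticMap.polarBilin q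

theorem q_add (x y : V) : q (x + y) = q x + q y + 𝐁 x y := by
  rw [QuadraticMap.polarBilin_apply_apply]; exact QuadraticMap.map_add (⇑q) x y

theorem B_comm (x y : V) : 𝐁 x y = 𝐁 y x := QuadraticMap.polar_comm (⇑q) x y

theorem B_self (x : V) : 𝐁 x x = 0 := by
  have h := q_add (q := q) x x
  have e : ∀ a b : ZMod 2, 0 = a + a + b → b = 0 := by decide
  rw [add_self', QuadraticMap.map_zero] at h
  exact e _ _ h

theorem B_refl : LinearMap.BilinForm.IsRefl (𝐁 : LinearMap.BilinForm (ZMod 2) V) :=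
  fun x y h => by rw [B_comm]; exact h

namespace QS

variable (S : QS q)

/-- The orthogonal subspace. -/
noncomputable def perp (_S : QS q) (W : Submodule (ZMod 2) V) : Submodule (ZMod 2) V :=
  LinearMap.BilinForm.orthogonal (𝐁 : LinearMap.BilinForm (ZMod 2) V) W

include S

theorem mem_perp {W : Submodule (ZMod 2) V} {x : V} : x ∈ S.perp W ↔ ∀ w ∈ W, 𝐁 w x = 0 :=
  LinearMap.BilinForm.mem_orthogonal_iff

theorem finrank_perp (W : Submodule (ZMod 2) V) :
    finrank (ZMod 2) W + finrank (ZMod 2) (S.perp W) = finrank (ZMod 2) V := by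
  have h := LinearMap.BilinForm.finrank_orthogonal (B := (𝐁 : LinearMap.BilinForm (ZMod 2) V)) S.nd W
  have h2 := Submodule.finrank_le W
  rw [perp, h]; omega

theorem perp_perp (W : Submodule (ZMod 2) V) : S.perp (S.perp W) = W :=
  LinearMap.BilinForm.orthogonal_orthogonal S.nd B_refl W

theorem perp_anti {W W' : Submodule (ZMod 2) V} (h : W ≤ W') : S.perp W' ≤ S.perp W :=
  LinearMap.BilinForm.orthogonal_le h

theorem eq_zero {x : V} (h : ∀ y, 𝐁 y x = 0) : x = 0 := S.nd.2 x h

theorem isotropic_le {U : Submodule (ZMod 2) V} (h : ∀ x ∈ U, ∀ y ∈ U, 𝐁 x y = 0) :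
    2 * finrank (ZMod 2) U ≤ finrank (ZMod 2) V := by
  have h1 : U ≤ S.perp U := fun x hx => S.mem_perp.mpr fun w hw => h w hw x hx
  have h2 := Submodule.finrank_mono h1
  have h3 := S.finrank_perp U
  omega

omit S in
theorem B_of_ts {U : Submodule (ZMod 2) V} (h : ∀ x ∈ U, q x = 0) : ∀ x ∈ U, ∀ y ∈ U, 𝐁 x y = 0 := by
  intro x hx y hy
  have h' := q_add (q := q) x y
  rw [h _ (add_mem hx hy), h x hx, h y hy, zero_add, zero_add] at h'
  exact h'.symm

theorem ts_le {U : Submodule (ZMod 2) V} (h : ∀ x ∈ U, q x = 0) :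
    2 * finrank (ZMod 2) U ≤ finrank (ZMod 2) V := S.isotropic_le (B_of_ts h)

end QS

/-- An isometry. -/
def Iso (q : QuadraticForm (ZMod 2) V) (g : V ≃ₗ[ZMod 2] V) : Prop := ∀ x, q (g x) = q x

theorem Iso.B {g : V ≃ₗ[ZMod 2] V} (h : Iso q g) (x y : V) : 𝐁 (g x) (g y) = 𝐁 x y := by
  have h1 := q_add (q := q) (g x) (g y)
  have h2 := q_add (q := q) x y
  rw [← map_add, h, h, h, h2] at h1
  exact (add_left_cancel h1).symm

theorem Iso.one : Iso q 1 := fun _ => rfl

theorem Iso.mul {g k : V ≃ₗ[ZMod 2] V} (hg : Iso q g) (hk : Iso q k) : Iso q (g * k) := fun x =>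
  (hg (k x)).trans (hk x)

theorem Iso.inv {g : V ≃ₗ[ZMod 2] V} (hg : Iso q g) : Iso q g⁻¹ := fun x => by
  have h := hg (g⁻¹ x)
  rw [show g (g⁻¹ x) = x from g.apply_symm_apply x] at h
  exact h.symm

/-- The map `x ↦ g x + x`. -/
def shift (g : V ≃ₗ[ZMod 2] V) : V →ₗ[ZMod 2] V := g.toLinearMap + LinearMap.id

theorem shift_apply (g : V ≃ₗ[ZMod 2] V) (x : V) : shift g x = g x + x := rfl

/-- The fixed subspace. -/
def fixs (g : V ≃ₗ[ZMod 2] V) : Submodule (ZMod 2) V := LinearMap.ker (shift g)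

/-- The commutator subspace. -/
def img (g : V ≃ₗ[ZMod 2] V) : Submodule (ZMod 2) V := LinearMap.range (shift g)

theorem mem_fixs {g : V ≃ₗ[ZMod 2] V} {x : V} : x ∈ fixs g ↔ g x = x := by
  rw [fixs, LinearMap.mem_ker, shift_apply, add_eq_zero_iff']

theorem mem_img {g : V ≃ₗ[ZMod 2] V} {x : V} : x ∈ img g ↔ ∃ v, g v + v = x := LinearMap.mem_range

theorem shift_mem (g : V ≃ₗ[ZMod 2] V) (v : V) : g v + v ∈ img g := ⟨v, rfl⟩

theorem finrank_fixs_img (g : V ≃ₗ[ZMod 2] V) :
    finrank (ZMod 2) (img g) + finrank (ZMod 2) (fixs g) = finrank (ZMod 2) V :=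
  LinearMap.finrank_range_add_finrank_ker (shift g)

theorem eq_one_of_fixs {g : V ≃ₗ[ZMod 2] V} (h : fixs g = ⊤) : g = 1 :=
  LinearEquiv.ext fun x => mem_fixs.mp (h ▸ Submodule.mem_top)

theorem QS.perp_img (S : QS q) {g : V ≃ₗ[ZMod 2] V} (hg : Iso q g) : S.perp (img g) = fixs g := by
  refine le_antisymm (fun x hx => mem_fixs.mpr ?_) fun x hx => S.mem_perp.mpr ?_
  · refine (add_eq_zero_iff'.mp (S.eq_zero fun y => ?_))
    have h1 := S.mem_perp.mp hx _ (shift_mem g (g⁻¹ y))
    rw [show g (g⁻¹ y) = y from g.apply_symm_apply y, map_add, LinearMap.add_apply] at h1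
    have h2 := hg.B (g⁻¹ y) x
    rw [show g (g⁻¹ y) = y from g.apply_symm_apply y] at h2
    rw [map_add, h2, add_comm]; exact h1
  · rintro _ ⟨v, rfl⟩
    rw [shift_apply, map_add, LinearMap.add_apply]
    conv_lhs => arg 1; rw [← mem_fixs.mp hx]
    rw [hg.B]
    exact CharTwo.add_self_eq_zero _

section involution

variable {g : V ≃ₗ[ZMod 2] V} (h2 : g * g = 1)
include h2

theorem inv_apply (x : V) : g (g x) = x := LinearEquiv.congr_fun h2 x

theorem img_le_fixs : img g ≤ fixs g := by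
  rintro _ ⟨v, rfl⟩
  rw [mem_fixs, shift_apply, map_add, inv_apply h2, add_comm]

theorem q_shift (hg : Iso q g) (v : V) : q (g v + v) = 𝐁 v (g v + v) := by
  rw [q_add, hg, CharTwo.add_self_eq_zero, zero_add, map_add, B_self, add_zero, B_comm]

theorem two_finrank_img_le : 2 * finrank (ZMod 2) (img g) ≤ finrank (ZMod 2) V := by
  have h := Submodule.finrank_mono (img_le_fixs h2)
  have := finrank_fixs_img g
  omega

theorem img_isotropic (S : QS q) (hg : Iso q g) : ∀ x ∈ img g, ∀ y ∈ img g, 𝐁 x y = 0 := by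
  intro x hx y hy
  exact S.mem_perp.mp ((S.perp_img hg).symm ▸ img_le_fixs h2 hy : y ∈ S.perp (img g)) x hx

end involution

/-- A map of odd prime order without fixed points on an invariant subspace. -/
theorem fpf_card {p : ℕ} [Fact p.Prime] {g : V ≃ₗ[ZMod 2] V} (hg : g ^ p = 1) {U : Submodule (ZMod 2) V}
    (hU : ∀ x ∈ U, g x ∈ U) (hfix : ∀ x ∈ U, g x = x → x = 0) : p ∣ 2 ^ finrank (ZMod 2) U - 1 := by
  classical
  have := Fintype.ofFinite U
  let φ : Equiv.Perm U :=
    Equiv.ofBijective (fun x => (⟨g x, hU x x.2⟩ : U))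
      (Finite.injective_iff_bijective.mp fun a b h => Subtype.ext (g.injective (congrArg Subtype.val h)))
  have hφ : ∀ (n : ℕ) (x : U), ((φ ^ n) x : V) = (g ^ n) x := by
    intro n
    induction n with
    | zero => intro x; rfl
    | succ n ih =>
      intro x
      rw [pow_succ', pow_succ', Equiv.Perm.mul_apply]
      show g ((φ ^ n) x : V) = _
      rw [ih]; rfl
  have hp : φ ^ p = 1 := Equiv.ext fun x => Subtype.ext (by rw [hφ, hg]; rfl)
  have hP : IsPGroup p (Subgroup.zpowers φ) := by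
    rintro ⟨y, hy⟩
    obtain ⟨k, rfl⟩ := Subgroup.mem_zpowers_iff.mp hy
    refine ⟨1, Subtype.ext ?_⟩
    show (φ ^ k) ^ p ^ 1 = 1
    rw [pow_one, ← zpow_natCast, ← zpow_mul, mul_comm, zpow_mul, zpow_natCast, hp, one_zpow]
  have hfp : MulAction.fixedPoints (Subgroup.zpowers φ) U = {0} := by
    ext x
    simp only [Set.mem_singleton_iff, MulAction.mem_fixedPoints]
    refine ⟨fun h => Subtype.ext (hfix x x.2 (congrArg Subtype.val (h ⟨φ, Subgroup.mem_zpowers φ⟩))), ?_⟩
    rintro rfl ⟨y, hy⟩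
    obtain ⟨k, rfl⟩ := Subgroup.mem_zpowers_iff.mp hy
    show (φ ^ k) (0 : U) = 0
    exact Equiv.Perm.zpow_apply_eq_self_of_apply_eq_self (Subtype.ext (map_zero g) : φ 0 = 0) k
  have hm := hP.card_modEq_card_fixedPoints U
  rw [hfp, Nat.card_eq_fintype_card, Nat.card_unique, ← Nat.card_eq_fintype_card,
    Module.natCard_eq_pow_finrank (K := ZMod 2), Nat.card_zmod] at hm
  exact (Nat.modEq_iff_dvd' Nat.one_le_two_pow).mp hm.symm

theorem two_dvd_of_three {n : ℕ} (h : 3 ∣ 2 ^ n - 1) : Even n := by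
  induction n using Nat.twoStepInduction with
  | zero => exact ⟨0, rfl⟩
  | one => norm_num at h
  | more n ih _ =>
    refine (ih ?_).add (by decide : Even 2)
    have h1 := Nat.one_le_two_pow (n := n)
    rw [pow_succ, pow_succ] at h
    omega

/-- At most two isometries fix a large subspace with totally singular orthogonal pointwise. -/
theorem QS.fix_large (S : QS q) {M : Submodule (ZMod 2) V}
    (hM : finrank (ZMod 2) V ≤ finrank (ZMod 2) M + 2) (hts : ∀ x ∈ S.perp M, q x = 0)
    {T : Finset (V ≃ₗ[ZMod 2] V)} (hT : ∀ g ∈ T, Iso q g ∧ ∀ x ∈ M, g x = x) : T.card ≤ 2 := by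
  classical
  -- at most one when a hyperplane is fixed
  have hyp : ∀ M' : Submodule (ZMod 2) V, M ≤ M' → finrank (ZMod 2) V ≤ finrank (ZMod 2) M' + 1 →
      ∀ g : V ≃ₗ[ZMod 2] V, Iso q g → (∀ x ∈ M', g x = x) → g = 1 := by
    intro M' hle hd g hg hfix
    refine eq_one_of_fixs (eq_top_iff.mpr fun v _ => ?_)
    by_contra hv
    have hne : M' ≠ ⊤ := fun e => hv (mem_fixs.mpr (hfix v (e ▸ Submodule.mem_top)))
    have hd' : finrank (ZMod 2) (S.perp M') ≤ 1 := by have := S.finrank_perp M'; omega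
    set d := g v + v with hd0
    have hd1 : d ≠ 0 := fun e => hv (mem_fixs.mpr (add_eq_zero_iff'.mp e))
    have hdp : d ∈ S.perp M' := S.mem_perp.mpr fun m hm => by
      have h1 := hg.B m v
      rw [hfix m hm] at h1
      rw [hd0, map_add, h1]; exact CharTwo.add_self_eq_zero _
    have hq := hts d (S.perp_anti hle hdp)
    have h1 := hg v
    rw [show g v = d + v by rw [hd0, add_assoc, add_self', add_zero], q_add, hq, zero_add] at h1
    have hB : 𝐁 d v = 0 := by
      have e : ∀ a b : ZMod 2, a + b = a → b = 0 := by decide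
      exact e _ _ h1
    have hvM : v ∈ M' := by
      rw [← S.perp_perp M', S.mem_perp]
      intro w hw
      obtain ⟨c, hc⟩ : ∃ c : ZMod 2, c • (⟨d, hdp⟩ : S.perp M') = ⟨w, hw⟩ := by
        have hf : finrank (ZMod 2) (S.perp M') = 1 := le_antisymm hd'
          (Submodule.one_le_finrank_iff.mpr fun e => hd1 (by simpa [e] using hdp))
        exact (finrank_eq_one_iff_of_nonzero' _ (fun e => hd1 (congrArg Subtype.val e))).mp hf ⟨w, hw⟩
      rw [← show c • d = w from congrArg Subtype.val hc, map_smul, LinearMap.smul_apply, hB, smul_zero]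
    exact hv (mem_fixs.mpr (hfix v hvM))
  by_cases htop : M = ⊤
  · refine le_trans (Finset.card_le_one.mpr fun a ha b hb => ?_) one_le_two
    rw [hyp M le_rfl (by rw [htop, finrank_top]; omega) a (hT a ha).1 (hT a ha).2,
      hyp M le_rfl (by rw [htop, finrank_top]; omega) b (hT b hb).1 (hT b hb).2]
  obtain ⟨v, hv⟩ : ∃ v, v ∉ M := by
    by_contra h; push Not at h; exact htop (eq_top_iff.mpr fun v _ => h v)
  set M' := M ⊔ Submodule.span (ZMod 2) {v} with hM'
  have hlt : finrank (ZMod 2) M < finrank (ZMod 2) M' := Submodule.finrank_lt_finrank_of_lt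
    (lt_of_le_of_ne le_sup_left fun e => hv (e ▸ Submodule.mem_sup_right (Submodule.mem_span_singleton_self v)))
  have hfin : finrank (ZMod 2) (S.perp M') ≤ 1 := by have := S.finrank_perp M'; omega
  have hmem : ∀ g ∈ T, g v + v ∈ S.perp M' := by
    intro g hg
    obtain ⟨hgi, hgf⟩ := hT g hg
    have hM1 : ∀ m ∈ M, 𝐁 m (g v + v) = 0 := fun m hm => by
      have h1 := hgi.B m v
      rw [hgf m hm] at h1
      rw [map_add, h1]; exact CharTwo.add_self_eq_zero _
    refine S.mem_perp.mpr fun w hw => ?_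
    obtain ⟨m, hm, u, hu, rfl⟩ := Submodule.mem_sup.mp hw
    obtain ⟨c, rfl⟩ := Submodule.mem_span_singleton.mp hu
    have hd := hts _ (S.mem_perp.mpr hM1)
    have h2 := hgi v
    rw [show g v = (g v + v) + v by rw [add_assoc, add_self', add_zero], q_add, hd, zero_add] at h2
    have h3 : 𝐁 (g v + v) v = 0 := by
      have e : ∀ a b : ZMod 2, a + b = a → b = 0 := by decide
      exact e _ _ h2
    rw [map_add (QuadraticMap.polarBilin q) m (c • v), LinearMap.add_apply, hM1 m hm, map_smul, LinearMap.smul_apply, B_comm, h3, smul_zero,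
      add_zero]
  let F : {g // g ∈ T} → S.perp M' := fun g => ⟨g.1 v + v, hmem g.1 g.2⟩
  have hinj : Function.Injective F := by
    rintro ⟨a, ha⟩ ⟨b, hb⟩ e
    have e' : a v = b v := add_right_cancel (congrArg Subtype.val e)
    obtain ⟨hai, haf⟩ := hT a ha
    obtain ⟨hbi, hbf⟩ := hT b hb
    have := hyp M' le_sup_left (by omega) (b⁻¹ * a) (hbi.inv.mul hai) fun x hx => ?_
    · exact Subtype.ext (inv_mul_eq_one.mp this).symm
    · obtain ⟨m, hm, u, hu, rfl⟩ := Submodule.mem_sup.mp hx
      obtain ⟨c, rfl⟩ := Submodule.mem_span_singleton.mp hu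
      show b⁻¹ (a (m + c • v)) = m + c • v
      rw [map_add, map_smul, haf m hm, e']
      conv_lhs => arg 2; rw [← hbf m hm, ← map_smul, ← map_add]
      exact b.symm_apply_apply _
  have h1 : Nat.card {g // g ∈ T} ≤ Nat.card (S.perp M') := Nat.card_le_card_of_injective F hinj
  rw [Module.natCard_eq_pow_finrank (K := ZMod 2) (V := S.perp M'), Nat.card_zmod,
    Nat.card_eq_fintype_card, Fintype.card_coe] at h1
  exact h1.trans (le_trans (Nat.pow_le_pow_right (by norm_num) hfin) (by norm_num))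

end Cfsg.Lib.LargeExtra.EightSmith
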