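import Cfsg.Agent.LargeExtra.EightSmith.ClosedMain
import Cfsg.Agent.LargeExtra.EightSmith.Final

/-!
# Centralizers `2 ^ (1 + 8)` by a group between `C₃ × A₆` and `S₃ × S₆` do not occur in simple groups
-/

set_option autoImplicit false
set_option linter.style.haveILetI false
set_option linter.unusedSectionVars false

open Subgroup

namespace Cfsg.Lib.LargeExtra.EightSmith

universe u v w

theorem Ctx.impossible {G : Type u} {H : Type v} {V : Type w} [Group G] [Finite G] [Group H] [AddCommGroup V]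
    [Module (ZMod 2) V] [Finite V] {q : QuadraticForm (ZMod 2) V} (C : Ctx G H q) (hG : IsSimpleGroup G) : False := by
  rcases C.dichotomy with ⟨h6, h2, han⟩ | ⟨C', -, ⟨A⟩⟩
  · by_cases hcl : ∀ k : G, k * C.z * k⁻¹ ∈ C.Q → k * C.z * k⁻¹ = C.z
    · exact C.closed_c hcl hG h2 han
    · push Not at hcl
      obtain ⟨g, hgQ, hne⟩ := hcl
      exact C.nonclosed_c rfl hgQ hne h6 h2 han
  · by_cases hcl : ∀ k : G, k * C'.z * k⁻¹ ∈ C'.Q → k * C'.z * k⁻¹ = C'.z
    · exact C'.closed_a hcl hG A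
    · push Not at hcl
      obtain ⟨g, hgQ, hne⟩ := hcl
      exact Ctx.nonclosed_a A rfl hgQ hne

theorem not_simple {G : Type u} [Group G] [Finite G] {z : G} (hz : orderOf z = 2)
    {Q₀ : Subgroup ↥(centralizer ({z} : Set G))} [Q₀.Normal] (hQ : Cfsg.IsExtraspecial 2 ↥Q₀)
    (hcard : Nat.card Q₀ = 2 ^ 9)
    (hC : centralizer (Q₀ : Set ↥(centralizer ({z} : Set G))) ≤ Q₀)
    (T : HS (↥(centralizer ({z} : Set G)) ⧸ Q₀)) (hG : IsSimpleGroup G) : False := by
  obtain ⟨z₁, ⟨⟨Cd⟩⟩ | ⟨-, ⟨Cd⟩⟩⟩ := OutExtra.exists_coord hQ (n := 4) hcard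
  · obtain ⟨C⟩ := exists_ctx hz hQ hcard hC T Cd
    exact C.impossible hG
  · obtain ⟨C⟩ := exists_ctx hz hQ hcard hC T Cd
    exact C.impossible hG

end Cfsg.Lib.LargeExtra.EightSmith
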