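import Cfsg.Agent.LargeExtra.EightSmith.SixSym

/-!
# Groups between `C₃ × A₆` and `S₃ × S₆`
-/

set_option autoImplicit false
set_option linter.style.haveILetI false
set_option linter.unusedSectionVars false
set_option maxRecDepth 40000

open Equiv

namespace Cfsg.Lib.LargeExtra.EightSmith

variable {H : Type*} [Group H]

/-- An embedding in `S₃ × S₆` whose image contains `C₃ × A₆`. -/
structure HS (H : Type*) [Group H] where
  f : H →* TS
  inj : Function.Injective f
  w_mem : ∃ w, f w = (cyc3, 1)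
  alt_mem : ∀ σ : Perm (Fin 6), Perm.sign σ = 1 → ∃ h, f h = (1, σ)

theorem cyc3_pow : cyc3 ^ 3 = 1 ∧ cyc3 ≠ 1 := by decide +kernel

theorem cyc3_conj : ∀ a : Perm (Fin 3), a * cyc3 * a⁻¹ = cyc3 ∨ a * cyc3 * a⁻¹ = cyc3⁻¹ := by decide +kernel

theorem cyc3_cent : ∀ a : Perm (Fin 3), a * a = 1 → a * cyc3 = cyc3 * a → a = 1 := by decide +kernel

theorem cyc3_inv_conj : ∀ a : Perm (Fin 3), a * cyc3 * a⁻¹ = cyc3⁻¹ → a * cyc3 ≠ cyc3 * a := by decide +kernel

namespace HS

variable (T : HS H)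

/-- The central element of order three of the subgroup `C₃ × A₆`. -/
noncomputable def w : H := T.w_mem.choose

theorem f_w : T.f T.w = (cyc3, 1) := T.w_mem.choose_spec

theorem w_pow : T.w ^ 3 = 1 := T.inj (by
  rw [map_pow, T.f_w, map_one, Prod.pow_mk, cyc3_pow.1, one_pow]; rfl)

theorem w_ne : T.w ≠ 1 := fun e => cyc3_pow.2 (by
  have := congrArg (fun h => (T.f h).1) e
  simpa [T.f_w] using this)

theorem conj_w (h : H) : h * T.w * h⁻¹ = T.w ∨ h * T.w * h⁻¹ = T.w⁻¹ := by
  rcases cyc3_conj (T.f h).1 with e | e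
  · left; refine T.inj (Prod.ext ?_ ?_) <;> simp [T.f_w, e]
  · right; refine T.inj (Prod.ext ?_ ?_) <;> simp [T.f_w, e]

theorem commute_w_iff (h : H) : Commute h T.w ↔ (T.f h).1 * cyc3 = cyc3 * (T.f h).1 := by
  refine ⟨fun e => ?_, fun e => T.inj (Prod.ext ?_ ?_)⟩
  · have := congrArg (fun x => (T.f x).1) e.eq
    simpa [T.f_w] using this
  · simpa [T.f_w] using e
  · simp [T.f_w]

theorem inverts_of_not_commute {h : H} (hc : ¬ Commute h T.w) : h * T.w * h⁻¹ = T.w⁻¹ :=
  (T.conj_w h).resolve_left fun e => hc (mul_inv_eq_iff_eq_mul.mp e)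

theorem not_commute_mul {a b : H} (ha : ¬ Commute a T.w) (hb : ¬ Commute b T.w) : Commute (a * b) T.w := by
  show a * b * T.w = T.w * (a * b)
  refine mul_inv_eq_iff_eq_mul.mp ?_
  rw [show a * b * T.w * (a * b)⁻¹ = a * (b * T.w * b⁻¹) * a⁻¹ by group, T.inverts_of_not_commute hb,
    show a * T.w⁻¹ * a⁻¹ = (a * T.w * a⁻¹)⁻¹ by group, T.inverts_of_not_commute ha, inv_inv]

theorem fst_eq_one {h : H} (h2 : h * h = 1) (hc : Commute h T.w) : (T.f h).1 = 1 :=
  cyc3_cent _ (by have := congrArg (fun x => (T.f x).1) h2; simpa using this) ((T.commute_w_iff h).mp hc)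

/-- The embedded alternating group. -/
noncomputable def alt : alternatingGroup (Fin 6) →* H :=
  MonoidHom.mk' (fun σ => (T.alt_mem σ σ.2).choose) fun a b => T.inj (by
    rw [map_mul, (T.alt_mem a a.2).choose_spec, (T.alt_mem b b.2).choose_spec, (T.alt_mem _ (a * b).2).choose_spec]
    simp)

theorem f_alt (σ : alternatingGroup (Fin 6)) : T.f (T.alt σ) = (1, (σ : Perm (Fin 6))) :=
  (T.alt_mem σ σ.2).choose_spec

theorem alt_injective : Function.Injective T.alt := fun a b e => Subtype.ext (by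
  have := congrArg (fun x => (T.f x).2) e
  simpa [f_alt] using this)

theorem commute_alt (σ : alternatingGroup (Fin 6)) : Commute (T.alt σ) T.w :=
  (T.commute_w_iff _).mpr (by rw [T.f_alt]; simp)

theorem conj_alt (h : H) (σ π : alternatingGroup (Fin 6))
    (hπ : (π : Perm (Fin 6)) = (T.f h).2 * σ * (T.f h).2⁻¹) : h * T.alt σ * h⁻¹ = T.alt π :=
  T.inj (Prod.ext (by simp [f_alt]) (by simp [f_alt, hπ]))

theorem card_elementary [Finite H] (B : Subgroup H) (h2 : ∀ b ∈ B, b * b = 1) (hc : ∀ b ∈ B, Commute b T.w) :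
    Nat.card B ≤ 8 := by
  have h := EightSmith.card_elementary (B.map T.f)
    (by rintro _ ⟨b, hb, rfl⟩; rw [← map_mul, h2 b hb, map_one])
    (by rintro _ ⟨b, hb, rfl⟩; exact T.fst_eq_one (h2 b hb) (hc b hb))
  rwa [Subgroup.card_map_of_injective T.inj] at h

include T in
theorem center_index [Finite H] (B : Subgroup H) (hB : IsPGroup 2 B) :
    ∃ Z ≤ B, (∀ x ∈ Z, ∀ b ∈ B, Commute x b) ∧ Nat.card B ≤ 4 * Nat.card Z := by
  obtain ⟨Z, hZ, hc, hn⟩ := central_index (B.map T.f) (hB.map T.f)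
  refine ⟨B ⊓ Z.comap T.f, inf_le_left, fun x hx b hb => T.inj ?_, ?_⟩
  · rw [map_mul, map_mul]; exact (hc _ hx.2 _ (Subgroup.mem_map_of_mem _ hb)).eq
  · have he : (B ⊓ Z.comap T.f).map T.f = Z := by
      refine le_antisymm ?_ fun x hx => ?_
      · rintro _ ⟨b, hb, rfl⟩; exact hb.2
      · obtain ⟨b, hb, rfl⟩ := hZ hx
        exact ⟨b, ⟨hb, hx⟩, rfl⟩
    rwa [← he, Subgroup.card_map_of_injective T.inj, Subgroup.card_map_of_injective T.inj] at hn

/-- Composition with the exceptional automorphism of the second factor. -/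
noncomputable def twist : HS H where
  f := ((MonoidHom.id (Perm (Fin 3))).prodMap theta).comp T.f
  inj := (Function.Injective.prodMap Function.injective_id theta_injective).comp T.inj
  w_mem := ⟨T.w, by
    show ((T.f T.w).1, theta (T.f T.w).2) = _
    rw [T.f_w, map_one]⟩
  alt_mem σ hσ := by
    obtain ⟨π, hπ, he⟩ := exists_theta hσ
    obtain ⟨h, hh⟩ := T.alt_mem π hπ
    refine ⟨h, ?_⟩
    show ((T.f h).1, theta (T.f h).2) = _
    rw [hh, he]

theorem twist_w : T.twist.w = T.w := T.twist.inj (by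
  rw [T.twist.f_w]
  show _ = ((T.f T.w).1, theta (T.f T.w).2)
  rw [T.f_w, map_one])

theorem twist_alt (σ π : alternatingGroup (Fin 6)) (hπ : (π : Perm (Fin 6)) = theta σ) :
    T.twist.alt π = T.alt σ := T.twist.inj (by
  rw [T.twist.f_alt]
  show _ = ((T.f (T.alt σ)).1, theta (T.f (T.alt σ)).2)
  rw [T.f_alt, hπ])

end HS

end Cfsg.Lib.LargeExtra.EightSmith
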