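import Cfsg.Agent.LargeExtra.EightSmith.Decomp
import Cfsg.Agent.LargeExtra.EightSmith.Quot
import Cfsg.Agent.LargeExtra.EightSmith.Code

/-!
# Two-subspaces for a faithful eight-dimensional module of `C₃ × A₆`

When the element of order three has no fixed points, one of the two classes of four groups of the
alternating group has a fixed line over four elements.
-/

set_option autoImplicit false
set_option linter.style.haveILetI false
set_option linter.unusedSectionVars false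
set_option maxRecDepth 40000

open Module Equiv

namespace Cfsg.Lib.LargeExtra.EightSmith

variable {V : Type*} [AddCommGroup V] [Module (ZMod 2) V] [Finite V]
variable {q : QuadraticForm (ZMod 2) V}

local notation "𝐁" => QuadraticMap.polarBilin q

/-- An isometric action of `C₃ × A₆` in which `w` and the elements of order five have no fixed points. -/
structure Rep (q : QuadraticForm (ZMod 2) V) where
  S : QS q
  dim : finrank (ZMod 2) V = 8
  A : alternatingGroup (Fin 6) →* V ≃ₗ[ZMod 2] V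
  w : V ≃ₗ[ZMod 2] V
  iso : ∀ s, Iso q (A s)
  inj : Function.Injective A
  isow : Iso q w
  w3 : w ^ 3 = 1
  comm : ∀ s, Commute (A s) w
  fpfw : ∀ x, w x = x → x = 0
  fpf5 : ∀ s, orderOf s = 5 → ∀ x, A s x = x → x = 0

namespace Rep

variable (R : Rep q)

/-- The action of an even permutation (the identity for an odd one). -/
def P (σ : Perm (Fin 6)) : V ≃ₗ[ZMod 2] V :=
  if h : Perm.sign σ = 1 then R.A ⟨σ, Perm.mem_alternatingGroup.mpr h⟩ else 1

theorem P_alt (s : alternatingGroup (Fin 6)) : R.A s = R.P s := by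
  rw [P, dif_pos (Perm.mem_alternatingGroup.mp s.2)]

theorem P_one : R.P 1 = 1 := by rw [P, dif_pos (map_one _)]; exact map_one R.A

theorem P_mul {σ π : Perm (Fin 6)} (hσ : Perm.sign σ = 1) (hπ : Perm.sign π = 1) :
    R.P (σ * π) = R.P σ * R.P π := by
  rw [P, P, P, dif_pos hσ, dif_pos hπ, dif_pos (show Perm.sign (σ * π) = 1 by rw [map_mul, hσ, hπ, mul_one])]
  exact map_mul R.A ⟨σ, _⟩ ⟨π, _⟩

theorem P_iso {σ : Perm (Fin 6)} (hσ : Perm.sign σ = 1) : Iso q (R.P σ) := by rw [P, dif_pos hσ]; exact R.iso _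

theorem P_w (σ : Perm (Fin 6)) (x : V) : R.P σ (R.w x) = R.w (R.P σ x) := by
  unfold P
  split
  · exact LinearEquiv.congr_fun (R.comm _).eq x
  · rfl

theorem P_ne {σ : Perm (Fin 6)} (hσ : Perm.sign σ = 1) (h : σ ≠ 1) : R.P σ ≠ 1 := by
  rw [P, dif_pos hσ]
  intro e
  exact h (congrArg Subtype.val (R.inj (e.trans (map_one R.A).symm)))

theorem P_five {σ : Perm (Fin 6)} (hσ : Perm.sign σ = 1) (h5 : σ ^ 5 = 1) (h : σ ≠ 1) {x : V}
    (hx : R.P σ x = x) : x = 0 := by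
  haveI : Fact (Nat.Prime 5) := ⟨Nat.prime_five⟩
  rw [P, dif_pos hσ] at hx
  exact R.fpf5 _ (orderOf_eq_prime (Subtype.ext h5) fun e => h (congrArg Subtype.val e)) x hx

theorem P_conj {σ π : Perm (Fin 6)} (hσ : Perm.sign σ = 1) (hπ : Perm.sign π = 1) (x : V) :
    R.P (σ * π * σ⁻¹) (R.P σ x) = R.P σ (R.P π x) := by
  rw [← LinearEquiv.mul_apply, ← R.P_mul (by simp [hπ]) hσ, inv_mul_cancel_right, R.P_mul hσ hπ]; rfl

theorem www (x : V) : R.w (R.w (R.w x)) = x :=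
  LinearEquiv.congr_fun (show R.w * R.w * R.w = 1 by rw [← R.w3]; simp [pow_succ]) x

theorem wsum (x : V) : x + R.w x + R.w (R.w x) = 0 := sum_three R.w3 R.fpfw

theorem even_dim {U : Submodule (ZMod 2) V} (hU : ∀ x ∈ U, R.w x ∈ U) : Even (finrank (ZMod 2) U) :=
  three_dim R.w3 hU fun x _ => R.fpfw x

/-- Every involution moves a four-dimensional space, which it fixes. -/
theorem inv_dim {σ : Perm (Fin 6)} (hσ : Perm.sign σ = 1) (h2 : σ * σ = 1) (h : σ ≠ 1)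
    {b : Perm (Fin 6)} (hb : Perm.sign b = 1) (h5 : (b * σ * b⁻¹ * σ) ^ 5 = 1) (hne : b * σ * b⁻¹ * σ ≠ 1) :
    finrank (ZMod 2) (fixs (R.P σ)) = 4 ∧ img (R.P σ) = fixs (R.P σ) := by
  set g := R.P σ
  have hg2 : g * g = 1 := by rw [← R.P_mul hσ hσ, h2, R.P_one]
  have hsum := finrank_fixs_img g
  have hle := img_le_fixs hg2
  have hle' := Submodule.finrank_mono hle
  have hV := R.dim
  obtain ⟨m, hm⟩ := R.even_dim (img_invariant (g := g) (w := R.w) (LinearEquiv.ext fun x => (R.P_w σ x).symm))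
  have h0 : finrank (ZMod 2) (img g) ≠ 0 := fun e => R.P_ne hσ h
    (eq_one_of_fixs (g := g) (Submodule.eq_top_of_finrank_eq (by omega)))
  have hs : Perm.sign (b * σ * b⁻¹) = 1 := by simp [hσ]
  set g' := R.P (b * σ * b⁻¹) with hg'
  have hfix' : fixs g' = (fixs g).map (R.P b).toLinearMap := by
    ext x
    rw [Submodule.mem_map, mem_fixs]
    constructor
    · intro hx
      refine ⟨R.P b⁻¹ x, mem_fixs.mpr ?_, ?_⟩
      · apply (R.P b).injective
        rw [← R.P_conj hb hσ, ← LinearEquiv.mul_apply (R.P b), ← R.P_mul hb (by simp [hb]), mul_inv_cancel, R.P_one]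
        exact hx
      · show R.P b (R.P b⁻¹ x) = x
        rw [← LinearEquiv.mul_apply, ← R.P_mul hb (by simp [hb]), mul_inv_cancel, R.P_one]; rfl
    · rintro ⟨y, hy, rfl⟩
      show g' (R.P b y) = R.P b y
      rw [hg', R.P_conj hb hσ, mem_fixs.mp hy]
  have hdim : finrank (ZMod 2) (fixs g') = finrank (ZMod 2) (fixs g) := by
    rw [hfix', LinearEquiv.finrank_map_eq]
  have hbot : fixs g ⊓ fixs g' = ⊥ := (Submodule.eq_bot_iff _).mpr fun x hx => by
    refine R.P_five (σ := b * σ * b⁻¹ * σ) (by simp [hσ]) h5 hne ?_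
    rw [R.P_mul hs hσ, LinearEquiv.mul_apply, mem_fixs.mp hx.1, mem_fixs.mp hx.2]
  have hadd := Submodule.finrank_sup_add_finrank_inf_eq (fixs g) (fixs g')
  rw [hbot, finrank_bot] at hadd
  have htop := Submodule.finrank_le (fixs g ⊔ fixs g')
  exact ⟨by omega, Submodule.eq_of_le_of_finrank_eq hle (by omega)⟩

/-- The first four group. -/
def a₁ : Perm (Fin 6) := swap 2 3 * swap 4 5

/-- The second generator of the first four group. -/
def a₂ : Perm (Fin 6) := swap 2 4 * swap 3 5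

/-- The second generator of the second four group. -/
def b₂ : Perm (Fin 6) := swap 0 1 * swap 2 3

theorem a_ok : Perm.sign a₁ = 1 ∧ Perm.sign a₂ = 1 ∧ Perm.sign b₂ = 1 ∧ a₁ * a₁ = 1 ∧ a₂ * a₂ = 1 ∧
    b₂ * b₂ = 1 ∧ a₁ ≠ 1 ∧ a₂ ≠ 1 ∧ b₂ ≠ 1 ∧ a₁ * a₂ = a₂ * a₁ ∧ a₁ * b₂ = b₂ * a₁ ∧ Perm.sign rot3 = 1 ∧
    Perm.sign rotP = 1 := by
  decide +kernel

theorem five_mates : (∀ σ ∈ [a₁, a₂, b₂, a₁ * a₂, a₁ * b₂], ∃ b : Perm (Fin 6),
    Perm.sign b = 1 ∧ (b * σ * b⁻¹ * σ) ^ 5 = 1 ∧ b * σ * b⁻¹ * σ ≠ 1) := by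
  decide +kernel

theorem dimFix {σ : Perm (Fin 6)} (hσ : σ ∈ [a₁, a₂, b₂, a₁ * a₂, a₁ * b₂]) :
    finrank (ZMod 2) (fixs (R.P σ)) = 4 ∧ img (R.P σ) = fixs (R.P σ) := by
  obtain ⟨b, hb, h5, hne⟩ := five_mates σ hσ
  have h : ∀ σ ∈ [a₁, a₂, b₂, a₁ * a₂, a₁ * b₂], Perm.sign σ = 1 ∧ σ * σ = 1 ∧ σ ≠ 1 := by decide +kernel
  exact R.inv_dim (h σ hσ).1 (h σ hσ).2.1 (h σ hσ).2.2 hb h5 hne

theorem fixs_w {σ : Perm (Fin 6)} : ∀ x ∈ fixs (R.P σ), R.w x ∈ fixs (R.P σ) := fun x hx =>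
  mem_fixs.mpr (by rw [R.P_w, mem_fixs.mp hx])

/-- The fixed space of a four group is a line or a plane over four elements. -/
theorem four_cases {s t : Perm (Fin 6)} (hs : Perm.sign s = 1) (ht : Perm.sign t = 1) (ht2 : t * t = 1)
    (hc : s * t = t * s) (hds : finrank (ZMod 2) (fixs (R.P s)) = 4)
    (hdt : finrank (ZMod 2) (fixs (R.P t)) = 4) :
    finrank (ZMod 2) ↥(fixs (R.P s) ⊓ fixs (R.P t)) = 2 ∨ fixs (R.P s) = fixs (R.P t) := by
  set U := fixs (R.P s) ⊓ fixs (R.P t) with hU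
  have hle : finrank (ZMod 2) U ≤ 4 := hds ▸ Submodule.finrank_mono inf_le_left
  obtain ⟨m, hm⟩ := R.even_dim (U := U) fun x hx => ⟨R.fixs_w x hx.1, R.fixs_w x hx.2⟩
  have hcomm : ∀ x, R.P t (R.P s x) = R.P s (R.P t x) := fun x => by
    rw [← LinearEquiv.mul_apply, ← LinearEquiv.mul_apply, ← R.P_mul ht hs, ← R.P_mul hs ht, hc]
  have hpos : finrank (ZMod 2) U ≠ 0 := by
    intro e
    have hb : U = ⊥ := Submodule.finrank_eq_zero.mp e
    have hne : fixs (R.P s) ≠ ⊥ := fun e' => by rw [e', finrank_bot] at hds; omega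
    obtain ⟨x, hx, hx0⟩ := Submodule.exists_mem_ne_zero_of_ne_bot hne
    have h1 : R.P s (R.P t x + x) = R.P t x + x := by rw [map_add, ← hcomm, mem_fixs.mp hx]
    have h2 : R.P t (R.P t x + x) = R.P t x + x := by
      rw [map_add, ← LinearEquiv.mul_apply, ← R.P_mul ht ht, ht2, R.P_one, add_comm]; rfl
    have h0 : R.P t x + x = 0 := (Submodule.eq_bot_iff _).mp hb _ ⟨mem_fixs.mpr h1, mem_fixs.mpr h2⟩
    exact hx0 ((Submodule.eq_bot_iff _).mp hb _ ⟨hx, mem_fixs.mpr (add_eq_zero_iff'.mp h0)⟩)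
  rcases Nat.lt_or_ge (finrank (ZMod 2) U) 4 with h | h
  · exact Or.inl (by omega)
  · refine Or.inr ?_
    have e1 : U = fixs (R.P s) := Submodule.eq_of_le_of_finrank_eq inf_le_left (by omega)
    have e2 : U = fixs (R.P t) := Submodule.eq_of_le_of_finrank_eq inf_le_right (by omega)
    exact e1.symm.trans e2

theorem fixs_conj {σ π : Perm (Fin 6)} (hσ : Perm.sign σ = 1) (hπ : Perm.sign π = 1) {x : V}
    (hx : x ∈ fixs (R.P π)) : R.P σ x ∈ fixs (R.P (σ * π * σ⁻¹)) :=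
  mem_fixs.mpr (by rw [R.P_conj hσ hπ, mem_fixs.mp hx])

/-- One of the two four groups fixes only a line over four elements. -/
theorem exists_line : finrank (ZMod 2) ↥(fixs (R.P a₁) ⊓ fixs (R.P a₂)) = 2 ∨
    finrank (ZMod 2) ↥(fixs (R.P a₁) ⊓ fixs (R.P b₂)) = 2 := by
  obtain ⟨s1, s2, s3, q1, q2, q3, n1, n2, n3, c12, c13, sr, sp⟩ := a_ok
  have d1 := (R.dimFix (σ := a₁) (by simp)).1
  have d2 := (R.dimFix (σ := a₂) (by simp)).1
  have d3 := (R.dimFix (σ := b₂) (by simp)).1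
  rcases R.four_cases s1 s2 q2 c12 d1 d2 with h | e2
  · exact Or.inl h
  rcases R.four_cases s1 s3 q3 c13 d1 d3 with h | e3
  · exact Or.inr h
  exfalso
  set R₀ := fixs (R.P a₁) with hR₀
  have hfix12 : fixs (R.P (a₁ * a₂)) = R₀ :=
    (Submodule.eq_of_le_of_finrank_eq (fun x hx => mem_fixs.mpr (by
      rw [R.P_mul s1 s2, LinearEquiv.mul_apply, mem_fixs.mp (e2 ▸ hx : x ∈ fixs (R.P a₂)), mem_fixs.mp hx]))
      (by rw [d1, (R.dimFix (σ := a₁ * a₂) (by simp)).1])).symm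
  have hfix13 : fixs (R.P (a₁ * b₂)) = R₀ :=
    (Submodule.eq_of_le_of_finrank_eq (fun x hx => mem_fixs.mpr (by
      rw [R.P_mul s1 s3, LinearEquiv.mul_apply, mem_fixs.mp (e3 ▸ hx : x ∈ fixs (R.P b₂)), mem_fixs.mp hx]))
      (by rw [d1, (R.dimFix (σ := a₁ * b₂) (by simp)).1])).symm
  have hdict : ∀ π ∈ [a₁, a₂, b₂, a₁ * a₂, a₁ * b₂], fixs (R.P π) = R₀ := by
    intro π hπ
    simp only [List.mem_cons, List.not_mem_nil, or_false] at hπ
    rcases hπ with rfl | rfl | rfl | rfl | rfl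
    exacts [rfl, e2.symm, e3.symm, hfix12, hfix13]
  have hd : rot3 * a₁ * rot3⁻¹ ∈ [a₁, a₂, b₂, a₁ * a₂, a₁ * b₂] ∧
      rotP * a₁ * rotP⁻¹ ∈ [a₁, a₂, b₂, a₁ * a₂, a₁ * b₂] := by decide +kernel
  have inv3 : ∀ x ∈ R₀, R.P rot3 x ∈ R₀ := fun x hx => hdict _ hd.1 ▸ R.fixs_conj sr s1 hx
  have invP : ∀ x ∈ R₀, R.P rotP x ∈ R₀ := fun x hx => hdict _ hd.2 ▸ R.fixs_conj sp s1 hx
  have hg : Perm.sign (rotP * rot3) = 1 := by rw [map_mul, sp, sr, mul_one]
  have hkey : Perm.sign (rotP * rot3 * b₂ * (rotP * rot3)⁻¹ * a₂) = 1 ∧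
      (rotP * rot3 * b₂ * (rotP * rot3)⁻¹ * a₂) ^ 5 = 1 ∧
      rotP * rot3 * b₂ * (rotP * rot3)⁻¹ * a₂ ≠ 1 := by decide +kernel
  have hne : R₀ ≠ ⊥ := fun e' => by rw [e', finrank_bot] at d1; omega
  obtain ⟨x, hx, hx0⟩ := Submodule.exists_mem_ne_zero_of_ne_bot hne
  have hinv : ∀ y ∈ R₀, R.P (rotP * rot3) y ∈ R₀ := fun y hy => by
    rw [R.P_mul sp sr, LinearEquiv.mul_apply]; exact invP _ (inv3 _ hy)
  -- the map is onto `R₀`
  obtain ⟨y, hy⟩ : ∃ y : R₀, R.P (rotP * rot3) y = x := by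
    let f : R₀ → R₀ := fun y => ⟨R.P (rotP * rot3) y, hinv y y.2⟩
    have hf : Function.Injective f := fun a b e => Subtype.ext ((R.P _).injective (congrArg Subtype.val e))
    obtain ⟨y, hy⟩ := (Finite.injective_iff_surjective.mp hf) ⟨x, hx⟩
    exact ⟨y, congrArg Subtype.val hy⟩
  have h1 : R.P (rotP * rot3 * b₂ * (rotP * rot3)⁻¹) x = x := by
    rw [← hy]; exact mem_fixs.mp (R.fixs_conj hg s3 (e3 ▸ y.2))
  refine hx0 (R.P_five hkey.1 hkey.2.1 hkey.2.2 ?_)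
  rw [R.P_mul (by simp [sp, sr, s3]) s2, LinearEquiv.mul_apply, mem_fixs.mp (e2 ▸ hx : x ∈ fixs (R.P a₂)), h1]

end Rep

end Cfsg.Lib.LargeExtra.EightSmith
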