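import Cfsg.Agent.LargeExtra.EightSmith.Exceptional

/-!
# A second conjugate of the involution inside the extraspecial subgroup
-/

set_option autoImplicit false
set_option linter.style.haveILetI false
set_option linter.unusedSectionVars false
set_option linter.unusedVariables false
set_option maxRecDepth 40000

open Module Subgroup
open scoped commutatorElement

namespace Cfsg.Lib.LargeExtra.EightSmith

universe u v w

theorem two_le_finrank {V : Type w} [AddCommGroup V] [Module (ZMod 2) V] [Finite V] {U : Submodule (ZMod 2) V}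
    {x y : V} (hx : x ∈ U) (hy : y ∈ U) (hx0 : x ≠ 0) (hy0 : y ≠ 0) (hxy : x ≠ y) :
    2 ≤ finrank (ZMod 2) U := by
  by_contra h
  push Not at h
  have hf : finrank (ZMod 2) U = 1 := le_antisymm (by omega)
    (Submodule.one_le_finrank_iff.mpr fun e => hx0 ((Submodule.eq_bot_iff _).mp e x hx))
  obtain ⟨c, hc⟩ := (finrank_eq_one_iff_of_nonzero' (⟨x, hx⟩ : U) fun e => hx0 (congrArg Subtype.val e)).mp hf ⟨y, hy⟩
  have e : c • x = y := congrArg Subtype.val hc
  rcases zmod2_cases c with rfl | rfl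
  · exact hy0 (by rw [← e, zero_smul])
  · exact hxy (by rw [← e, one_smul])

namespace Ctx

variable {G : Type u} {H : Type v} {V : Type w} [Group G] [Finite G] [Group H] [AddCommGroup V]
  [Module (ZMod 2) V] [Finite V] {q : QuadraticForm (ZMod 2) V} (C : Ctx G H q)

local notation "𝐁" => QuadraticMap.polarBilin q

/-- The image of `Q ∩ gQg⁻¹`. -/
def ximg (g : G) : Submodule (ZMod 2) V where
  carrier := {u | ∃ x ∈ C.meet g, C.π x = u}
  zero_mem' := ⟨1, one_mem _, C.π_one⟩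
  add_mem' := by
    rintro _ _ ⟨x, hx, rfl⟩ ⟨y, hy, rfl⟩
    exact ⟨x * y, mul_mem hx hy, C.π_mul _ hx.1 _ hy.1⟩
  smul_mem' := by
    rintro r _ ⟨x, hx, rfl⟩
    rcases zmod2_cases r with rfl | rfl
    · exact ⟨1, one_mem _, by rw [C.π_one, zero_smul]⟩
    · exact ⟨x, hx, (one_smul _ _).symm⟩

variable {a g : G} (hg : g * C.z * g⁻¹ = a) (ha : a ∈ C.Q) (hne : a ≠ C.z)
include hg ha hne

theorem a_sq : a * a = 1 := by rw [← hg]; exact Cj.sq C ⟨g, rfl⟩

theorem a_ne_one : a ≠ 1 := fun e => C.x2.ne (by rw [← hg] at e; exact conj_eq_one_iff.mp e)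

theorem πa_ne : C.π a ≠ 0 := fun e => by
  rcases C.eq_cases ha e with h | h
  · exact C.a_ne_one hg ha hne h
  · exact hne h

theorem q_πa : q (C.π a) = 0 := (C.π_sq a ha).mpr (C.a_sq hg ha hne)

theorem z_mem : g⁻¹ * C.z * g ∈ C.Q :=
  mem_conj_of_mem C.x2 C.cent C.norm (by rw [C.card]; norm_num) (hg.symm ▸ ha) (hg.symm ▸ hne)

theorem z_meet : C.z ∈ C.meet g := C.mem_meet.mpr ⟨C.x2.mem, C.z_mem hg ha hne⟩

theorem a_meet : a ∈ C.meet g := C.mem_meet.mpr ⟨ha, by rw [← hg]; convert C.x2.mem using 1; group⟩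

theorem a'_ne : g⁻¹ * C.z * g ≠ C.z := fun e => hne (by
  rw [← hg]
  calc g * C.z * g⁻¹ = g * (g⁻¹ * C.z * g) * g⁻¹ := by rw [e]
    _ = C.z := by group)

theorem meet_sq' {e : G} (he : e ∈ C.meet g) : e * e = 1 := by
  obtain ⟨he1, he2⟩ := C.mem_meet.mp he
  refine (C.x2.sq e he1).resolve_right fun h => ?_
  rcases C.x2.sq _ he2 with h' | h' <;>
    rw [show g⁻¹ * e * g * (g⁻¹ * e * g) = g⁻¹ * (e * e) * g by group, h] at h'
  · exact C.x2.ne (conj_eq_one_iff.mp (by rw [inv_inv]; exact h' : g⁻¹ * C.z * g⁻¹⁻¹ = 1))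
  · exact C.a'_ne hg ha hne h'

theorem ximg_ts : ∀ u ∈ C.ximg g, q u = 0 := by
  rintro _ ⟨x, hx, rfl⟩
  exact (C.π_sq x hx.1).mpr (C.meet_sq' hg ha hne hx)

theorem ximg_dim : finrank (ZMod 2) (C.ximg g) ≤ 4 := by
  have := C.S.ts_le (C.ximg_ts hg ha hne)
  rw [C.dim] at this
  omega

theorem v_mem : C.π a ∈ C.ximg g := ⟨a, C.a_meet hg ha hne, rfl⟩

theorem meet_eq_pre : C.meet g = C.pre (C.ximg g) := by
  refine le_antisymm (fun x hx => ⟨hx.1, x, hx, rfl⟩) ?_
  rintro x ⟨hx, y, hy, e⟩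
  rcases (C.eq_iff hy.1 hx).mp e with rfl | rfl
  · exact hy
  · exact mul_mem (C.z_meet hg ha hne) hy

/-- An element commuting with `z` and `a` carries the intersection to itself. -/
theorem ximg_invariant {m : G} (hmz : Commute m C.z) (hma : Commute m a) :
    ∀ u ∈ C.ximg g, C.ρ (C.μ m) u ∈ C.ximg g := by
  rintro _ ⟨x, hx, rfl⟩
  have hd : Commute (g⁻¹ * m * g) C.z := by
    show g⁻¹ * m * g * C.z = C.z * (g⁻¹ * m * g)
    calc g⁻¹ * m * g * C.z = g⁻¹ * (m * a) * g := by rw [← hg]; group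
      _ = g⁻¹ * (a * m) * g := by rw [hma.eq]
      _ = _ := by rw [← hg]; group
  rw [C.ρ_π m hmz x hx.1]
  refine ⟨_, C.mem_meet.mpr ⟨C.conj_mem hmz hx.1, ?_⟩, rfl⟩
  convert C.conj_mem hd (C.mem_meet.mp hx).2 using 1
  group

/-- The elementary group of images of the centralizer of `z` in the second extraspecial group. -/
theorem exists_L' : ∃ L : Subgroup H, (∀ l ∈ L, ∀ l' ∈ L, Commute l l') ∧ (∀ l ∈ L, l * l = 1) ∧
    (∀ l ∈ L, C.ρ l (C.π a) = C.π a) ∧
    (∀ l ∈ L, ∀ u, 𝐁 u (C.π a) = 0 → C.ρ l u + u ∈ C.ximg g) ∧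
    (∀ l ∈ L, ∀ u ∈ C.ximg g, C.ρ l u = u ∨ C.ρ l u = u + C.π a) ∧
    (∀ u ∈ C.ximg g, (∀ l ∈ L, C.ρ l u = u) → u = 0 ∨ u = C.π a) ∧
    Nat.card L * 2 ^ finrank (ZMod 2) (C.ximg g) = 2 ^ 7 ∧
    (∀ m, Commute m C.z → Commute m a → ∀ l ∈ L, C.μ m * l * (C.μ m)⁻¹ ∈ L) ∧
    (∀ x, Commute x C.z → g⁻¹ * x * g ∈ C.Q → C.μ x ∈ L) := by
  set a' := g⁻¹ * C.z * g with ha'
  have ha'Q := C.z_mem hg ha hne
  set v' := C.π a'
  have hv'0 : v' ≠ 0 := fun e => by
    rcases C.eq_cases ha'Q e with h | h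
    · exact C.x2.ne (conj_eq_one_iff.mp (by rw [inv_inv]; exact h : g⁻¹ * C.z * g⁻¹⁻¹ = 1))
    · exact C.a'_ne hg ha hne h
  set U := C.S.perp (Submodule.span (ZMod 2) {v'}) with hU
  have hUmem : ∀ {x}, x ∈ C.pre U ↔ x ∈ C.Q ∧ Commute x a' := by
    intro x
    refine ⟨fun h => ⟨h.1, ((C.π_comm _ ha'Q _ h.1).mp
      (C.S.mem_perp.mp h.2 v' (Submodule.mem_span_singleton_self _))).symm⟩, fun h => ⟨h.1, C.S.mem_perp.mpr ?_⟩⟩
    intro w hw
    obtain ⟨r, rfl⟩ := Submodule.mem_span_singleton.mp hw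
    rw [map_smul, LinearMap.smul_apply, C.B_π ha'Q h.1 h.2.symm, smul_zero]
  have hz : ∀ {x}, x ∈ C.pre U → Commute (g * x * g⁻¹) C.z := fun {x} h => by
    show g * x * g⁻¹ * C.z = C.z * (g * x * g⁻¹)
    calc g * x * g⁻¹ * C.z = g * (x * a') * g⁻¹ := by rw [ha']; group
      _ = g * (a' * x) * g⁻¹ := by rw [(hUmem.mp h).2.eq]
      _ = _ := by rw [ha']; group
  let φ : C.pre U →* H := MonoidHom.mk' (fun x => C.μ (g * (x : G) * g⁻¹)) fun x y => by
    rw [← C.μ_mul _ _ (hz x.2) (hz y.2)]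
    congr 1
    rw [Subgroup.coe_mul]; group
  have hkill : ∀ c : C.pre U, ((c : G) = 1 ∨ (c : G) = C.z) → φ c = 1 := by
    rintro c (e | e)
    · rw [show c = 1 from Subtype.ext e, map_one]
    · show C.μ (g * (c : G) * g⁻¹) = 1
      rw [e, hg]; exact C.μ_mem ha
  have hmeet : ∀ {e}, e ∈ C.meet g → g⁻¹ * e * g ∈ C.pre U := fun {e} he =>
    hUmem.mpr ⟨(C.mem_meet.mp he).2, by
      have h1 := (C.x2.central e (C.mem_meet.mp he).1).eq
      show g⁻¹ * e * g * a' = a' * (g⁻¹ * e * g)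
      calc g⁻¹ * e * g * a' = g⁻¹ * (e * C.z) * g := by rw [ha']; group
        _ = g⁻¹ * (C.z * e) * g := by rw [h1]
        _ = _ := by rw [ha']; group⟩
  have hfa : ∀ x : C.pre U, g * (x : G) * g⁻¹ * a * (g * (x : G) * g⁻¹)⁻¹ = a := fun x => by
    have h1 := (C.x2.central _ (hUmem.mp x.2).1).eq
    calc g * (x : G) * g⁻¹ * a * (g * (x : G) * g⁻¹)⁻¹
        = g * ((x : G) * C.z) * (x : G)⁻¹ * g⁻¹ := by rw [← hg]; group
      _ = g * (C.z * (x : G)) * (x : G)⁻¹ * g⁻¹ := by rw [h1]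
      _ = a := by rw [← hg]; group
  refine ⟨φ.range, ?_, ?_, ?_, ?_, ?_, ?_, ?_, ?_, ?_⟩
  · rintro _ ⟨x, rfl⟩ _ ⟨y, rfl⟩
    refine commutatorElement_eq_one_iff_commute.mp ?_
    rw [← map_commutatorElement]
    exact hkill _ (C.x2.comm _ (hUmem.mp x.2).1 _ (hUmem.mp y.2).1)
  · rintro _ ⟨x, rfl⟩
    rw [← map_mul]
    exact hkill _ (C.x2.sq _ (hUmem.mp x.2).1)
  · rintro _ ⟨x, rfl⟩
    show C.ρ (C.μ (g * (x : G) * g⁻¹)) (C.π a) = _
    rw [C.ρ_π _ (hz x.2) a ha, hfa]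
  · rintro _ ⟨x, rfl⟩ u hu
    obtain ⟨y, hy, rfl⟩ := C.π_surj u
    have hya := (C.π_comm _ hy _ ha).mp hu
    have hyc : Commute (g⁻¹ * y * g) C.z := by
      show g⁻¹ * y * g * C.z = C.z * (g⁻¹ * y * g)
      calc g⁻¹ * y * g * C.z = g⁻¹ * (y * a) * g := by rw [← hg]; group
        _ = g⁻¹ * (a * y) * g := by rw [hya.eq]
        _ = _ := by rw [← hg]; group
    set p := g * (x : G) * g⁻¹ with hp
    refine ⟨p * y * p⁻¹ * y⁻¹, C.mem_meet.mpr ⟨mul_mem (C.conj_mem (hz x.2) hy) (inv_mem hy), ?_⟩, ?_⟩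
    · rw [show g⁻¹ * (p * y * p⁻¹ * y⁻¹) * g =
        (x : G) * ((g⁻¹ * y * g) * (x : G)⁻¹ * (g⁻¹ * y * g)⁻¹) by rw [hp]; group]
      exact mul_mem (hUmem.mp x.2).1 (C.conj_mem hyc (inv_mem (hUmem.mp x.2).1))
    · rw [C.π_mul _ (C.conj_mem (hz x.2) hy) _ (inv_mem hy), C.π_inv hy, ← C.ρ_π _ (hz x.2) y hy]; rfl
  · rintro _ ⟨x, rfl⟩ _ ⟨e, he, rfl⟩
    show C.ρ (C.μ (g * (x : G) * g⁻¹)) (C.π e) = _ ∨ C.ρ (C.μ (g * (x : G) * g⁻¹)) (C.π e) = _
    rw [C.ρ_π _ (hz x.2) e he.1]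
    rcases C.x2.conj_cases (hUmem.mp x.2).1 (C.mem_meet.mp he).2 with h | h
    · refine Or.inl (congrArg C.π ?_)
      calc g * (x : G) * g⁻¹ * e * (g * (x : G) * g⁻¹)⁻¹
          = g * ((x : G) * (g⁻¹ * e * g) * (x : G)⁻¹) * g⁻¹ := by group
        _ = g * (g⁻¹ * e * g) * g⁻¹ := by rw [h]
        _ = e := by group
    · refine Or.inr ?_
      have h' : g * (x : G) * g⁻¹ * e * (g * (x : G) * g⁻¹)⁻¹ = a * e := by
        calc g * (x : G) * g⁻¹ * e * (g * (x : G) * g⁻¹)⁻¹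
            = g * ((x : G) * (g⁻¹ * e * g) * (x : G)⁻¹) * g⁻¹ := by group
          _ = g * (C.z * (g⁻¹ * e * g)) * g⁻¹ := by rw [h]
          _ = a * e := by rw [← hg]; group
      rw [h', C.π_mul _ ha _ he.1, add_comm]
  · rintro _ ⟨e, he, rfl⟩ hall
    have hcomm : ∀ x : C.pre U, Commute (x : G) (g⁻¹ * e * g) := by
      intro x
      rcases C.x2.conj_cases (hUmem.mp x.2).1 (C.mem_meet.mp he).2 with h | h
      · exact mul_inv_eq_iff_eq_mul.mp h
      exfalso
      have h2 := hall _ ⟨x, rfl⟩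
      have h' : g * (x : G) * g⁻¹ * e * (g * (x : G) * g⁻¹)⁻¹ = a * e := by
        calc g * (x : G) * g⁻¹ * e * (g * (x : G) * g⁻¹)⁻¹
            = g * ((x : G) * (g⁻¹ * e * g) * (x : G)⁻¹) * g⁻¹ := by group
          _ = g * (C.z * (g⁻¹ * e * g)) * g⁻¹ := by rw [h]
          _ = a * e := by rw [← hg]; group
      change C.ρ (C.μ (g * (x : G) * g⁻¹)) (C.π e) = C.π e at h2
      rw [C.ρ_π _ (hz x.2) e he.1, h', C.π_mul _ ha _ he.1, add_eq_right] at h2
      exact C.πa_ne hg ha hne h2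
    have hperp : C.π (g⁻¹ * e * g) ∈ C.S.perp U := C.S.mem_perp.mpr fun u hu => by
      obtain ⟨x, hx, rfl⟩ := C.π_surj u
      exact C.B_π hx (C.mem_meet.mp he).2 (hcomm ⟨x, hx, hu⟩)
    rw [hU, C.S.perp_perp] at hperp
    obtain ⟨r, hr⟩ := Submodule.mem_span_singleton.mp hperp
    rcases zmod2_cases r with rfl | rfl
    · rw [zero_smul] at hr
      rcases C.eq_cases (C.mem_meet.mp he).2 hr.symm with h | h
      · left; rw [show e = 1 from conj_eq_one_iff.mp (by rw [inv_inv]; exact h : g⁻¹ * e * g⁻¹⁻¹ = 1), C.π_one]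
      · right; rw [show e = a by rw [← hg, ← h]; group]
    · rw [one_smul] at hr
      rcases (C.eq_iff ha'Q (C.mem_meet.mp he).2).mp hr with h | h
      · left; rw [show e = C.z by
          calc e = g * (g⁻¹ * e * g) * g⁻¹ := by group
            _ = g * a' * g⁻¹ := by rw [h]
            _ = C.z := by rw [ha']; group, C.π_z]
      · right
        rw [show e = a * C.z by
          calc e = g * (g⁻¹ * e * g) * g⁻¹ := by group
            _ = g * (C.z * a') * g⁻¹ := by rw [h]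
            _ = a * C.z := by rw [ha', ← hg]; group, C.π_mul _ ha _ C.x2.mem, C.π_z, add_zero]
  · have hker : Nat.card φ.ker = Nat.card (C.meet g) := Nat.card_congr
      { toFun := fun x => ⟨g * ((x : C.pre U) : G) * g⁻¹, C.mem_meet.mpr
          ⟨(C.μ_ker _ (hz (x : C.pre U).2)).mp (MonoidHom.mem_ker.mp x.2), by
            convert (hUmem.mp (x : C.pre U).2).1 using 1; group⟩⟩
        invFun := fun e => ⟨⟨_, hmeet e.2⟩, MonoidHom.mem_ker.mpr (by
          show C.μ (g * (g⁻¹ * (e : G) * g) * g⁻¹) = 1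
          rw [show g * (g⁻¹ * (e : G) * g) * g⁻¹ = (e : G) by group]
          exact C.μ_mem (C.mem_meet.mp e.2).1)⟩
        left_inv := fun x => Subtype.ext (Subtype.ext (by simp [mul_assoc]))
        right_inv := fun e => Subtype.ext (by simp [mul_assoc]) }
    have h := Subgroup.card_eq_card_quotient_mul_card_subgroup φ.ker
    have hd : finrank (ZMod 2) U = 7 := by
      have h1 := C.S.finrank_perp (Submodule.span (ZMod 2) {v'})
      rw [finrank_span_singleton hv'0, C.dim, ← hU] at h1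
      omega
    rw [Nat.card_congr (QuotientGroup.quotientKerEquivRange φ).toEquiv, hker, C.meet_eq_pre hg ha hne, C.card_pre,
      C.card_pre, hd, pow_succ _ (finrank (ZMod 2) (C.ximg g))] at h
    norm_num at h ⊢
    nlinarith
  · rintro m hmz hma _ ⟨x, rfl⟩
    set d := g⁻¹ * m * g with hd
    have hdz : Commute d C.z := by
      show g⁻¹ * m * g * C.z = C.z * (g⁻¹ * m * g)
      calc g⁻¹ * m * g * C.z = g⁻¹ * (m * a) * g := by rw [← hg]; group
        _ = g⁻¹ * (a * m) * g := by rw [hma.eq]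
        _ = _ := by rw [← hg]; group
    have hda : d * a' * d⁻¹ = a' := by
      calc d * a' * d⁻¹ = g⁻¹ * (m * C.z * m⁻¹) * g := by rw [hd, ha']; group
        _ = a' := by rw [C.z_conj hmz]
    have hmem : d * (x : G) * d⁻¹ ∈ C.pre U := hUmem.mpr ⟨C.conj_mem hdz (hUmem.mp x.2).1, by
      show d * (x : G) * d⁻¹ * a' = a' * (d * (x : G) * d⁻¹)
      calc d * (x : G) * d⁻¹ * a' = d * (x : G) * d⁻¹ * (d * a' * d⁻¹) := by rw [hda]
        _ = d * ((x : G) * a') * d⁻¹ := by group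
        _ = d * (a' * (x : G)) * d⁻¹ := by rw [(hUmem.mp x.2).2.eq]
        _ = d * a' * d⁻¹ * (d * (x : G) * d⁻¹) := by group
        _ = _ := by rw [hda]⟩
    refine ⟨⟨_, hmem⟩, ?_⟩
    show C.μ (g * (d * (x : G) * d⁻¹) * g⁻¹) = C.μ m * C.μ (g * (x : G) * g⁻¹) * (C.μ m)⁻¹
    rw [← C.μ_conj hmz (hz x.2)]
    congr 1
    rw [hd]; group
  · intro x hxz hxQ
    have hmem : g⁻¹ * x * g ∈ C.pre U := hUmem.mpr ⟨hxQ, by
      show g⁻¹ * x * g * a' = a' * (g⁻¹ * x * g)
      calc g⁻¹ * x * g * a' = g⁻¹ * (x * C.z) * g := by rw [ha']; group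
        _ = g⁻¹ * (C.z * x) * g := by rw [hxz.eq]
        _ = _ := by rw [ha']; group⟩
    exact ⟨⟨_, hmem⟩, show C.μ (g * (g⁻¹ * x * g) * g⁻¹) = C.μ x by congr 1; group⟩

omit hg ha hne in
theorem half_le {L : Subgroup H} {l₀ : H} (h₀ : l₀ ∈ L) (hinv : ¬ Commute l₀ C.T.w) :
    Nat.card L ≤ 2 * Nat.card ↥(L ⊓ centralizer ({C.T.w} : Set H)) := by
  classical
  haveI : Finite H := Finite.of_injective _ C.T.inj
  let F : L → ↥(L ⊓ centralizer ({C.T.w} : Set H)) × Bool := fun l =>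
    if h : Commute (l : H) C.T.w then (⟨l, l.2, mem_centralizer_singleton_iff.mpr h.eq⟩, true)
    else (⟨l₀ * l, mul_mem h₀ l.2, mem_centralizer_singleton_iff.mpr (C.T.not_commute_mul hinv h).eq⟩, false)
  have hF : Function.Injective F := by
    intro x y e
    simp only [F] at e
    split_ifs at e with h1 h2 h2
    · exact Subtype.ext (congrArg (fun p => (p.1 : H)) e)
    · exact absurd (congrArg Prod.snd e) (by simp)
    · exact absurd (congrArg Prod.snd e) (by simp)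
    · exact Subtype.ext (mul_left_cancel (congrArg (fun p => (p.1 : H)) e))
  have h := Nat.card_le_card_of_injective F hF
  rw [Nat.card_prod, show Nat.card Bool = 2 by simp] at h
  omega

omit hg ha hne in
theorem cent_part_card {L : Subgroup H} (hsq : ∀ l ∈ L, l * l = 1) :
    Nat.card ↥(L ⊓ centralizer ({C.T.w} : Set H)) ≤ 8 := by
  haveI : Finite H := Finite.of_injective _ C.T.inj
  exact C.T.card_elementary _ (fun l hl => hsq l hl.1) fun l hl => mem_centralizer_singleton_iff.mp hl.2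

/-- The case of an element `w` fixing a six-dimensional subspace. -/
theorem nonclosed_c (h6 : finrank (ZMod 2) (fixs (C.ρ C.T.w)) = 6)
    (h2 : finrank (ZMod 2) (img (C.ρ C.T.w)) = 2) (han : ∀ x ∈ img (C.ρ C.T.w), q x = 0 → x = 0) : False := by
  obtain ⟨L, hab, hsq, hfix, hsh, hX, hP0, hcard, -, -⟩ := C.exists_L' hg ha hne
  haveI : Finite H := Finite.of_injective _ C.T.inj
  set w := C.ρ C.T.w with hw
  set v := C.π a with hv
  set X := C.ximg g
  have hw3 : w ^ 3 = 1 := by rw [hw, ← map_pow, C.T.w_pow, map_one]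
  have hwfpf := img_fpf (n := 1) hw3
  have hcomm : ∀ {l}, Commute l C.T.w → ∀ x, C.ρ l (w x) = w (C.ρ l x) := fun {l} hl x => by
    rw [hw, ← LinearEquiv.mul_apply, ← map_mul, hl.eq, map_mul]; rfl
  have hW1 : ∀ (l : H), ∀ x ∈ img w, C.ρ l x ∈ img w := fun l x hx => by
    rcases C.T.conj_w l with e | e
    · obtain ⟨y, rfl⟩ := hx
      rw [shift_apply, map_add, hcomm (mul_inv_eq_iff_eq_mul.mp e)]
      exact shift_mem _ _
    · obtain ⟨y, rfl⟩ := hx
      rw [shift_apply, map_add, hw, ← LinearEquiv.mul_apply, ← map_mul, mul_inv_eq_iff_eq_mul.mp e, map_mul,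
        LinearEquiv.mul_apply]
      refine ⟨C.ρ C.T.w⁻¹ (C.ρ l y), ?_⟩
      rw [shift_apply, ← LinearEquiv.mul_apply (C.ρ C.T.w), ← map_mul, mul_inv_cancel, map_one, add_comm]
      rfl
  have hsplit : ∀ x : V, ∃ x0 ∈ fixs w, ∃ x1 ∈ img w, x = x0 + x1 := fun x => by
    have hinf : fixs w ⊓ img w = ⊥ := (Submodule.eq_bot_iff _).mpr fun y hy => hwfpf y hy.2 (mem_fixs.mp hy.1)
    have hs := Submodule.finrank_sup_add_finrank_inf_eq (fixs w) (img w)
    rw [hinf, finrank_bot, h6, h2] at hs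
    have htop : fixs w ⊔ img w = ⊤ := Submodule.eq_top_of_finrank_eq (by rw [C.dim]; omega)
    obtain ⟨x0, hx0, x1, hx1, e⟩ := Submodule.mem_sup.mp (htop ▸ Submodule.mem_top : x ∈ _)
    exact ⟨x0, hx0, x1, hx1, e.symm⟩
  have hW0 : ∀ (l : H), ∀ x ∈ fixs w, C.ρ l x ∈ fixs w := fun l x hx => by
    rw [← C.S.perp_img (C.ρ_iso _)] at hx ⊢
    refine C.S.mem_perp.mpr fun y hy => ?_
    have h := C.S.mem_perp.mp hx _ (hW1 l⁻¹ y hy)
    rw [← (C.ρ_iso l).B, ← LinearEquiv.mul_apply, ← map_mul, mul_inv_cancel, map_one] at h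
    exact h
  have hk : finrank (ZMod 2) X ≤ 4 := C.ximg_dim hg ha hne
  obtain ⟨v0, hv0, v1, hv1, hv01⟩ := hsplit v
  have hfix1 : ∀ l ∈ L, C.ρ l v1 = v1 := fun l hl => by
    have h := hfix l hl
    rw [hv01, map_add] at h
    have e : C.ρ l v0 + v0 = C.ρ l v1 + v1 := by
      rw [← add_eq_zero_iff', show C.ρ l v0 + v0 + (C.ρ l v1 + v1) =
        (C.ρ l v0 + C.ρ l v1) + (v0 + v1) by abel, h, add_self']
    refine add_eq_zero_iff'.mp (hwfpf _ (add_mem (hW1 l v1 hv1) hv1) ?_)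
    rw [← e]
    exact mem_fixs.mp (add_mem (hW0 l v0 hv0) hv0)
  by_cases hv10 : v1 = 0
  · -- `v` is fixed by `w`
    have hvW : v ∈ fixs w := by rw [hv01, hv10, add_zero]; exact hv0
    have hperpv : ∀ x ∈ img w, 𝐁 x v = 0 := fun x hx => by
      rw [← C.S.perp_img (C.ρ_iso _)] at hvW
      exact C.S.mem_perp.mp hvW x hx
    have hcent : ∀ l ∈ L, Commute l C.T.w := by
      intro l hl
      by_contra hinv
      obtain ⟨x, hx, hne'⟩ : ∃ x ∈ img w, C.ρ l x + x ≠ 0 := by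
        by_contra hno
        push Not at hno
        obtain ⟨x, hx, hx0⟩ := Submodule.exists_mem_ne_zero_of_ne_bot (p := img w) fun e => by
          rw [e, finrank_bot] at h2; omega
        have h1 := add_eq_zero_iff'.mp (hno _ (img_invariant (Commute.refl w) x hx))
        rw [hw, ← LinearEquiv.mul_apply, ← map_mul, mul_inv_eq_iff_eq_mul.mp (C.T.inverts_of_not_commute hinv),
          map_mul, LinearEquiv.mul_apply, add_eq_zero_iff'.mp (hno x hx)] at h1
        have h3 : w (w (w x)) = x := LinearEquiv.congr_fun (show w * w * w = 1 by rw [← hw3]; simp [pow_succ]) x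
        have h4 : w (w x) = x := by
          rw [hw, ← h1, ← LinearEquiv.mul_apply, ← map_mul, mul_inv_cancel, map_one]; rfl
        rw [h4] at h3
        exact hx0 (hwfpf x hx h3)
      exact hne' (han _ (add_mem (hW1 l x hx) hx) (C.ximg_ts hg ha hne _ (hsh l hl x (hperpv x hx))))
    have h8 := C.T.card_elementary L hsq hcent
    obtain ⟨m, hmz, hμm, hma⟩ := C.exists_lift ha ha (C.πa_ne hg ha hne) (h := C.T.w) (mem_fixs.mp hvW)
    have hma' : Commute m a := mul_inv_eq_iff_eq_mul.mp hma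
    have hXW : X ≤ fixs w := fun x hx => by
      have hwx : w x ∈ X := by rw [hw, ← hμm]; exact C.ximg_invariant hg ha hne hmz hma' x hx
      exact mem_fixs.mpr (add_eq_zero_iff'.mp
        (han _ (shift_mem w x) (C.ximg_ts hg ha hne _ (add_mem hwx hx))))
    have hk3 : finrank (ZMod 2) X ≤ 3 := by
      have hinf : X ⊓ img w = ⊥ := (Submodule.eq_bot_iff _).mpr fun y hy => hwfpf y hy.2 (mem_fixs.mp (hXW hy.1))
      have hs := Submodule.finrank_sup_add_finrank_inf_eq X (img w)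
      rw [hinf, finrank_bot, h2] at hs
      have hle : X ⊔ img w ≤ C.S.perp X := sup_le
        (fun x hx => C.S.mem_perp.mpr fun y hy => QS.B_of_ts (C.ximg_ts hg ha hne) y hy x hx) fun x hx =>
          C.S.mem_perp.mpr fun y hy => by
            have := hXW hy
            rw [← C.S.perp_img (C.ρ_iso _)] at this
            rw [B_comm]; exact C.S.mem_perp.mp this x hx
      have := Submodule.finrank_mono hle
      have := C.S.finrank_perp X
      have hV := C.dim
      omega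
    have h16 : 2 ^ finrank (ZMod 2) X ≤ 2 ^ 3 := Nat.pow_le_pow_right (by norm_num) hk3
    nlinarith
  · -- elements centralizing `w` fix the intersection
    have hXfix : ∀ l ∈ L, Commute l C.T.w → ∀ x ∈ X, C.ρ l x = x := by
      intro l hl hc x hx
      refine (hX l hl x hx).resolve_right fun e => hv10 ?_
      have hWle : img w ≤ fixs (C.ρ l) := by
        have h1 : 2 ≤ finrank (ZMod 2) ↥(fixs (C.ρ l) ⊓ img w) :=
          two_le_finrank (x := v1) (y := w v1) ⟨mem_fixs.mpr (hfix1 l hl), hv1⟩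
            ⟨mem_fixs.mpr (by rw [hcomm hc, hfix1 l hl]), img_invariant (Commute.refl w) v1 hv1⟩ hv10
            (fun e0 => hv10 (w.map_eq_zero_iff.mp e0)) fun e0 => hv10 (hwfpf v1 hv1 e0.symm)
        rw [← Submodule.eq_of_le_of_finrank_le (inf_le_right : fixs (C.ρ l) ⊓ img w ≤ img w) (by rw [h2]; exact h1)]
        exact inf_le_left
      obtain ⟨x0, hx0, x1, hx1, rfl⟩ := hsplit x
      have hmem : v ∈ fixs w := by
        have h3 : C.ρ l (x0 + x1) + (x0 + x1) = v := by rw [e, add_comm, add_add_cancel']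
        rw [← h3, map_add, mem_fixs.mp (hWle hx1),
          show C.ρ l x0 + x1 + (x0 + x1) = (C.ρ l x0 + x0) + (x1 + x1) by abel, add_self', add_zero]
        exact add_mem (hW0 l x0 hx0) hx0
      rw [hv01] at hmem
      have h4 : v1 ∈ fixs w := by
        have := add_mem hv0 hmem
        rwa [add_add_cancel'] at this
      exact hwfpf v1 hv1 (mem_fixs.mp h4)
    have hvspan : ∀ x, (x = 0 ∨ x = v) → x ∈ Submodule.span (ZMod 2) {v} := by
      rintro x (rfl | rfl)
      exacts [zero_mem _, Submodule.mem_span_singleton_self _]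
    have hspan1 : finrank (ZMod 2) (Submodule.span (ZMod 2) {v}) = 1 :=
      finrank_span_singleton (C.πa_ne hg ha hne)
    have h8 := C.cent_part_card hsq
    by_cases hinv : ∃ l₀ ∈ L, ¬ Commute l₀ C.T.w
    · obtain ⟨l₀, hl₀, hinv⟩ := hinv
      have hhalf := C.half_le hl₀ hinv
      let f := (shift (C.ρ l₀)).domRestrict X
      have hr : finrank (ZMod 2) (LinearMap.range f) ≤ 1 := by
        rw [← hspan1]
        refine Submodule.finrank_mono ?_
        rintro _ ⟨x, rfl⟩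
        refine hvspan _ ?_
        show C.ρ l₀ (x : V) + x = 0 ∨ _
        rcases hX l₀ hl₀ x x.2 with e | e
        · exact Or.inl (by rw [e, add_self'])
        · right
          show C.ρ l₀ (x : V) + x = v
          rw [e, add_comm, add_add_cancel']
      have hker : finrank (ZMod 2) (LinearMap.ker f) ≤ 1 := by
        rw [← hspan1, ← LinearEquiv.finrank_eq
          (Submodule.equivMapOfInjective X.subtype Subtype.val_injective (LinearMap.ker f)).symm]
        refine Submodule.finrank_mono ?_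
        rintro _ ⟨x, hx, rfl⟩
        refine hvspan _ (hP0 _ x.2 fun l hl => ?_)
        have h0 : C.ρ l₀ (x : V) = x := add_eq_zero_iff'.mp (LinearMap.mem_ker.mp hx)
        by_cases hc : Commute l C.T.w
        · exact hXfix l hl hc x x.2
        · have h5 := hXfix _ (mul_mem hl₀ hl) (C.T.not_commute_mul hinv hc) x x.2
          rw [map_mul, LinearEquiv.mul_apply] at h5
          exact (C.ρ l₀).injective (h5.trans h0.symm)
      have hrk := LinearMap.finrank_range_add_finrank_ker f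
      have h4 : 2 ^ finrank (ZMod 2) X ≤ 2 ^ 2 := Nat.pow_le_pow_right (by norm_num) (by omega)
      nlinarith
    · push Not at hinv
      have h8' := C.T.card_elementary L hsq hinv
      have hk1 : finrank (ZMod 2) X ≤ 1 := by
        rw [← hspan1]
        exact Submodule.finrank_mono fun x hx => hvspan _ (hP0 x hx fun l hl => hXfix l hl (hinv l hl) x hx)
      have h4 : 2 ^ finrank (ZMod 2) X ≤ 2 ^ 1 := Nat.pow_le_pow_right (by norm_num) hk1
      nlinarith

end Ctx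

end Cfsg.Lib.LargeExtra.EightSmith
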