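import Cfsg.Agent.LargeExtra.EightSmith.RankOne

/-!
# Two elementary subgroups of order eight and thirty-two, and an element exchanging two conjugates
-/

set_option autoImplicit false
set_option linter.style.haveILetI false
set_option linter.unusedSectionVars false
set_option linter.unusedVariables false
set_option maxRecDepth 40000
set_option synthInstance.maxSize 4096
set_option synthInstance.maxHeartbeats 400000

open Module Equiv Subgroup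

namespace Cfsg.Lib.LargeExtra.EightSmith

universe u v w

/-- The plane of the three pairs. -/
def pL : List (Fin 256) := [0, 1, 6, 7]

theorem pL_closed : (0 : Fin 256) ∈ pL ∧ ∀ x ∈ pL, ∀ y ∈ pL, xadd x y ∈ pL := by decide +kernel

theorem yL_closed : (0 : Fin 256) ∈ yL ∧ ∀ x ∈ yL, ∀ y ∈ yL, xadd x y ∈ yL := by decide +kernel

theorem xOne_facts : (∀ x ∈ xOne, rankOne x → x ∈ ([1, 6, 7, 10, 11, 12, 13, 16, 17] : List (Fin 256))) ∧
    (∀ j ∈ ([6, 7, 10, 11, 12, 13] : List (Fin 256)), j ∈ ([6, 7] : List (Fin 256)) ∨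
      act false 0 rot3 j ∈ ([6, 7] : List (Fin 256)) ∨
      act false 0 rot3 (act false 0 rot3 j) ∈ ([6, 7] : List (Fin 256))) ∧
    (∀ x ∈ ([16, 17] : List (Fin 256)), ∀ y ∈ ([16, 17] : List (Fin 256)), xadd x y ∈ ([0, 1] : List (Fin 256))) ∧
    xadd 6 16 ∉ ([0, 1] : List (Fin 256)) ∧ (6 : Fin 256) ∈ xOne ∧ (16 : Fin 256) ∈ xOne ∧ (17 : Fin 256) ∈ xOne ∧
    (∀ x ∈ ([6, 7] : List (Fin 256)), ∀ y ∈ ([6, 7] : List (Fin 256)), xadd x y ∈ ([0, 1] : List (Fin 256))) ∧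
    (∀ x ∈ ([0, 1] : List (Fin 256)), x ∈ pL) := by decide +kernel

theorem rot3_cube : ∀ x : Fin 256, act false 0 rot3 (act false 0 rot3 (act false 0 rot3 x)) = x ∧
    act false 0 1 x = x := by decide +kernel

theorem yL_facts : (∀ y ∈ yL, ∀ y' ∈ yL, bc y y' = 0) ∧
    (∀ j : Fin 256, (∀ i ∈ yL, bc j i = 0) → j ∈ yL) ∧
    (∀ y ∈ yL, ∃ p ∈ pL, ∃ p' ∈ pL, y = xadd p (act false 1 1 p')) ∧
    (∀ y ∈ yL, act false 1 1 y ∈ yL) ∧ (∀ y ∈ pL, y ∈ yL) ∧ (16 : Fin 256) ∈ yL ∧ (17 : Fin 256) ∈ yL ∧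
    (96 : Fin 256) ∈ yL ∧ (96 : Fin 256) ∉ xOne ∧ yL.Nodup := by decide +kernel

namespace Ctx

variable {G : Type u} {H : Type v} {V : Type w} [Group G] [Finite G] [Group H] [AddCommGroup V]
  [Module (ZMod 2) V] [Finite V] {q : QuadraticForm (ZMod 2) V}

local notation "𝐁" => QuadraticMap.polarBilin q

namespace A

variable {C : Ctx G H q} (A : C.A)

/-- The subspace with the given closed list of coordinates. -/
def codeSub (l : List (Fin 256)) (hl : (0 : Fin 256) ∈ l ∧ ∀ x ∈ l, ∀ y ∈ l, xadd x y ∈ l) :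
    Submodule (ZMod 2) V where
  carrier := {u | ∃ j ∈ l, A.K.Ψ j = u}
  zero_mem' := ⟨0, hl.1, A.Ψ_zero⟩
  add_mem' := by
    rintro _ _ ⟨i, hi, rfl⟩ ⟨j, hj, rfl⟩
    exact ⟨xadd i j, hl.2 i hi j hj, A.K.add i j⟩
  smul_mem' := by
    rintro r _ ⟨i, hi, rfl⟩
    rcases zmod2_cases r with rfl | rfl
    · exact ⟨0, hl.1, by rw [A.Ψ_zero, zero_smul]⟩
    · exact ⟨i, hi, (one_smul _ _).symm⟩

/-- The subgroup of order eight over the plane of the pairs. -/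
def Z8 : Subgroup G := C.pre (A.codeSub pL pL_closed)

/-- The elementary subgroup of order thirty-two. -/
def F : Subgroup G := C.pre (A.codeSub yL yL_closed)

theorem mem_Z8 {x : G} : x ∈ A.Z8 ↔ x ∈ C.Q ∧ ∃ j ∈ pL, A.K.Ψ j = C.π x := Iff.rfl

theorem mem_F {x : G} : x ∈ A.F ↔ x ∈ C.Q ∧ ∃ j ∈ yL, A.K.Ψ j = C.π x := Iff.rfl

theorem Z8_le_F : A.Z8 ≤ A.F := fun x ⟨hx, j, hj, e⟩ => ⟨hx, j, yL_facts.2.2.2.2.1 j hj, e⟩

theorem z_mem_Z8 : C.z ∈ A.Z8 := ⟨C.x2.mem, 0, pL_closed.1, by rw [A.Ψ_zero, C.π_z]⟩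

theorem F_commute {x y : G} (hx : x ∈ A.F) (hy : y ∈ A.F) : Commute x y := by
  obtain ⟨hxQ, i, hi, ei⟩ := hx
  obtain ⟨hyQ, j, hj, ej⟩ := hy
  refine (C.π_comm _ hxQ _ hyQ).mp ?_
  rw [← ei, ← ej, A.Ψ_B, yL_facts.1 i hi j hj, Nat.cast_zero]

theorem F_max {x : G} (hx : x ∈ C.Q) (h : ∀ y ∈ A.F, Commute x y) : x ∈ A.F := by
  obtain ⟨j, hj⟩ := A.K.bij.2 (C.π x)
  refine ⟨hx, j, yL_facts.2.1 j fun i hi => natz (Nat.mod_lt _ (by norm_num)) ?_, hj⟩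
  obtain ⟨y, hy, e⟩ := C.π_surj (A.K.Ψ i)
  rw [← A.Ψ_B, hj, ← e]
  exact C.B_π hx hy (h y ⟨hy, i, hi, e.symm⟩)

/-- A centralizing element of order three in the stabilizer of `1`. -/
theorem three_code {h : H} (h3 : h * h * h = 1) (h1 : h ≠ 1) (hf : C.ρ h (A.K.Ψ 1) = A.K.Ψ 1) :
    ∃ σ : Perm (Fin 6), σ * σ * σ = 1 ∧ σ ≠ 1 ∧ act false 0 σ 1 = 1 ∧
      ∀ x, C.ρ h (A.K.Ψ x) = A.K.Ψ (act false 0 σ x) := by
  have hc : Commute h C.T.w := by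
    by_contra hn
    have e : h = (h * h) * (h * h) := by
      calc h = h * h * h * h := by rw [h3, one_mul]
        _ = _ := by group
    have h2 := C.T.not_commute_mul hn hn
    exact hn (e ▸ h2.mul_left h2)
  obtain ⟨m, hm⟩ := A.code_cent hc
  have hm1 : act false m (C.T.f h).2 1 = 1 := A.K.bij.1 (by rw [← hm, hf])
  rw [cent_fix_one m _ hm1] at hm hm1
  refine ⟨_, ?_, fun e => ?_, hm1, hm⟩
  · have := congrArg (fun y => (C.T.f y).2) h3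
    simpa using this
  · refine h1 (C.ρ_inj (LinearEquiv.ext fun v => ?_))
    obtain ⟨x, rfl⟩ := A.K.bij.2 v
    rw [hm, e, (rot3_cube x).2, map_one]; rfl

theorem to_one {a g : G} (hg : g * C.z * g⁻¹ = a) (ha : a ∈ C.Q) (hne : a ≠ C.z) :
    ∃ h, C.ρ h (C.π a) = A.K.Ψ 1 := by
  obtain ⟨x, hx⟩ := A.K.bij.2 (C.π a)
  have hq : qc x = 0 := natz (code_small _) (by rw [← A.K.form, hx]; exact C.q_πa hg ha hne)
  have hx0 : x ≠ 0 := fun e => C.πa_ne hg ha hne (by rw [← hx, e, A.Ψ_zero])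
  obtain ⟨c, hc, hr⟩ := orbit_reps x hq hx0
  obtain ⟨h, -, -, hh⟩ := A.exists_cent c.1 (orbitL_sign c hc)
  rcases hr with hr | hr
  · exact ⟨h, by rw [← hx, hh, hr]⟩
  · exfalso
    obtain ⟨y, hy, hyπ⟩ := C.π_surj (A.K.Ψ 22)
    obtain ⟨m, hmz, hμ, hma⟩ := C.exists_lift ha hy (C.πa_ne hg ha hne) (h := h) (by rw [← hx, hh, hr, hyπ])
    refine A.two_false (a := y) (g := m * g) ?_ hy ?_ hyπ
    · rw [← hma, ← hg]; group
    · intro e
      rw [← hma] at e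
      refine hne ?_
      calc a = m⁻¹ * (m * a * m⁻¹) * m := by group
        _ = C.z := by rw [e, mul_assoc, ← hmz.eq, inv_mul_cancel_left]

end A

/-- An element exchanging `z` and `a`. -/
def Sw (C : Ctx G H q) (a g : G) : Prop := g * C.z * g⁻¹ = a ∧ g * a * g⁻¹ = C.z

theorem Sw.symm {C : Ctx G H q} {a g : G} (h : C.Sw a g) : C.Sw a g⁻¹ := by
  constructor
  · rw [← h.2]; group
  · rw [← h.1]; group

namespace A

variable {C : Ctx G H q} (A : C.A)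
include A

theorem exists_sw {a₀ g₀ : G} (hg₀ : g₀ * C.z * g₀⁻¹ = a₀) (ha₀ : a₀ ∈ C.Q) (hne₀ : a₀ ≠ C.z) :
    ∃ a g, a ∈ C.Q ∧ a ≠ C.z ∧ C.π a = A.K.Ψ 1 ∧ C.Sw a g := by
  obtain ⟨h, hh⟩ := A.to_one hg₀ ha₀ hne₀
  obtain ⟨a, ha, hπ⟩ := C.π_surj (A.K.Ψ 1)
  obtain ⟨m, hmz, -, hma⟩ := C.exists_lift ha₀ ha (C.πa_ne hg₀ ha₀ hne₀) (h := h) (hh.trans hπ.symm)
  set g₁ := m * g₀ with hg₁d
  have hg₁ : g₁ * C.z * g₁⁻¹ = a := by rw [← hma, ← hg₀, hg₁d]; group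
  have hne : a ≠ C.z := fun e => hne₀ (by
    rw [← hma] at e
    calc a₀ = m⁻¹ * (m * a₀ * m⁻¹) * m := by group
      _ = C.z := by rw [e, mul_assoc, ← hmz.eq, inv_mul_cancel_left])
  have ha'Q := C.z_mem hg₁ ha hne
  have hg' : g₁⁻¹ * C.z * g₁⁻¹⁻¹ = g₁⁻¹ * C.z * g₁ := by rw [inv_inv]
  obtain ⟨h', hh'⟩ := A.to_one hg' ha'Q (C.a'_ne hg₁ ha hne)
  obtain ⟨m', hm'z, -, hm'a⟩ := C.exists_lift ha'Q ha (C.πa_ne hg' ha'Q (C.a'_ne hg₁ ha hne)) (h := h')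
    (hh'.trans hπ.symm)
  have hm'z' : m'⁻¹ * C.z * m'⁻¹⁻¹ = C.z := C.z_conj hm'z.inv_left
  refine ⟨a, g₁ * m'⁻¹, ha, hne, hπ, ?_, ?_⟩
  · rw [show g₁ * m'⁻¹ * C.z * (g₁ * m'⁻¹)⁻¹ = g₁ * (m'⁻¹ * C.z * m'⁻¹⁻¹) * g₁⁻¹ by group, hm'z', hg₁]
  · rw [← hm'a]; group

variable {a g : G} (ha : a ∈ C.Q) (hne : a ≠ C.z) (hπa : C.π a = A.K.Ψ 1)
include ha hne hπa

theorem a_mem_Z8 : a ∈ A.Z8 := ⟨ha, 1, by decide, hπa.symm⟩

theorem sw_sq_commute (hS : C.Sw a g) : Commute (g * g) C.z := by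
  show g * g * C.z = C.z * (g * g)
  calc g * g * C.z = g * (g * C.z * g⁻¹) * g⁻¹ * (g * g) := by group
    _ = g * a * g⁻¹ * (g * g) := by rw [hS.1]
    _ = _ := by rw [hS.2]

theorem meet_sw (hS : C.Sw a g) {x : G} (hx : x ∈ C.meet g) : g⁻¹ * x * g ∈ C.meet g := by
  refine C.mem_meet.mpr ⟨(C.mem_meet.mp hx).2, ?_⟩
  have h := C.conj_mem (A.sw_sq_commute ha hne hπa hS).inv_left (C.mem_meet.mp hx).1
  simpa [mul_assoc] using h

theorem meet_code (hS : C.Sw a g) {x : G} : x ∈ C.meet g ↔ x ∈ C.Q ∧ ∃ j ∈ xOne, A.K.Ψ j = C.π x := by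
  have hX := (A.one_structure hS.1 ha hne hπa).1
  rw [C.meet_eq_pre hS.1 ha hne, mem_pre]
  refine and_congr_right fun _ => ⟨fun h => ?_, fun ⟨j, hj, e⟩ => e ▸ (hX j).mpr hj⟩
  obtain ⟨j, hj⟩ := A.K.bij.2 (C.π x)
  exact ⟨j, (hX j).mp (hj ▸ h), hj⟩

theorem zero_one_fixed (hS : C.Sw a g) {x : G} (hx : x ∈ C.Q)
    (hj : ∃ j ∈ ([0, 1] : List (Fin 256)), A.K.Ψ j = C.π x) :
    (x = 1 ∨ x = C.z ∨ x = a ∨ x = C.z * a) ∧ g⁻¹ * x * g ∈ C.Q ∧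
      ∃ j ∈ ([0, 1] : List (Fin 256)), A.K.Ψ j = C.π (g⁻¹ * x * g) := by
  obtain ⟨j, hjm, e⟩ := hj
  have e1 : g⁻¹ * C.z * g = a := by have := hS.symm.1; rwa [inv_inv] at this
  have e2 : g⁻¹ * a * g = C.z := by have := hS.symm.2; rwa [inv_inv] at this
  have h4 : x = 1 ∨ x = C.z ∨ x = a ∨ x = C.z * a := by
    simp only [List.mem_cons, List.not_mem_nil, or_false] at hjm
    rcases hjm with rfl | rfl
    · rw [A.Ψ_zero] at e
      exact (C.eq_cases hx e.symm).imp id Or.inl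
    · exact Or.inr (Or.inr ((C.eq_iff ha hx).mp (hπa.trans e)))
  refine ⟨h4, ?_⟩
  rcases h4 with rfl | rfl | rfl | rfl
  · rw [mul_one, inv_mul_cancel]; exact ⟨one_mem _, 0, by decide, by rw [A.Ψ_zero, C.π_one]⟩
  · rw [e1]; exact ⟨ha, 1, by decide, hπa.symm⟩
  · rw [e2]; exact ⟨C.x2.mem, 0, by decide, by rw [A.Ψ_zero, C.π_z]⟩
  · rw [show g⁻¹ * (C.z * a) * g = (g⁻¹ * C.z * g) * (g⁻¹ * a * g) by group, e1, e2]
    exact ⟨mul_mem ha C.x2.mem, 1, by decide, by rw [C.π_mul _ ha _ C.x2.mem, C.π_z, add_zero, hπa]⟩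

theorem exists_rot : ∃ d : G, Commute d C.z ∧ Commute d a ∧ d ^ 3 = 1 ∧ C.μ d ≠ 1 ∧
    ∀ x, C.ρ (C.μ d) (A.K.Ψ x) = A.K.Ψ (act false 0 rot3 x) := by
  obtain ⟨r, -, -, hr⟩ := A.exists_cent 0 rot3_ok.1
  obtain ⟨m, hmz, hμ, hma⟩ := C.exists_lift ha ha
    (fun e => by
      rw [hπa] at e
      exact absurd (A.K.bij.1 (e.trans A.Ψ_zero.symm)) (by decide)) (h := r)
    (by rw [hπa, hr, rot3_ok.2.2.1])
  have hr3 : r ^ 3 = 1 := by
    refine C.ρ_inj (LinearEquiv.ext fun v => ?_)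
    obtain ⟨x, rfl⟩ := A.K.bij.2 v
    rw [pow_succ, pow_two, map_mul, map_mul, LinearEquiv.mul_apply, LinearEquiv.mul_apply, hr, hr, hr,
      (rot3_cube x).1, map_one]; rfl
  have hm3 : m ^ 3 ∈ C.Q := (C.μ_ker _ (hmz.pow_left 3)).mp (by rw [C.μ_pow hmz, hμ, hr3])
  have hm12 : (m ^ 3) ^ 4 = 1 := by
    rw [show (4 : ℕ) = 2 * 2 from rfl, pow_mul, pow_two (m ^ 3)]
    rcases C.x2.sq _ hm3 with e | e <;> rw [e]
    · exact one_pow 2
    · rw [pow_two, C.x2.zz]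
  have hr4 : r ^ 4 = r := by rw [pow_succ, hr3, one_mul]
  refine ⟨m ^ 4, hmz.pow_left 4, Commute.pow_left (mul_inv_eq_iff_eq_mul.mp hma) 4, ?_, ?_, fun x => ?_⟩
  · rw [← pow_mul, show 4 * 3 = 3 * 4 from rfl, pow_mul, hm12]
  · rw [C.μ_pow hmz, hμ, hr4]
    intro e
    have h6 := hr 6
    rw [e, map_one] at h6
    exact rot3_ok.2.2.2.1 (A.K.bij.1 h6).symm
  · rw [C.μ_pow hmz, hμ, hr4, hr]

theorem sixteen (hS : C.Sw a g) {e : G} (he : e ∈ C.Q)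
    (hj : ∃ j ∈ ([16, 17] : List (Fin 256)), A.K.Ψ j = C.π e) :
    g⁻¹ * e * g ∈ C.Q ∧ ∃ j ∈ ([16, 17] : List (Fin 256)), A.K.Ψ j = C.π (g⁻¹ * e * g) := by
  obtain ⟨d, hdz, hda, hd3, hdμ, hd⟩ := A.exists_rot ha hne hπa
  obtain ⟨j, hjm, ej⟩ := hj
  have hmeet : e ∈ C.meet g := (A.meet_code ha hne hπa hS).mpr ⟨he, j, by
    simp only [List.mem_cons, List.not_mem_nil, or_false] at hjm
    rcases hjm with rfl | rfl <;> decide, ej⟩
  obtain ⟨hfQ, i, hi, ei⟩ := (A.meet_code ha hne hπa hS).mp (A.meet_sw ha hne hπa hS hmeet)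
  set f := g⁻¹ * e * g with hf
  refine ⟨hfQ, i, ?_, ei⟩
  -- `d` fixes `e` modulo `z`
  have hrot : act false 0 rot3 j = j := by
    simp only [List.mem_cons, List.not_mem_nil, or_false] at hjm
    rcases hjm with rfl | rfl <;> decide +kernel
  have hde : d * e * d⁻¹ = e ∨ d * e * d⁻¹ = C.z * e :=
    (C.eq_iff he (C.conj_mem hdz he)).mp (by rw [← C.ρ_π d hdz e he, ← ej, hd, hrot])
  set d' := g⁻¹ * d * g with hd'
  have hd'z : Commute d' C.z := by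
    show g⁻¹ * d * g * C.z = C.z * (g⁻¹ * d * g)
    calc g⁻¹ * d * g * C.z = g⁻¹ * (d * a) * g := by rw [← hS.1]; group
      _ = g⁻¹ * (a * d) * g := by rw [hda.eq]
      _ = _ := by rw [← hS.1]; group
  have hd'a : d' * a * d'⁻¹ = a := by
    have e1 : g⁻¹ * C.z * g = a := by have := hS.symm.1; rwa [inv_inv] at this
    calc d' * a * d'⁻¹ = g⁻¹ * (d * (g * a * g⁻¹) * d⁻¹) * g := by rw [hd']; group
      _ = g⁻¹ * C.z * g := by rw [hS.2, C.z_conj hdz]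
      _ = a := e1
  have hd'3 : d' * d' * d' = 1 := by
    rw [hd', show g⁻¹ * d * g * (g⁻¹ * d * g) * (g⁻¹ * d * g) = g⁻¹ * d ^ 3 * g by
      simp [pow_succ, mul_assoc], hd3, mul_one,
      inv_mul_cancel]
  have h3 : C.μ d' * C.μ d' * C.μ d' = 1 := by
    rw [← C.μ_mul _ _ hd'z hd'z, ← C.μ_mul _ _ (hd'z.mul_left hd'z) hd'z, hd'3, C.μ_one]
  have h1 : C.μ d' ≠ 1 := fun e1 => hdμ (by
    have hQ' := (C.μ_ker _ hd'z).mp e1
    have h4 : (d' * d') * (d' * d') = 1 := by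
      rcases C.x2.sq _ hQ' with h | h <;> rw [h]
      · exact one_mul 1
      · exact C.x2.zz
    have hd1 : d' = 1 := by
      calc d' = (d' * d' * d') * d' := by rw [hd'3, one_mul]
        _ = (d' * d') * (d' * d') := by group
        _ = 1 := h4
    rw [hd'] at hd1
    rw [show d = g * (g⁻¹ * d * g) * g⁻¹ by group, hd1, mul_one, mul_inv_cancel, C.μ_one])
  obtain ⟨σ, hσ3, hσ1, hσf, hσ⟩ := A.three_code h3 h1 (by rw [← hπa, C.ρ_π d' hd'z a ha, hd'a])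
  have hcase : act false 0 σ i = i ∨ act false 0 σ i = xadd i 1 := by
    rcases hde with h | h
    · left
      refine A.K.bij.1 ?_
      rw [← hσ, ei, C.ρ_π d' hd'z f hfQ]
      congr 1
      calc d' * f * d'⁻¹ = g⁻¹ * (d * e * d⁻¹) * g := by rw [hd', hf]; group
        _ = f := by rw [h]
    · right
      refine A.K.bij.1 ?_
      rw [← hσ, ei, C.ρ_π d' hd'z f hfQ, A.K.add, ei, ← hπa, add_comm, ← C.π_mul _ ha _ hfQ]
      congr 1
      have e1 : g⁻¹ * C.z * g = a := by have := hS.symm.1; rwa [inv_inv] at this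
      calc d' * f * d'⁻¹ = g⁻¹ * (d * e * d⁻¹) * g := by rw [hd', hf]; group
        _ = g⁻¹ * C.z * g * (g⁻¹ * e * g) := by rw [h]; group
        _ = a * f := by rw [e1]
  have hfour := three_fix σ hσ3 hσf hσ1 i hi hcase
  simp only [List.mem_cons, List.not_mem_nil, or_false] at hfour ⊢
  rcases hfour with h | h | h | h
  rotate_left 2
  · exact Or.inl h
  · exact Or.inr h
  all_goals
    exfalso
    obtain ⟨-, -, k, hk, ek⟩ := A.zero_one_fixed ha hne hπa hS.symm hfQ ⟨i, by simp [h], ei⟩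
    rw [show g⁻¹⁻¹ * f * g⁻¹ = e by rw [hf]; group, ← ej] at ek
    have hkj := A.K.bij.1 ek
    simp only [List.mem_cons, List.not_mem_nil, or_false] at hk hjm
    rcases hk with rfl | rfl <;> rcases hjm with rfl | rfl <;> exact absurd hkj (by decide)

/-- A conjugate of `z` over each pair. -/
theorem pair_conj (hS : C.Sw a g) {x : G} (hx : x ∈ C.Q) {σ : Perm (Fin 6)} (hσ : Perm.sign σ = 1)
    (hj : A.K.Ψ (act false 0 σ 1) = C.π x) : ∃ k, k * C.z * k⁻¹ = x := by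
  obtain ⟨h, -, -, hh⟩ := A.exists_cent 0 hσ
  obtain ⟨m, -, -, hm⟩ := C.exists_lift ha hx (C.πa_ne hS.1 ha hne) (h := h) (by rw [hπa, hh, hj])
  exact ⟨m * g, by rw [← hm, ← hS.1]; group⟩

/-- An element exchanging `z` and `a` and normalizing the subgroup of order eight. -/
theorem exists_swap_norm (hS : C.Sw a g) : ∃ k, C.Sw a k ∧ k ∈ normalizer (A.Z8 : Set G) := by
  obtain ⟨u, hu, huπ⟩ := C.π_surj (A.K.Ψ 6)
  obtain ⟨e, he, heπ⟩ := C.π_surj (A.K.Ψ 16)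
  have humeet : u ∈ C.meet g := (A.meet_code ha hne hπa hS).mpr ⟨hu, 6, xOne_facts.2.2.2.2.1, huπ.symm⟩
  obtain ⟨hxQ, j, hj, ej⟩ := (A.meet_code ha hne hπa hS).mp (A.meet_sw ha hne hπa hS humeet)
  set x := g⁻¹ * u * g with hxd
  obtain ⟨k₁, hk₁⟩ := A.pair_conj ha hne hπa hS hu rotP_ok.1 (by rw [rotP_ok.2.1, huπ])
  have hnot : ∀ i ∈ ([0, 1] : List (Fin 256)), i ≠ j := by
    rintro i hi rfl
    obtain ⟨-, -, k, hk, ek⟩ := A.zero_one_fixed ha hne hπa hS.symm hxQ ⟨i, hi, ej⟩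
    rw [show g⁻¹⁻¹ * x * g⁻¹ = u by rw [hxd]; group, huπ] at ek
    have := A.K.bij.1 ek
    simp only [List.mem_cons, List.not_mem_nil, or_false] at hk
    rcases hk with rfl | rfl <;> exact absurd this (by decide)
  have hxne : x ≠ C.z := fun h => hnot 0 (by decide) (A.K.bij.1 (by rw [ej, h, C.π_z, A.Ψ_zero]))
  have hxk : (g⁻¹ * k₁) * C.z * (g⁻¹ * k₁)⁻¹ = x := by rw [hxd, ← hk₁]; group
  obtain ⟨j', hj', ej'⟩ := A.rankOne_conj hxk hxQ hxne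
  rw [← A.K.bij.1 (ej.trans ej')] at hj'
  have hj6 : j ∈ ([6, 7, 10, 11, 12, 13] : List (Fin 256)) := by
    have h9 := xOne_facts.1 j hj hj'
    have hn16 : j ∉ ([16, 17] : List (Fin 256)) := by
      intro h16
      obtain ⟨hfQ, i, hi, ei⟩ := A.sixteen ha hne hπa hS he ⟨16, by decide, heπ.symm⟩
      obtain ⟨-, -, k, hk, ek⟩ := A.zero_one_fixed ha hne hπa hS.symm (mul_mem hxQ hfQ)
        ⟨xadd j i, xOne_facts.2.2.1 j h16 i hi, by rw [A.K.add, ej, ei, C.π_mul _ hxQ _ hfQ]⟩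
      rw [show g⁻¹⁻¹ * (x * (g⁻¹ * e * g)) * g⁻¹ = u * e by rw [hxd]; group, C.π_mul _ hu _ he, huπ, heπ,
        ← A.K.add] at ek
      exact xOne_facts.2.2.2.1 (A.K.bij.1 ek ▸ hk)
    have h1 := hnot 1 (by decide)
    simp only [List.mem_cons, List.not_mem_nil, or_false, not_or] at h9 hn16 ⊢
    rcases h9 with h | h | h | h | h | h | h | h | h
    · exact absurd h.symm h1
    · exact Or.inl h
    · exact Or.inr (Or.inl h)
    · exact Or.inr (Or.inr (Or.inl h))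
    · exact Or.inr (Or.inr (Or.inr (Or.inl h)))
    · exact Or.inr (Or.inr (Or.inr (Or.inr (Or.inl h))))
    · exact Or.inr (Or.inr (Or.inr (Or.inr (Or.inr h))))
    · exact absurd h hn16.1
    · exact absurd h hn16.2
  obtain ⟨d, hdz, hda, -, -, hd⟩ := A.exists_rot ha hne hπa
  obtain ⟨D, hDz, hDa, i, hi, eD⟩ : ∃ D, Commute D C.z ∧ Commute D a ∧
      ∃ i ∈ ([6, 7] : List (Fin 256)), A.K.Ψ i = C.π (D * x * D⁻¹) := by
    rcases xOne_facts.2.1 j hj6 with h | h | h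
    · exact ⟨1, Commute.one_left _, Commute.one_left _, j, h, by rw [one_mul, inv_one, mul_one]; exact ej⟩
    · exact ⟨d, hdz, hda, _, h, by rw [← C.ρ_π d hdz x hxQ, ← ej, hd]⟩
    · refine ⟨d * d, hdz.mul_left hdz, hda.mul_left hda, _, h, ?_⟩
      rw [← C.ρ_π _ (hdz.mul_left hdz) x hxQ, ← ej, C.μ_mul _ _ hdz hdz, map_mul, LinearEquiv.mul_apply, hd, hd]
  set k := g * D⁻¹ with hk
  have hD1 : D⁻¹ * C.z * D⁻¹⁻¹ = C.z := C.z_conj hDz.inv_left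
  have hD2 : D⁻¹ * a * D⁻¹⁻¹ = a := by rw [hDa.inv_left.eq, mul_inv_cancel_right]
  have hSk : C.Sw a k := by
    constructor
    · rw [hk, show g * D⁻¹ * C.z * (g * D⁻¹)⁻¹ = g * (D⁻¹ * C.z * D⁻¹⁻¹) * g⁻¹ by group, hD1, hS.1]
    · rw [hk, show g * D⁻¹ * a * (g * D⁻¹)⁻¹ = g * (D⁻¹ * a * D⁻¹⁻¹) * g⁻¹ by group, hD2, hS.2]
  refine ⟨k, hSk, ?_⟩
  have hgen : ∀ y ∈ A.Z8, k⁻¹ * y * k ∈ A.Z8 := by
    have hlow : ∀ y ∈ C.Q, (∃ l ∈ ([0, 1] : List (Fin 256)), A.K.Ψ l = C.π y) → k⁻¹ * y * k ∈ A.Z8 :=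
      fun y hy hl => by
        obtain ⟨-, hQ', l, hl', el⟩ := A.zero_one_fixed ha hne hπa hSk hy hl
        exact ⟨hQ', l, xOne_facts.2.2.2.2.2.2.2.2 l hl', el⟩
    have huk : k⁻¹ * u * k ∈ A.Z8 := by
      rw [show k⁻¹ * u * k = D * x * D⁻¹ by rw [hk, hxd]; group]
      refine ⟨C.conj_mem hDz hxQ, i, ?_, eD⟩
      simp only [List.mem_cons, List.not_mem_nil, or_false] at hi
      rcases hi with rfl | rfl <;> decide
    rintro y ⟨hy, l, hl, el⟩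
    simp only [pL, List.mem_cons, List.not_mem_nil, or_false] at hl
    rcases hl with rfl | rfl | h
    · exact hlow y hy ⟨0, by decide, el⟩
    · exact hlow y hy ⟨1, by decide, el⟩
    · rw [show k⁻¹ * y * k = k⁻¹ * (y * u⁻¹) * k * (k⁻¹ * u * k) by group]
      refine mul_mem (hlow _ (mul_mem hy (inv_mem hu)) ⟨xadd l 6, ?_, ?_⟩) huk
      · rcases h with rfl | rfl <;> decide
      · rw [A.K.add, el, C.π_mul _ hy _ (inv_mem hu), C.π_inv hu, huπ]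
  have hmem := Cfsg.Lib.ZStarApps.mem_normalizer_of_maps (A := A.Z8) (g := k⁻¹) fun y hy => by
    rw [inv_inv]; exact hgen y hy
  simpa using inv_mem hmem

/-- The conjugate of `F` by the exchanging element centralizes `F`. -/
theorem swap_commute {k : G} (hS : C.Sw a k) (hN : k ∈ normalizer (A.Z8 : Set G)) {y : G} (hy : y ∈ A.F) :
    Commute (k * y * k⁻¹) C.z ∧
      (C.μ (k * y * k⁻¹) = 1 ∨ (Commute (C.μ (k * y * k⁻¹)) C.T.w ∧
        (C.T.f (C.μ (k * y * k⁻¹))).2 = swap 2 3 * swap 4 5)) ∧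
      ∀ x ∈ A.F, Commute (k * y * k⁻¹) x := by
  have main : ∀ k, C.Sw a k → k ∈ normalizer (A.Z8 : Set G) → ∀ y ∈ A.F, Commute (k * y * k⁻¹) C.z ∧
      (C.μ (k * y * k⁻¹) = 1 ∨ (Commute (C.μ (k * y * k⁻¹)) C.T.w ∧
        (C.T.f (C.μ (k * y * k⁻¹))).2 = swap 2 3 * swap 4 5)) ∧
      ∀ x ∈ A.F, k * y * k⁻¹ * x * (k * y * k⁻¹)⁻¹ = x ∨ k * y * k⁻¹ * x * (k * y * k⁻¹)⁻¹ = C.z * x := by
    intro k hS hN y hy
    have hconj : ∀ x, k⁻¹ * x * k ∈ A.F → Commute (k * y * k⁻¹) x := fun x hx => by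
      have h := (A.F_commute hy hx).eq
      show k * y * k⁻¹ * x = x * (k * y * k⁻¹)
      calc k * y * k⁻¹ * x = k * (y * (k⁻¹ * x * k)) * k⁻¹ := by group
        _ = k * ((k⁻¹ * x * k) * y) * k⁻¹ := by rw [h]
        _ = _ := by group
    have h8 : ∀ x ∈ A.Z8, k⁻¹ * x * k ∈ A.F := fun x hx =>
      A.Z8_le_F (by simpa using (mem_normalizer_iff.mp (inv_mem hN) x).mp hx)
    have hyz : Commute (k * y * k⁻¹) C.z := hconj _ (h8 _ A.z_mem_Z8)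
    have hfix : ∀ x ∈ C.Q, Commute (k * y * k⁻¹) x → C.ρ (C.μ (k * y * k⁻¹)) (C.π x) = C.π x := fun x hx hc => by
      rw [C.ρ_π _ hyz x hx, hc.eq, mul_inv_cancel_right]
    obtain ⟨u, hu, huπ⟩ := C.π_surj (A.K.Ψ 6)
    obtain ⟨e, he, heπ⟩ := C.π_surj (A.K.Ψ 16)
    have h6 := hfix u hu (hconj _ (h8 _ ⟨hu, 6, by decide, huπ.symm⟩))
    have h16 := hfix e he (hconj _ (by
      obtain ⟨hQ', i, hi, ei⟩ := A.sixteen ha hne hπa hS he ⟨16, by decide, heπ.symm⟩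
      refine ⟨hQ', i, ?_, ei⟩
      simp only [List.mem_cons, List.not_mem_nil, or_false] at hi
      rcases hi with rfl | rfl
      exacts [yL_facts.2.2.2.2.2.1, yL_facts.2.2.2.2.2.2.1]))
    rw [huπ] at h6
    rw [heπ] at h16
    have hmu := (A.one_structure hS.1 ha hne hπa).2 _ hyz
      (by rw [show k⁻¹ * (k * y * k⁻¹) * k = y by group]; exact hy.1) h6 h16
    refine ⟨hyz, hmu, fun x ⟨hx, j, hj, ej⟩ => ?_⟩
    refine (C.eq_iff hx (C.conj_mem hyz hx)).mp ?_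
    rw [← C.ρ_π _ hyz x hx]
    rcases hmu with h | ⟨hc, hs⟩
    · rw [h, map_one]; rfl
    · have hsq : C.μ (k * y * k⁻¹) * C.μ (k * y * k⁻¹) = 1 := by
        rw [← C.μ_mul _ _ hyz hyz, show k * y * k⁻¹ * (k * y * k⁻¹) = k * (y * y) * k⁻¹ by group,
          (C.π_sq y hy.1).mp (by
            obtain ⟨-, i, hi, ei⟩ := hy
            rw [← ei, A.K.form, show qc i = 0 from by
              have : ∀ i ∈ yL, qc i = 0 := by decide +kernel
              exact this i hi, Nat.cast_zero]), mul_one, mul_inv_cancel, C.μ_one]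
      rw [← ej, A.code_invol hsq hc, hs]
      rw [(fix_space _ List.mem_cons_self j).mpr hj]
  obtain ⟨h1, h2, h3⟩ := main k hS hN y hy
  refine ⟨h1, h2, fun x hx => ?_⟩
  rcases h3 x hx with h | h
  · exact mul_inv_eq_iff_eq_mul.mp h
  exfalso
  obtain ⟨-, -, h3'⟩ := main k⁻¹ hS.symm (inv_mem hN) x hx
  set y' := k * y * k⁻¹ with hy'
  have e0 : x * y' * x⁻¹ = C.z * y' := by
    have h' : y' * x = C.z * (x * y') := by rw [← mul_assoc]; exact mul_inv_eq_iff_eq_mul.mp h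
    calc x * y' * x⁻¹ = C.z * C.z * (x * y') * x⁻¹ := by rw [C.x2.zz, one_mul]
      _ = C.z * (C.z * (x * y')) * x⁻¹ := by group
      _ = C.z * (y' * x) * x⁻¹ := by rw [h']
      _ = _ := by group
  have ek : x * y' * x⁻¹ = k * (k⁻¹ * x * k⁻¹⁻¹ * y * (k⁻¹ * x * k⁻¹⁻¹)⁻¹) * k⁻¹ := by rw [hy']; group
  rcases h3' y hy with h' | h'
  · rw [h', ← hy', e0] at ek
    exact C.x2.ne (mul_eq_right.mp ek)
  · rw [h', show k * (C.z * y) * k⁻¹ = k * C.z * k⁻¹ * y' by rw [hy']; group, hS.1, e0] at ek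
    exact hne (mul_right_cancel ek).symm

end A

end Ctx

end Cfsg.Lib.LargeExtra.EightSmith
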