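import Cfsg.Agent.LargeExtra.EightSmith.NonClosed
import Cfsg.Agent.LargeExtra.EightSmith.CodeOne
import Cfsg.Agent.LargeExtra.EightSmith.CodeTwo
import Cfsg.Agent.LargeExtra.EightSmith.CodeOrbit

/-!
# The vector of a conjugate of the involution inside the extraspecial subgroup
-/

set_option autoImplicit false
set_option linter.style.haveILetI false
set_option linter.unusedSectionVars false
set_option linter.unusedVariables false
set_option maxRecDepth 40000

open Module Equiv Subgroup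

namespace Cfsg.Lib.LargeExtra.EightSmith

universe u v w

/-- The three double transpositions off a pair. -/
def fourL : List (Perm (Fin 6)) := [swap 2 3 * swap 4 5, swap 2 4 * swap 3 5, swap 2 5 * swap 3 4]

theorem four_orbit : ∀ p ∈ fourL, ∀ π ∈ fourL,
    π = p ∨ π = rot3 * p * rot3⁻¹ ∨ π = rot3 * (rot3 * p * rot3⁻¹) * rot3⁻¹ := by decide +kernel

theorem fourL_misc : (∀ π ∈ fourL, π ≠ 1 ∧ π ≠ swap 0 1 * (swap 2 3 * swap 4 5) ∧ π ≠ swap 0 1) ∧
    fourL.Nodup ∧ (∀ σ ∈ invL, act true 0 σ 16 ≠ 16) ∧ (∀ y : Fin 256, y ∈ perpAllOne ↔ bc y 1 = 0) ∧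
    (∀ y ∈ perpTwo, bc y 22 = 0) := by decide +kernel

theorem code_small : ∀ x : Fin 256, qc x < 2 := fun _ => Nat.mod_lt _ (by norm_num)

theorem natz {n : ℕ} (hn : n < 2) (h : (n : ZMod 2) = 0) : n = 0 := by
  rcases (show n = 0 ∨ n = 1 by omega) with rfl | rfl
  · rfl
  · exact absurd h (by decide)

namespace Ctx

variable {G : Type u} {H : Type v} {V : Type w} [Group G] [Finite G] [Group H] [AddCommGroup V]
  [Module (ZMod 2) V] [Finite V] {q : QuadraticForm (ZMod 2) V}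

local notation "𝐁" => QuadraticMap.polarBilin q

namespace A

variable {C : Ctx G H q} (A : C.A)

include A

theorem Ψ_zero : A.K.Ψ 0 = 0 := by
  have h := A.K.add 0 0
  rwa [show xadd 0 0 = 0 by decide +kernel, add_self'] at h

theorem Ψ_B (x y : Fin 256) : 𝐁 (A.K.Ψ x) (A.K.Ψ y) = (bc x y : ZMod 2) := by
  have h := q_add (q := q) (A.K.Ψ x) (A.K.Ψ y)
  rw [← A.K.add, A.K.form, A.K.form, A.K.form] at h
  rw [bc, ZMod.natCast_mod, Nat.cast_add, Nat.cast_add, h]
  generalize (qc x : ZMod 2) = a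
  generalize (qc y : ZMod 2) = b
  generalize 𝐁 (A.K.Ψ x) (A.K.Ψ y) = c
  revert a b c
  decide

theorem Ψ_shift {e : Bool} {m : Fin 3} {σ : Perm (Fin 6)} {l : H}
    (h : ∀ x, C.ρ l (A.K.Ψ x) = A.K.Ψ (act e m σ x)) (y : Fin 256) :
    C.ρ l (A.K.Ψ y) + A.K.Ψ y = A.K.Ψ (xadd (act e m σ y) y) := by rw [A.K.add, h]

theorem snd_sq {l : H} (h2 : l * l = 1) : (C.T.f l).2 * (C.T.f l).2 = 1 := by
  have := congrArg (fun y => (C.T.f y).2) h2
  simpa using this

theorem snd_inj {l l' : H} (h2 : l * l = 1) (hc : Commute l C.T.w) (h2' : l' * l' = 1) (hc' : Commute l' C.T.w)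
    (h : (C.T.f l).2 = (C.T.f l').2) : l = l' :=
  C.T.inj (Prod.ext (by rw [C.T.fst_eq_one h2 hc, C.T.fst_eq_one h2' hc']) h)

theorem snd_mem {l : H} (h2 : l * l = 1) (hc : Commute l C.T.w) (h1 : l ≠ 1) :
    (C.T.f l).2 ∈ involutionsL :=
  involutionsL_complete _ (A.snd_sq h2) fun e => h1
    (A.snd_inj h2 hc (one_mul 1) (Commute.one_left _) (by rw [e, map_one]; rfl))

theorem snd_mem' {l : H} (h2 : l * l = 1) : (C.T.f l).2 ∈ (1 : Perm (Fin 6)) :: involutionsL := by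
  by_cases h : (C.T.f l).2 = 1
  · rw [h]; exact List.mem_cons_self
  · exact List.mem_cons_of_mem _ (involutionsL_complete _ (A.snd_sq h2) h)

variable {a g : G} (hg : g * C.z * g⁻¹ = a) (ha : a ∈ C.Q) (hne : a ≠ C.z)
include hg ha hne

theorem inverting_exists {L : Subgroup H} (hsq : ∀ l ∈ L, l * l = 1) (hfix : ∀ l ∈ L, C.ρ l (C.π a) = C.π a)
    (hsh : ∀ l ∈ L, ∀ u, 𝐁 u (C.π a) = 0 → C.ρ l u + u ∈ C.ximg g)
    (hX : ∀ l ∈ L, ∀ u ∈ C.ximg g, C.ρ l u = u ∨ C.ρ l u = u + C.π a)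
    (hP0 : ∀ u ∈ C.ximg g, (∀ l ∈ L, C.ρ l u = u) → u = 0 ∨ u = C.π a) (h8 : 8 ≤ Nat.card L) :
    ∃ l₀ ∈ L, ¬ Commute l₀ C.T.w := by
  classical
  by_contra hno
  push Not at hno
  haveI : Finite H := Finite.of_injective _ C.T.inj
  haveI := Fintype.ofFinite H
  set w := A.R.w with hw
  set v := C.π a with hv
  have hv0 : v ≠ 0 := C.πa_ne hg ha hne
  have hwv : w v ≠ v := fun e => hv0 (A.R.fpfw v e)
  have hlw : ∀ l ∈ L, ∀ x, C.ρ l (w x) = w (C.ρ l x) := fun l hl x => by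
    rw [hw, A.hw, ← LinearEquiv.mul_apply, ← map_mul, (hno l hl).eq, map_mul]; rfl
  have hwwv : w (w v) = v + w v := by
    have h := A.R.wsum v
    exact (add_eq_zero_iff'.mp h).symm
  -- the translate of the intersection meets it trivially
  have hXfix : ∀ x ∈ C.ximg g, w x ∈ C.ximg g → ∀ l ∈ L, C.ρ l x = x := by
    intro x hx hwx l hl
    refine (hX l hl x hx).resolve_right fun e => ?_
    have h1 : C.ρ l (w x) = w x + w v := by rw [hlw l hl, e, map_add]
    rcases hX l hl _ hwx with e' | e' <;> rw [e'] at h1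
    · exact hv0 (w.map_eq_zero_iff.mp (left_eq_add.mp h1))
    · exact hwv (add_left_cancel h1).symm
  have hXw : ∀ x ∈ C.ximg g, w x ∈ C.ximg g → x = 0 := by
    intro x hx hwx
    rcases hP0 x hx (hXfix x hx hwx) with e | e
    · exact e
    exfalso
    have hf : ∀ l ∈ L, C.ρ l (w x) = w x := fun l hl => by rw [hlw l hl, hXfix x hx hwx l hl]
    rcases hP0 (w x) hwx hf with e' | e' <;> rw [e] at e'
    · exact hv0 (w.map_eq_zero_iff.mp e')
    · exact hwv e'
  set M := C.S.perp (Submodule.span (ZMod 2) {v, w v}) with hM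
  have hMmem : ∀ {y}, y ∈ M → 𝐁 y v = 0 ∧ 𝐁 (w y) v = 0 := by
    intro y hy
    have h1 := C.S.mem_perp.mp hy v (Submodule.subset_span (by simp))
    have h2 := C.S.mem_perp.mp hy (w v) (Submodule.subset_span (by simp))
    refine ⟨by rw [B_comm]; exact h1, ?_⟩
    have h3 := A.R.isow.B (w (w y)) (w (w v))
    have h4 := A.R.isow.B y (w (w v))
    rw [← hw, A.R.www] at h4
    rw [h4, hwwv, map_add, B_comm, h1, B_comm, h2, add_zero]
  have hTS : ∀ x ∈ C.S.perp M, q x = 0 := by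
    intro x hx
    rw [hM, C.S.perp_perp] at hx
    obtain ⟨r, s, rfl⟩ := Submodule.mem_span_pair.mp hx
    have hqv : q v = 0 := C.q_πa hg ha hne
    rcases zmod2_cases r with rfl | rfl <;> rcases zmod2_cases s with rfl | rfl <;>
      simp only [zero_smul, one_smul, zero_add, add_zero, QuadraticMap.map_zero]
    · rw [A.R.isow, hqv]
    · exact hqv
    · rw [← hwwv, A.R.isow, A.R.isow, hqv]
  have hdim : finrank (ZMod 2) V ≤ finrank (ZMod 2) M + 2 := by
    have h1 := C.S.finrank_perp (Submodule.span (ZMod 2) {v, w v})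
    have h2 : finrank (ZMod 2) (Submodule.span (ZMod 2) ({v, w v} : Set V)) ≤ 2 := by
      have h := finrank_span_finset_le_card (R := ZMod 2) ({v, w v} : Finset V)
      rw [Finset.coe_pair] at h
      exact h.trans Finset.card_le_two
    rw [← hM] at h1
    omega
  let T := (Finset.univ.filter fun l : H => l ∈ L).image fun l => C.ρ l
  have hT : T.card = Nat.card L := by
    rw [Finset.card_image_of_injective _ C.ρ_inj, ← Fintype.card_subtype, Nat.card_eq_fintype_card]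
  have := C.S.fix_large hdim hTS (T := T) (fun k hk => by
    obtain ⟨l, hl, rfl⟩ := Finset.mem_image.mp hk
    rw [Finset.mem_filter] at hl
    refine ⟨C.ρ_iso _, fun y hy => ?_⟩
    obtain ⟨h1, h2⟩ := hMmem hy
    have hd := hsh l hl.2 y h1
    have hd' := hsh l hl.2 (w y) h2
    rw [hlw l hl.2, ← map_add] at hd'
    exact add_eq_zero_iff'.mp (hXw _ hd hd'))
  omega

/-- The vector of a conjugate is not of rank two. -/
theorem two_false (hv : C.π a = A.K.Ψ 22) : False := by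
  obtain ⟨L, hab, hsq, hfix, hsh, hX, hP0, hcard, -, -⟩ := C.exists_L' hg ha hne
  classical
  haveI : Finite H := Finite.of_injective _ C.T.inj
  have h8 : 8 ≤ Nat.card L := by
    have := C.ximg_dim hg ha hne
    have h4 : 2 ^ finrank (ZMod 2) (C.ximg g) ≤ 2 ^ 4 := Nat.pow_le_pow_right (by norm_num) this
    nlinarith
  obtain ⟨s, hs, hsi⟩ := A.inverting_exists hg ha hne hsq hfix hsh hX hP0 h8
  obtain ⟨m, hm⟩ := A.code_inv hsi
  set σ := (C.T.f s).2 with hσ
  have hperp : ∀ y ∈ perpTwo, 𝐁 (A.K.Ψ y) (C.π a) = 0 := fun y hy => by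
    rw [hv, A.Ψ_B, fourL_misc.2.2.2.2 y hy, Nat.cast_zero]
  have hq : ∀ y ∈ perpTwo, qc (xadd (act true m σ y) y) = 0 := fun y hy => natz (code_small _) (by
    rw [← A.K.form, ← A.Ψ_shift hm]
    exact C.ximg_ts hg ha hne _ (hsh s hs _ (hperp y hy)))
  have hv22 : act true m σ 22 = 22 := A.K.bij.1 (by rw [← hm, ← hv]; exact hfix s hs)
  have hsL := inverting_two σ (A.snd_mem' (hsq s hs)) m hv22 (hq 10 (by decide)) (hq 34 (by decide))
  have hcent : ∀ l ∈ L ⊓ centralizer ({C.T.w} : Set H), l ≠ 1 →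
      (C.T.f l).2 ∈ centTwoL ∧ CompatTwo m σ (C.T.f l).2 := by
    rintro l ⟨hlL, hlc⟩ h1
    have hc : Commute l C.T.w := mem_centralizer_singleton_iff.mp hlc
    have hl := A.code_invol (hsq l hlL) hc
    refine ⟨centTwoL_complete _ (A.snd_mem (hsq l hlL) hc h1)
      (A.K.bij.1 (by rw [← hl, ← hv]; exact hfix l hlL)), ?_, ?_, ?_⟩
    · refine A.K.bij.1 ?_
      rw [← hm, ← hl, ← hl, ← hm, ← LinearEquiv.mul_apply, ← LinearEquiv.mul_apply, ← map_mul, ← map_mul,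
        (hab s hs l hlL).eq]
    all_goals
      refine natz (Nat.mod_lt _ (by norm_num)) ?_
      rw [← A.Ψ_B, ← A.Ψ_shift hm, ← A.Ψ_shift hl]
      exact QS.B_of_ts (C.ximg_ts hg ha hne) _ (hsh s hs _ (hperp _ (by decide))) _
        (hsh l hlL _ (hperp _ (by decide)))
  have hle : Nat.card ↥(L ⊓ centralizer ({C.T.w} : Set H)) ≤ 2 := by
    let F : ↥(L ⊓ centralizer ({C.T.w} : Set H)) → Bool := fun l => decide ((l : H) = 1)
    have hF : Function.Injective F := by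
      intro l l' e
      by_cases h1 : (l : H) = 1
      · exact Subtype.ext (h1.trans ((decide_eq_decide.mp e).mp h1).symm)
      · have h1' : (l' : H) ≠ 1 := fun e' => h1 ((decide_eq_decide.mp e).mpr e')
        obtain ⟨c1, d1⟩ := hcent l l.2 h1
        obtain ⟨c2, d2⟩ := hcent l' l'.2 h1'
        exact Subtype.ext (A.snd_inj (hsq _ l.2.1) (mem_centralizer_singleton_iff.mp l.2.2) (hsq _ l'.2.1)
          (mem_centralizer_singleton_iff.mp l'.2.2) (centralizing_two (m, σ) hsL _ c1 _ c2 d1 d2))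
    exact (Nat.card_le_card_of_injective F hF).trans (le_of_eq (by simp))
  have := C.half_le hs hsi
  omega

theorem rankOne_conj : ∃ x, rankOne x ∧ C.π a = A.K.Ψ x := by
  obtain ⟨x, hx⟩ := A.K.bij.2 (C.π a)
  refine ⟨x, ?_, hx.symm⟩
  have hq : qc x = 0 := natz (code_small _) (by rw [← A.K.form, hx]; exact C.q_πa hg ha hne)
  have hx0 : x ≠ 0 := fun e => C.πa_ne hg ha hne (by rw [← hx, e, A.Ψ_zero])
  obtain ⟨c, hc, hr⟩ := orbit_reps x hq hx0
  obtain ⟨h, hhc, hhσ, hh⟩ := A.exists_cent c.1 (orbitL_sign c hc)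
  rcases hr with hr | hr
  · obtain ⟨m', hm'⟩ := A.code_cent (h := h⁻¹) hhc.inv_left
    have h1 : act false m' (C.T.f h⁻¹).2 1 = x := A.K.bij.1 (by
      rw [← hm', ← hr, ← hh, ← LinearEquiv.mul_apply, ← map_mul, inv_mul_cancel, map_one]; rfl)
    rw [← h1]
    exact rankOne_orbit _ _
  · exfalso
    obtain ⟨y, hy, hyπ⟩ := C.π_surj (A.K.Ψ 22)
    obtain ⟨m, hmz, hμ, hma⟩ := C.exists_lift ha hy (C.πa_ne hg ha hne) (h := h) (by rw [← hx, hh, hr, hyπ])
    refine A.two_false (a := y) (g := m * g) ?_ hy ?_ hyπ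
    · rw [← hma, ← hg]; group
    · intro e
      rw [← hma] at e
      refine hne ?_
      calc a = m⁻¹ * (m * a * m⁻¹) * m := by group
        _ = C.z := by rw [e, mul_assoc, ← hmz.eq, inv_mul_cancel_left]

/-- The intersection and its stabilizer of two further vectors for the vector `1`. -/
theorem one_structure (hv : C.π a = A.K.Ψ 1) :
    (∀ x, A.K.Ψ x ∈ C.ximg g ↔ x ∈ xOne) ∧
      ∀ x, Commute x C.z → g⁻¹ * x * g ∈ C.Q → C.ρ (C.μ x) (A.K.Ψ 6) = A.K.Ψ 6 →
        C.ρ (C.μ x) (A.K.Ψ 16) = A.K.Ψ 16 →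
        C.μ x = 1 ∨ (Commute (C.μ x) C.T.w ∧ (C.T.f (C.μ x)).2 = swap 2 3 * swap 4 5) := by
  obtain ⟨L, hab, hsq, hfix, hsh, hX, hP0, hcard, hLinv, hLmem⟩ := C.exists_L' hg ha hne
  classical
  haveI : Finite H := Finite.of_injective _ C.T.inj
  set L₀ := L ⊓ centralizer ({C.T.w} : Set H) with hL₀
  have hk := C.ximg_dim hg ha hne
  have h8 : 8 ≤ Nat.card L := by
    have h4 : 2 ^ finrank (ZMod 2) (C.ximg g) ≤ 2 ^ 4 := Nat.pow_le_pow_right (by norm_num) hk
    nlinarith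
  obtain ⟨s, hs, hsi⟩ := A.inverting_exists hg ha hne hsq hfix hsh hX hP0 h8
  have hperp : ∀ y, bc y 1 = 0 → 𝐁 (A.K.Ψ y) (C.π a) = 0 := fun y hy => by
    rw [hv, A.Ψ_B, hy, Nat.cast_zero]
  have hinvL : ∀ l ∈ L, ¬ Commute l C.T.w →
      (C.T.f l).2 ∈ invL ∧ ∀ x, C.ρ l (A.K.Ψ x) = A.K.Ψ (act true 0 (C.T.f l).2 x) := by
    intro l hl hi
    obtain ⟨m, hm⟩ := A.code_inv hi
    have hq : ∀ y ∈ perpOne, qc (xadd (act true m (C.T.f l).2 y) y) = 0 := fun y hy => natz (code_small _) (by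
      rw [← A.K.form, ← A.Ψ_shift hm]
      exact C.ximg_ts hg ha hne _ (hsh l hl _ (hperp y (perpOne_ok y hy))))
    obtain ⟨rfl, h⟩ := inverting_one _ (A.snd_mem' (hsq l hl)) m
      (A.K.bij.1 (by rw [← hm, ← hv]; exact hfix l hl)) (hq 96 (by decide)) (hq 160 (by decide))
    exact ⟨h, hm⟩
  obtain ⟨hσL, hσ⟩ := hinvL s hs hsi
  have hcentL : ∀ l ∈ L₀, l ≠ 1 → (C.T.f l).2 ∈ centL := by
    rintro l ⟨hlL, hlc⟩ h1
    have hc : Commute l C.T.w := mem_centralizer_singleton_iff.mp hlc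
    have hl := A.code_invol (hsq l hlL) hc
    have hBB : ∀ y, bc y 1 = 0 →
        bc (xadd (act true 0 (C.T.f s).2 y) y) (xadd (act false 0 (C.T.f l).2 y) y) = 0 := fun y hy => by
      refine natz (Nat.mod_lt _ (by norm_num)) ?_
      rw [← A.Ψ_B, ← A.Ψ_shift hσ, ← A.Ψ_shift hl]
      exact QS.B_of_ts (C.ximg_ts hg ha hne) _ (hsh s hs _ (hperp y hy)) _ (hsh l hlL _ (hperp y hy))
    refine centralizing_one _ (A.snd_mem (hsq l hlL) hc h1) (A.K.bij.1 (by rw [← hl, ← hv]; exact hfix l hlL))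
      _ hσL (A.K.bij.1 ?_) (hBB 96 (perpOne_ok _ (by decide))) (hBB 160 (perpOne_ok _ (by decide)))
    rw [← hσ, ← hl, ← hl, ← hσ, ← LinearEquiv.mul_apply, ← LinearEquiv.mul_apply, ← map_mul, ← map_mul,
      (hab s hs l hlL).eq]
  -- rotation
  obtain ⟨r, hrc, hrσ, hr⟩ := A.exists_cent 0 rot3_ok.1
  obtain ⟨d, hdz, hμd, hda⟩ := C.exists_lift ha ha (C.πa_ne hg ha hne) (h := r) (by rw [hv, hr, rot3_ok.2.2.1])
  have hrot : ∀ l ∈ L₀, r * l * r⁻¹ ∈ L₀ ∧ (C.T.f (r * l * r⁻¹)).2 = rot3 * (C.T.f l).2 * rot3⁻¹ := by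
    rintro l ⟨hlL, hlc⟩
    refine ⟨⟨?_, ?_⟩, by simp [hrσ]⟩
    · rw [← hμd]; exact hLinv d hdz (mul_inv_eq_iff_eq_mul.mp hda) l hlL
    · exact mem_centralizer_singleton_iff.mpr
        ((hrc.mul_left (mem_centralizer_singleton_iff.mp hlc)).mul_left hrc.inv_left).eq
  have hinj : ∀ l ∈ L₀, ∀ l' ∈ L₀, (C.T.f l).2 = (C.T.f l').2 → l = l' := fun l hl l' hl' h =>
    A.snd_inj (hsq l hl.1) (mem_centralizer_singleton_iff.mp hl.2) (hsq l' hl'.1)
      (mem_centralizer_singleton_iff.mp hl'.2) h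
  have hhalf := C.half_le hs hsi
  rw [← hL₀] at hhalf
  haveI := Fintype.ofFinite L₀
  obtain ⟨l₁, hl₁1, hl₁s⟩ : ∃ l : L₀, (l : H) ≠ 1 ∧ (C.T.f (l : H)).2 ≠ swap 0 1 := by
    by_contra hno
    push Not at hno
    let F : L₀ → Bool := fun l => decide ((l : H) = 1)
    have hF : Function.Injective F := by
      intro l l' e
      by_cases h1 : (l : H) = 1
      · exact Subtype.ext (h1.trans ((decide_eq_decide.mp e).mp h1).symm)
      · exact Subtype.ext (hinj _ l.2 _ l'.2 ((hno l h1).trans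
          (hno l' fun e' => h1 ((decide_eq_decide.mp e).mpr e')).symm))
    have h2 : Nat.card L₀ ≤ 2 := (Nat.card_le_card_of_injective F hF).trans (le_of_eq (by simp))
    omega
  obtain ⟨hl₂, hσ₂⟩ := hrot l₁ l₁.2
  set l₂ := r * (l₁ : H) * r⁻¹
  have hl₂1 : l₂ ≠ 1 := fun e => hl₁1 (conj_eq_one_iff.mp e)
  have hp : (C.T.f ((l₁ : H) * l₂)).2 ∈ fourL := by
    rw [map_mul, Prod.snd_mul]
    exact centL_four _ (hcentL _ l₁.2 hl₁1) hl₁s _ (hcentL _ hl₂ hl₂1) hσ₂
  have hall : ∀ π ∈ fourL, ∃ l ∈ L₀, (C.T.f l).2 = π := by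
    intro π hπ
    have hp' : (l₁ : H) * l₂ ∈ L₀ := mul_mem l₁.2 hl₂
    obtain ⟨h1, e1⟩ := hrot _ hp'
    obtain ⟨h2, e2⟩ := hrot _ h1
    rw [e1] at e2
    rcases four_orbit _ hp π hπ with e | e | e
    exacts [⟨_, hp', e.symm⟩, ⟨_, h1, e1.trans e.symm⟩, ⟨_, h2, e2.trans e.symm⟩]
  have h16 : A.K.Ψ 16 ∈ C.ximg g := by
    obtain ⟨l, hl, e⟩ := hall _ List.mem_cons_self
    obtain ⟨y, hy, hye⟩ := centL_shift _ (List.mem_cons_self :
      swap 2 3 * swap 4 5 ∈ [swap (2 : Fin 6) 3 * swap 4 5, swap 2 4 * swap 3 5, swap 2 5 * swap 3 4])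
    rw [← hye, ← e, ← A.Ψ_shift (A.code_invol (hsq l hl.1) (mem_centralizer_singleton_iff.mp hl.2))]
    exact hsh l hl.1 _ (hperp y ((fourL_misc.2.2.2.1 y).mp hy))
  have hsub : ∀ x ∈ xOne, A.K.Ψ x ∈ C.ximg g := by
    intro x hx
    obtain ⟨y, hy, e⟩ := xOne_shifts _ hσL x hx
    have hmem : A.K.Ψ (xadd (act true 0 (C.T.f s).2 y) y) ∈ C.ximg g := by
      rw [← A.Ψ_shift hσ]; exact hsh s hs _ (hperp y ((fourL_misc.2.2.2.1 y).mp hy))
    rcases e with e | e
    · exact e ▸ hmem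
    · rw [← e, A.K.add]; exact add_mem hmem h16
  haveI := Fintype.ofFinite (C.ximg g)
  let emb : {x : Fin 256 // x ∈ xOne.toFinset} → C.ximg g := fun x =>
    ⟨A.K.Ψ x, hsub x (List.mem_toFinset.mp x.2)⟩
  have hembinj : Function.Injective emb := fun x y e => Subtype.ext (A.K.bij.1 (congrArg Subtype.val e))
  have hcardX : Nat.card {x : Fin 256 // x ∈ xOne.toFinset} = 16 := by
    rw [Nat.card_eq_fintype_card, Fintype.card_coe, List.toFinset_card_of_nodup xOne_nodup]; rfl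
  have hXc : Nat.card (C.ximg g) = 2 ^ finrank (ZMod 2) (C.ximg g) := by
    rw [Module.natCard_eq_pow_finrank (K := ZMod 2) (V := C.ximg g), Nat.card_zmod]
  have hk4 : finrank (ZMod 2) (C.ximg g) = 4 := by
    have h := Nat.card_le_card_of_injective emb hembinj
    rw [hcardX, hXc, show (16 : ℕ) = 2 ^ 4 from rfl, Nat.pow_le_pow_iff_right (by norm_num : 1 < 2)] at h
    omega
  have hbij : Function.Bijective emb := (Fintype.bijective_iff_injective_and_card emb).mpr ⟨hembinj, by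
    rw [← Nat.card_eq_fintype_card, ← Nat.card_eq_fintype_card, hcardX, hXc, hk4]; rfl⟩
  refine ⟨fun x => ⟨fun hx => ?_, hsub x⟩, ?_⟩
  · obtain ⟨y, hy⟩ := hbij.2 ⟨_, hx⟩
    rw [← A.K.bij.1 (congrArg Subtype.val hy)]
    exact List.mem_toFinset.mp y.2
  have hL8 : Nat.card L = 8 := by rw [hk4] at hcard; omega
  have hL₀4 : Nat.card L₀ = 4 := by
    have hdvd : Nat.card L₀ ∣ Nat.card L := Subgroup.card_dvd_of_le inf_le_left
    have hneq : Nat.card L₀ ≠ Nat.card L := fun e => by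
      have he := Subgroup.eq_of_le_of_card_ge (inf_le_left : L₀ ≤ L) e.ge
      have hs0 : s ∈ L ⊓ centralizer ({C.T.w} : Set H) := by rw [he]; exact hs
      exact hsi (mem_centralizer_singleton_iff.mp hs0.2)
    rw [hL8] at hdvd hneq hhalf
    have hlt := Nat.le_of_dvd (by norm_num) hdvd
    interval_cases Nat.card L₀ <;> omega
  have hfour : ∀ l ∈ L₀, l ≠ 1 → (C.T.f l).2 ∈ fourL := by
    intro l hl hl1
    by_contra hnot
    choose f hf hfe using hall
    let e : {π : Perm (Fin 6) // π ∈ ((1 : Perm (Fin 6)) :: (C.T.f l).2 :: fourL).toFinset} → L₀ := fun π =>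
      if h : (π : Perm (Fin 6)) ∈ fourL then ⟨f π h, hf π h⟩
      else if (π : Perm (Fin 6)) = 1 then 1 else ⟨l, hl⟩
    have he : ∀ π, (C.T.f (e π : H)).2 = π.1 := by
      rintro ⟨π, hπ⟩
      simp only [List.mem_toFinset, List.mem_cons] at hπ
      simp only [e]
      split_ifs with h h'
      · exact hfe π h
      · rw [h', Subgroup.coe_one, map_one]; rfl
      · exact (hπ.resolve_left h').resolve_right h |>.symm
    have hle := Nat.card_le_card_of_injective e fun π π' h => Subtype.ext (by rw [← he π, ← he π', h])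
    have hnd : ((1 : Perm (Fin 6)) :: (C.T.f l).2 :: fourL).Nodup := by
      refine List.nodup_cons.mpr ⟨fun h => ?_, List.nodup_cons.mpr ⟨hnot, fourL_misc.2.1⟩⟩
      rcases List.mem_cons.mp h with h | h
      · exact hl1 (hinj l hl 1 (one_mem _) (by rw [← h, map_one]; rfl))
      · exact (fourL_misc.1 1 h).1 rfl
    rw [Nat.card_eq_fintype_card, Fintype.card_coe, List.toFinset_card_of_nodup hnd, hL₀4] at hle
    simp [fourL] at hle
  intro x hxz hxQ h6 h16'
  have hxL := hLmem x hxz hxQ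
  by_cases h1 : C.μ x = 1
  · exact Or.inl h1
  refine Or.inr ?_
  have hc : Commute (C.μ x) C.T.w := by
    by_contra hi
    obtain ⟨hxσ, hx'⟩ := hinvL _ hxL hi
    exact fourL_misc.2.2.1 _ hxσ (A.K.bij.1 (by rw [← hx']; exact h16'))
  refine ⟨hc, ?_⟩
  have hl₀ : C.μ x ∈ L₀ := ⟨hxL, mem_centralizer_singleton_iff.mpr hc.eq⟩
  have hfour' := hfour _ hl₀ h1
  rcases fix_pairs _ (hcentL _ hl₀ h1)
    (A.K.bij.1 (by rw [← A.code_invol (hsq _ hxL) hc]; exact h6)) with e | e | e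
  · exact e
  · exact absurd e (fourL_misc.1 _ hfour').2.2
  · exact absurd e (fourL_misc.1 _ hfour').2.1

end A

end Ctx

end Cfsg.Lib.LargeExtra.EightSmith
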