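import Mathlib.GroupTheory.Sylow
import Mathlib.GroupTheory.SpecificGroups.Alternating.Simple
import Mathlib.GroupTheory.Perm.Fin
import Mathlib.Tactic.NormNum

/-!
# The symmetric groups on three and six points
-/

set_option autoImplicit false
set_option linter.style.haveILetI false
set_option linter.unusedSectionVars false
set_option maxRecDepth 40000

open Equiv

namespace Cfsg.Lib.LargeExtra.EightSmith

/-- The product of the two symmetric groups. -/
abbrev TS : Type := Perm (Fin 3) × Perm (Fin 6)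

/-- A transposition of three points. -/
def tau3 : Perm (Fin 3) := swap 0 1

/-- A three-cycle of three points. -/
def cyc3 : Perm (Fin 3) := swap 0 1 * swap 1 2

/-- A double transposition. -/
def dbl : Perm (Fin 6) := swap 0 1 * swap 2 3

/-- A Sylow two-subgroup of the product. -/
def sylP : Subgroup TS where
  carrier := {p | p.1 * tau3 = tau3 * p.1 ∧ p.2 * dbl = dbl * p.2}
  one_mem' := ⟨by rw [Prod.fst_one, one_mul, mul_one], by rw [Prod.snd_one, one_mul, mul_one]⟩
  mul_mem' := fun {a b} ha hb => ⟨Commute.mul_left (show Commute a.1 tau3 from ha.1) hb.1,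
    Commute.mul_left (show Commute a.2 dbl from ha.2) hb.2⟩
  inv_mem' := fun {a} ha => ⟨(show Commute a.1 tau3 from ha.1).inv_left, (show Commute a.2 dbl from ha.2).inv_left⟩

theorem mem_sylP {p : TS} : p ∈ sylP ↔ p.1 * tau3 = tau3 * p.1 ∧ p.2 * dbl = dbl * p.2 := Iff.rfl

theorem card_fst : Fintype.card {a : Perm (Fin 3) // a * tau3 = tau3 * a} = 2 := by decide +kernel

theorem card_snd : Fintype.card {b : Perm (Fin 6) // b * dbl = dbl * b} = 16 := by decide +kernel

theorem card_sylP : Nat.card sylP = 2 ^ 5 := by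
  rw [Nat.card_congr (show sylP ≃ {a : Perm (Fin 3) // a * tau3 = tau3 * a} × {b : Perm (Fin 6) // b * dbl = dbl * b} from
    { toFun := fun p => (⟨p.1.1, p.2.1⟩, ⟨p.1.2, p.2.2⟩)
      invFun := fun p => ⟨(p.1.1, p.2.1), p.1.2, p.2.2⟩
      left_inv := fun _ => rfl
      right_inv := fun _ => rfl }), Nat.card_prod, Nat.card_eq_fintype_card, Nat.card_eq_fintype_card, card_fst,
    card_snd]
  rfl

theorem card_TS : Nat.card TS = 2 ^ 5 * 135 := by
  rw [Nat.card_prod, Nat.card_perm, Nat.card_perm, Nat.card_fin, Nat.card_fin]; rfl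

theorem exists_conj (B : Subgroup TS) (hB : IsPGroup 2 B) : ∃ g : TS, ∀ b ∈ B, g * b * g⁻¹ ∈ sylP := by
  haveI : Fact (Nat.Prime 2) := ⟨Nat.prime_two⟩
  have hfac : 2 ^ (Nat.card TS).factorization 2 = 2 ^ 5 := by
    rw [card_TS, Nat.factorization_mul_apply_of_coprime (by norm_num), Nat.prime_two.factorization_pow,
      Finsupp.single_eq_same, Nat.factorization_eq_zero_of_not_dvd (by norm_num)]
  let P : Sylow 2 TS := Sylow.ofCard sylP (by rw [hfac, card_sylP])
  obtain ⟨R, hR⟩ := hB.exists_le_sylow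
  obtain ⟨g, hg⟩ := MulAction.exists_smul_eq TS R P
  refine ⟨g, fun b hb => ?_⟩
  have : g * b * g⁻¹ ∈ ((g • R : Sylow 2 TS) : Subgroup TS) :=
    Subgroup.smul_mem_pointwise_smul b (MulAut.conj g) _ (hR hb)
  rw [hg] at this
  exact this

/-- The centre of the Sylow subgroup. -/
def zenP : List TS := [1, (1, dbl), (1, swap 4 5), (1, dbl * swap 4 5),
  (tau3, 1), (tau3, dbl), (tau3, swap 4 5), (tau3, dbl * swap 4 5)]

theorem zenP_nodup : zenP.Nodup := by decide +kernel

theorem zenP_closed : ∀ x ∈ zenP, ∀ y ∈ zenP, x * y⁻¹ ∈ zenP := by decide +kernel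

theorem zenP_mem : ∀ x ∈ zenP, x.1 * tau3 = tau3 * x.1 ∧ x.2 * dbl = dbl * x.2 := by decide +kernel

theorem zenP_central_fst : ∀ x ∈ zenP, ∀ a : Perm (Fin 3), a * tau3 = tau3 * a → a * x.1 = x.1 * a := by
  decide +kernel

theorem zenP_central_snd : ∀ x ∈ zenP, ∀ a : Perm (Fin 6), a * dbl = dbl * a → a * x.2 = x.2 * a := by
  decide +kernel

/-- A two-subgroup has a central subgroup of index at most four. -/
theorem central_index (B : Subgroup TS) (hB : IsPGroup 2 B) :
    ∃ Z ≤ B, (∀ x ∈ Z, ∀ b ∈ B, Commute x b) ∧ Nat.card B ≤ 4 * Nat.card Z := by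
  classical
  obtain ⟨g, hg⟩ := exists_conj B hB
  have h1 : (1 : TS) ∈ zenP := by decide +kernel
  let W : Subgroup TS :=
    { carrier := {x | g * x * g⁻¹ ∈ zenP}
      one_mem' := by show g * 1 * g⁻¹ ∈ zenP; rw [mul_one, mul_inv_cancel]; exact h1
      mul_mem' := fun {a b} ha hb => by
        show g * (a * b) * g⁻¹ ∈ zenP
        have hb' := zenP_closed _ h1 _ hb
        have := zenP_closed _ ha _ hb'
        convert this using 1
        group
      inv_mem' := fun {a} ha => by
        show g * a⁻¹ * g⁻¹ ∈ zenP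
        have := zenP_closed _ h1 _ ha
        convert this using 1
        group }
  refine ⟨B ⊓ W, inf_le_left, fun x hx b hb => ?_, ?_⟩
  · have hb' := mem_sylP.mp (hg b hb)
    have hc : Commute (g * b * g⁻¹) (g * x * g⁻¹) :=
      Prod.ext (zenP_central_fst _ hx.2 _ hb'.1) (zenP_central_snd _ hx.2 _ hb'.2)
    have e := congrArg (fun y => g⁻¹ * y * g) hc.eq
    simp only [mul_assoc, inv_mul_cancel_left, inv_mul_cancel, mul_one] at e
    exact e.symm
  · let c : B → sylP := fun b => ⟨g * b * g⁻¹, hg b b.2⟩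
    let Zs : Subgroup sylP := W.map (MulAut.conj g).toMonoidHom |>.subgroupOf sylP
    have hZs : ∀ p : sylP, p ∈ Zs ↔ (p : TS) ∈ zenP := fun p => by
      rw [Subgroup.mem_subgroupOf, Subgroup.mem_map_equiv, MulAut.conj_symm_apply]
      show g * (g⁻¹ * p * g) * g⁻¹ ∈ zenP ↔ _
      rw [show g * (g⁻¹ * (p : TS) * g) * g⁻¹ = p by group]
    have hZc : Nat.card Zs = 8 := by
      rw [Nat.card_congr (show Zs ≃ {x // x ∈ zenP} from
        { toFun := fun p => ⟨p.1, (hZs p.1).mp p.2⟩
          invFun := fun x => ⟨⟨x.1, zenP_mem x.1 x.2⟩, (hZs _).mpr x.2⟩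
          left_inv := fun _ => rfl
          right_inv := fun _ => rfl }), ← Nat.card_congr (List.Nodup.getEquiv zenP zenP_nodup), Nat.card_fin]
      rfl
    have hidx : Zs.index = 4 := by
      have := Subgroup.card_mul_index Zs
      rw [hZc, card_sylP] at this
      omega
    let Z : Subgroup B := (B ⊓ W).subgroupOf B
    let f : B ⧸ Z → sylP ⧸ Zs := Quotient.map' c fun a b h => by
      rw [QuotientGroup.leftRel_apply] at h ⊢
      refine (hZs _).mpr ?_
      have : ((a : TS))⁻¹ * b ∈ W := (Subgroup.mem_subgroupOf.mp h).2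
      show (g * (a : TS) * g⁻¹)⁻¹ * (g * b * g⁻¹) ∈ zenP
      rw [show (g * (a : TS) * g⁻¹)⁻¹ * (g * b * g⁻¹) = g * ((a : TS)⁻¹ * b) * g⁻¹ by group]
      exact this
    have hf : Function.Injective f := by
      intro x y
      induction x using QuotientGroup.induction_on with | H a => ?_
      induction y using QuotientGroup.induction_on with | H b => ?_
      intro h
      refine QuotientGroup.eq.mpr (Subgroup.mem_subgroupOf.mpr ⟨(a⁻¹ * b).2, ?_⟩)
      have h' := (hZs _).mp (QuotientGroup.eq.mp h)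
      show g * ((a : TS)⁻¹ * b) * g⁻¹ ∈ zenP
      convert h' using 1
      show _ = (g * (a : TS) * g⁻¹)⁻¹ * (g * b * g⁻¹)
      group
    have hle := Nat.card_le_card_of_injective f hf
    rw [← Subgroup.index, ← Subgroup.index, hidx] at hle
    have hc := Subgroup.card_mul_index Z
    rw [Nat.card_congr (Subgroup.subgroupOfEquivOfLe (inf_le_left : B ⊓ W ≤ B)).toEquiv] at hc
    calc Nat.card B = Nat.card ↥(B ⊓ W) * Z.index := hc.symm
      _ ≤ Nat.card ↥(B ⊓ W) * 4 := Nat.mul_le_mul_left _ hle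
      _ = _ := mul_comm _ _

theorem snd_noncomm : swap 0 1 * dbl = dbl * swap 0 1 ∧
    swap 0 2 * swap 1 3 * dbl = dbl * (swap 0 2 * swap 1 3) ∧
    swap (0 : Fin 6) 1 * (swap 0 2 * swap 1 3) ≠ swap 0 2 * swap 1 3 * swap 0 1 := by decide +kernel

/-- An elementary two-subgroup inside the second factor has order at most eight. -/
theorem card_elementary (B : Subgroup TS) (h2 : ∀ b ∈ B, b * b = 1) (h1 : ∀ b ∈ B, b.1 = 1) :
    Nat.card B ≤ 8 := by
  classical
  haveI : Fact (Nat.Prime 2) := ⟨Nat.prime_two⟩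
  have hP : IsPGroup 2 B := fun b => ⟨1, Subtype.ext (by
    show (b : TS) ^ 2 ^ 1 = 1
    rw [pow_one, pow_two, h2 b b.2])⟩
  obtain ⟨g, hg⟩ := exists_conj B hP
  let c : B → {b : Perm (Fin 6) // b * dbl = dbl * b} := fun b => ⟨(g * b * g⁻¹).2, (mem_sylP.mp (hg b b.2)).2⟩
  have hc : Function.Injective c := fun a b e => by
    have e2 : (g * (a : TS) * g⁻¹).2 = (g * (b : TS) * g⁻¹).2 := congrArg Subtype.val e
    have e1 : (g * (a : TS) * g⁻¹).1 = (g * (b : TS) * g⁻¹).1 := by
      show g.1 * (a : TS).1 * g.1⁻¹ = g.1 * (b : TS).1 * g.1⁻¹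
      rw [h1 a a.2, h1 b b.2]
    exact Subtype.ext (mul_left_cancel (mul_right_cancel (Prod.ext e1 e2)))
  obtain ⟨n, hn⟩ := hP.exists_card_eq
  have hle := Nat.card_le_card_of_injective c hc
  rw [Nat.card_eq_fintype_card (α := {b : Perm (Fin 6) // _}), card_snd] at hle
  by_contra h8
  have h16 : Nat.card B = 16 := by
    rw [hn] at hle h8 ⊢
    rcases Nat.lt_or_ge n 4 with h | h
    · exact absurd (Nat.pow_le_pow_right two_pos (show n ≤ 3 by omega)) h8
    · exact le_antisymm hle (Nat.pow_le_pow_right two_pos h)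
  have hb : Function.Bijective c := (Nat.bijective_iff_injective_and_card c).mpr ⟨hc, by
    rw [h16, Nat.card_eq_fintype_card, card_snd]⟩
  obtain ⟨hx, hy, hxy⟩ := snd_noncomm
  obtain ⟨a, ha⟩ := hb.2 ⟨_, hx⟩
  obtain ⟨b, hb⟩ := hb.2 ⟨_, hy⟩
  have hcom : (a : TS) * b = b * a := by
    have hinv : ∀ x ∈ B, x⁻¹ = x := fun x hx => inv_eq_of_mul_eq_one_right (h2 x hx)
    calc (a : TS) * b = ((a : TS) * b)⁻¹ := (hinv _ (mul_mem a.2 b.2)).symm
      _ = _ := by rw [mul_inv_rev, hinv _ a.2, hinv _ b.2]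
  refine hxy ?_
  rw [← show (g * (a : TS) * g⁻¹).2 = swap (0 : Fin 6) 1 from congrArg Subtype.val ha,
    ← show (g * (b : TS) * g⁻¹).2 = swap (0 : Fin 6) 2 * swap 1 3 from congrArg Subtype.val hb]
  rw [← Prod.snd_mul, ← Prod.snd_mul, show g * (a : TS) * g⁻¹ * (g * b * g⁻¹) = g * (a * b) * g⁻¹ by group, hcom,
    show g * (b : TS) * g⁻¹ * (g * a * g⁻¹) = g * (b * a) * g⁻¹ by group]

/-- The six synthematic totals. -/
def tot : Fin 6 → Fin 5 → Perm (Fin 6) :=
  ![![swap 0 1 * swap 2 3 * swap 4 5, swap 0 2 * swap 1 4 * swap 3 5, swap 0 3 * swap 1 5 * swap 2 4,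
      swap 0 4 * swap 1 3 * swap 2 5, swap 0 5 * swap 1 2 * swap 3 4],
    ![swap 0 1 * swap 2 3 * swap 4 5, swap 0 2 * swap 1 5 * swap 3 4, swap 0 3 * swap 1 4 * swap 2 5,
      swap 0 4 * swap 1 2 * swap 3 5, swap 0 5 * swap 1 3 * swap 2 4],
    ![swap 0 1 * swap 2 4 * swap 3 5, swap 0 2 * swap 1 3 * swap 4 5, swap 0 3 * swap 1 4 * swap 2 5,
      swap 0 4 * swap 1 5 * swap 2 3, swap 0 5 * swap 1 2 * swap 3 4],
    ![swap 0 1 * swap 2 4 * swap 3 5, swap 0 2 * swap 1 5 * swap 3 4, swap 0 3 * swap 1 2 * swap 4 5,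
      swap 0 4 * swap 1 3 * swap 2 5, swap 0 5 * swap 1 4 * swap 2 3],
    ![swap 0 1 * swap 2 5 * swap 3 4, swap 0 2 * swap 1 3 * swap 4 5, swap 0 3 * swap 1 5 * swap 2 4,
      swap 0 4 * swap 1 2 * swap 3 5, swap 0 5 * swap 1 4 * swap 2 3],
    ![swap 0 1 * swap 2 5 * swap 3 4, swap 0 2 * swap 1 4 * swap 3 5, swap 0 3 * swap 1 2 * swap 4 5,
      swap 0 4 * swap 1 5 * swap 2 3, swap 0 5 * swap 1 3 * swap 2 4]]

/-- The permutation carries the total `i` to the total `j`. -/
def TotMap (σ : Perm (Fin 6)) (i j : Fin 6) : Prop := ∀ k, ∃ l, σ * tot i k * σ⁻¹ = tot j l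

instance (σ : Perm (Fin 6)) (i j : Fin 6) : Decidable (TotMap σ i j) := by unfold TotMap; infer_instance

theorem tot_unique : ∀ i j : Fin 6, (∀ k, ∃ l, tot i k = tot j l) → i = j := by decide +kernel

theorem tot_swap : ∀ a b : Fin 6, ∀ i, ∃ j, TotMap (swap a b) i j := by decide +kernel

theorem TotMap.mul {σ π : Perm (Fin 6)} {i j m : Fin 6} (h₁ : TotMap π i j) (h₂ : TotMap σ j m) :
    TotMap (σ * π) i m := fun k => by
  obtain ⟨l, hl⟩ := h₁ k
  obtain ⟨l', hl'⟩ := h₂ l
  exact ⟨l', by rw [← hl', ← hl]; group⟩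

theorem tot_exists (σ : Perm (Fin 6)) : ∀ i, ∃ j, TotMap σ i j := by
  induction σ using Equiv.Perm.swap_induction_on with
  | one => exact fun i => ⟨i, fun k => ⟨k, by group⟩⟩
  | swap_mul σ a b _ ih =>
    intro i
    obtain ⟨j, hj⟩ := ih i
    obtain ⟨m, hm⟩ := tot_swap a b j
    exact ⟨m, hj.mul hm⟩

theorem TotMap.unique {σ : Perm (Fin 6)} {i j m : Fin 6} (h₁ : TotMap σ i j) (h₂ : TotMap σ i m) : j = m := by
  refine (tot_unique j m fun l => ?_)
  have hsur : ∀ l, ∃ k, σ * tot i k * σ⁻¹ = tot j l := by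
    choose p hp using h₁
    have hpi : Function.Injective p := fun a b e => by
      have h : ∀ i : Fin 6, ∀ a b : Fin 5, tot i a = tot i b → a = b := by decide +kernel
      exact h i a b (mul_left_cancel (mul_right_cancel ((hp a).trans (e ▸ (hp b).symm))))
    intro l
    obtain ⟨k, rfl⟩ := (Finite.injective_iff_surjective.mp hpi) l
    exact ⟨k, hp k⟩
  obtain ⟨k, hk⟩ := hsur l
  obtain ⟨l', hl'⟩ := h₂ k
  exact ⟨l', hk.symm.trans hl'⟩

/-- The exceptional endomorphism of the symmetric group on six points, on points. -/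
noncomputable def thetaFun (σ : Perm (Fin 6)) (i : Fin 6) : Fin 6 := (tot_exists σ i).choose

theorem thetaFun_eq {σ : Perm (Fin 6)} {i j : Fin 6} (h : TotMap σ i j) : thetaFun σ i = j :=
  (tot_exists σ i).choose_spec.unique h

theorem thetaFun_mul (σ π : Perm (Fin 6)) (i : Fin 6) : thetaFun (σ * π) i = thetaFun σ (thetaFun π i) :=
  thetaFun_eq ((tot_exists π i).choose_spec.mul (tot_exists σ _).choose_spec)

theorem thetaFun_one (i : Fin 6) : thetaFun 1 i = i := thetaFun_eq fun k => ⟨k, by group⟩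

/-- The exceptional endomorphism of the symmetric group on six points. -/
noncomputable def theta : Perm (Fin 6) →* Perm (Fin 6) where
  toFun σ :=
    { toFun := thetaFun σ
      invFun := thetaFun σ⁻¹
      left_inv := fun i => by rw [← thetaFun_mul, inv_mul_cancel, thetaFun_one]
      right_inv := fun i => by rw [← thetaFun_mul, mul_inv_cancel, thetaFun_one] }
  map_one' := Equiv.ext thetaFun_one
  map_mul' σ π := Equiv.ext (thetaFun_mul σ π)

theorem theta_eq {σ π : Perm (Fin 6)} (h : ∀ i, TotMap σ i (π i)) : theta σ = π :=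
  Equiv.ext fun i => thetaFun_eq (h i)

theorem theta_swap01 : theta (swap 0 1) = swap 0 1 * swap 2 3 * swap 4 5 := theta_eq (by decide +kernel)

theorem theta_0123 : theta (swap 0 1 * swap 2 3) = swap 2 4 * swap 3 5 := theta_eq (by decide +kernel)

theorem theta_0145 : theta (swap 0 1 * swap 4 5) = swap 2 5 * swap 3 4 := theta_eq (by decide +kernel)

theorem theta_2345 : theta (swap 2 3 * swap 4 5) = swap 2 3 * swap 4 5 := theta_eq (by decide +kernel)

/-- Five cycle. -/
def cyc5 : Perm (Fin 6) := swap 0 1 * swap 1 2 * swap 2 3 * swap 3 4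

theorem five_le : 5 ≤ Fintype.card (Fin 6) := by decide

theorem eq_one_or_alt (N : Subgroup (Perm (Fin 6))) [N.Normal] :
    N = ⊥ ∨ alternatingGroup (Fin 6) ≤ N := by
  haveI : IsSimpleGroup (alternatingGroup (Fin 6)) :=
    alternatingGroup.isSimpleGroup (by rw [Nat.card_fin]; decide)
  rcases (inferInstance : (N.subgroupOf (alternatingGroup (Fin 6))).Normal).eq_bot_or_eq_top with h | h
  · left
    refine (Subgroup.eq_bot_iff_forall _).mpr fun x hx => ?_
    have hc : ∀ y, Perm.sign y = 1 → Commute x y := fun y hy => by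
      have hm : x * y * x⁻¹ * y⁻¹ ∈ N := by
        rw [show x * y * x⁻¹ * y⁻¹ = x * (y * x⁻¹ * y⁻¹) by group]
        exact mul_mem hx (Subgroup.Normal.conj_mem inferInstance _ (inv_mem hx) y)
      have hs : Perm.sign (x * y * x⁻¹ * y⁻¹) = 1 := by
        rw [map_mul, map_mul, map_mul, map_inv, map_inv, hy, mul_one, inv_one, mul_one, mul_inv_cancel]
      have : (⟨_, Perm.mem_alternatingGroup.mpr hs⟩ : alternatingGroup (Fin 6)) ∈
          N.subgroupOf (alternatingGroup (Fin 6)) := hm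
      rw [h, Subgroup.mem_bot] at this
      exact mul_inv_eq_iff_eq_mul.mp (mul_inv_eq_one.mp (congrArg Subtype.val this))
    have key : ∀ x : Perm (Fin 6), x * cyc5 = cyc5 * x → x * (swap 0 1 * swap 1 5) = swap 0 1 * swap 1 5 * x →
        x = 1 := by decide +kernel
    exact key x (hc _ (by decide +kernel)).eq (hc _ (by decide +kernel)).eq
  · exact Or.inr (Subgroup.subgroupOf_eq_top.mp h)

theorem theta_injective : Function.Injective theta := by
  rw [← MonoidHom.ker_eq_bot_iff]
  refine (eq_one_or_alt theta.ker).resolve_right fun h => ?_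
  have := MonoidHom.mem_ker.mp (h (Perm.mem_alternatingGroup.mpr (show Perm.sign (swap (0 : Fin 6) 1 * swap 2 3) = 1 by
    decide +kernel)))
  rw [theta_0123] at this
  exact absurd this (by decide +kernel)

theorem theta_bijective : Function.Bijective theta :=
  ⟨theta_injective, Finite.injective_iff_surjective.mp theta_injective⟩

theorem sign_theta {σ : Perm (Fin 6)} (h : Perm.sign σ = 1) : Perm.sign (theta σ) = 1 := by
  rcases eq_one_or_alt (Perm.sign.comp theta).ker with e | e
  · refine absurd ?_ (show swap (0 : Fin 6) 1 * swap 2 3 ≠ 1 by decide +kernel)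
    rw [← Subgroup.mem_bot, ← e, MonoidHom.mem_ker, MonoidHom.comp_apply, theta_0123]
    decide +kernel
  · exact MonoidHom.mem_ker.mp (e (Perm.mem_alternatingGroup.mpr h))

theorem exists_theta {σ : Perm (Fin 6)} (h : Perm.sign σ = 1) : ∃ π, Perm.sign π = 1 ∧ theta π = σ := by
  classical
  let f : {π : Perm (Fin 6) // Perm.sign π = 1} → {π : Perm (Fin 6) // Perm.sign π = 1} :=
    fun π => ⟨theta π, sign_theta π.2⟩
  have hf : Function.Injective f := fun a b e => Subtype.ext (theta_injective (congrArg Subtype.val e))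
  obtain ⟨π, hπ⟩ := (Finite.injective_iff_surjective.mp hf) ⟨σ, h⟩
  exact ⟨π, π.2, congrArg Subtype.val hπ⟩

end Cfsg.Lib.LargeExtra.EightSmith
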